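import Cfsg.Agent.G2TwoRecog.Tools

/-!
# The principal block at the prime seven
-/

set_option autoImplicit false
set_option linter.unusedSectionVars false

namespace CfsgLib.G2TwoRecog

open Cfsg CfsgLib.PrincipalBlock CfsgLib.LargePrime
open scoped ComplexConjugate

universe u

variable {G : Type u} [Group G] [Fintype G] [Fact (Nat.Prime 7)] {P : Sylow 7 G}
  (S : Core P) (D : BlockData P)

include S in
theorem not_seven_dvd {g : G} (h : orderOf g = 1 ∨ orderOf g = 2 ∨ orderOf g = 3 ∨ orderOf g = 6) :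
    ¬ 7 ∣ orderOf g := by
  rcases h with h | h | h | h <;> rw [h] <;> norm_num

include S in
theorem rel_deg {θ : IrrCharacter G} (hθ : θ ∈ D.Y) :
    D.ε * (Cfsg.charDegree (θ : G → ℂ) : ℤ) =
      ∑ χ ∈ D.X, D.δ χ * (Cfsg.charDegree (χ : G → ℂ) : ℤ) := by
  have h := D.rel θ hθ 1 (by rw [orderOf_one]; norm_num)
  simp only [apply_one] at h
  exact_mod_cast h

include S in
theorem deg_out_dvd {χ : IrrCharacter G} (hχ : χ ∈ D.out) :
    7 ∣ Cfsg.charDegree (χ : G → ℂ) := by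
  classical
  obtain ⟨m, hm⟩ := sum_subgroup χ (P : Subgroup G)
  obtain ⟨h1, h2⟩ := D.mem_out.1 hχ
  rw [Finset.sum_eq_single (1 : ↥(P : Subgroup G))
    (fun y _ hy => D.out_val χ h1 h2 y y.2 fun h => hy (Subtype.ext h))
    (fun h => absurd (Finset.mem_univ _) h), S.card] at hm
  refine ⟨m, ?_⟩
  have : (Cfsg.charDegree (χ : G → ℂ) : ℂ) = ((7 * m : ℕ) : ℂ) := by
    rw [← apply_one]; push_cast; exact_mod_cast hm
  exact_mod_cast this

theorem degX_mod {χ : IrrCharacter G} (hχ : χ ∈ D.X) :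
    (7 : ℤ) ∣ (Cfsg.charDegree (χ : G → ℂ) : ℤ) - D.δ χ := by
  rw [D.degX χ hχ]
  exact ⟨qdim P χ - D.δ χ, by push_cast; ring⟩

theorem degY_mod {θ : IrrCharacter G} (hθ : θ ∈ D.Y) :
    (7 : ℤ) ∣ (Cfsg.charDegree (θ : G → ℂ) : ℤ) - D.ε * eIdx P := by
  rw [D.degY θ hθ]
  exact ⟨qdim P θ, by push_cast; ring⟩

/-- Degrees in the family `Y` agree. -/
theorem degY_eq {θ θ' : IrrCharacter G} (hθ : θ ∈ D.Y) (hθ' : θ' ∈ D.Y) :
    Cfsg.charDegree (θ : G → ℂ) = Cfsg.charDegree (θ' : G → ℂ) := by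
  have h := D.eqY θ hθ θ' hθ' 1 (by rw [orderOf_one]; norm_num)
  simp only [apply_one] at h
  exact_mod_cast h

include S in
/-- The values of `Y` on `P`. -/
theorem sum_Y_val {θ : IrrCharacter G} (hθ : θ ∈ D.Y) {y : G} (hy : y ∈ (P : Subgroup G))
    (hy1 : y ≠ 1) : ∑ η ∈ D.Y, (η : G → ℂ) y = -(D.ε : ℂ) := by
  classical
  have hall := Characters.sum_irr_mul_conj y (1 : G)
  rw [show Nat.card {x : G // x * y * x⁻¹ = 1} = 0 by
    haveI : IsEmpty {x : G // x * y * x⁻¹ = 1} := ⟨fun x => hy1 (conj_eq_one_iff.1 x.2)⟩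
    exact Nat.card_of_isEmpty, Nat.cast_zero, D.sum_split] at hall
  simp only [apply_one, Complex.conj_natCast] at hall
  rw [Finset.sum_eq_zero (s := D.out) (fun χ hχ => by
      rw [D.out_val χ (D.mem_out.1 hχ).1 (D.mem_out.1 hχ).2 y hy hy1, zero_mul]),
    Finset.sum_congr (s₂ := D.X) rfl (g := fun χ => ((D.δ χ * Cfsg.charDegree (χ : G → ℂ) : ℤ) : ℂ))
      (fun χ hχ => by rw [D.valX χ hχ y hy hy1]; push_cast; ring),
    Finset.sum_congr (s₂ := D.Y) rfl
      (g := fun η => (η : G → ℂ) y * (Cfsg.charDegree (θ : G → ℂ) : ℂ))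
      (fun η hη => by rw [degY_eq D hη hθ]), ← Finset.sum_mul, ← Int.cast_sum, ← rel_deg S D hθ,
    add_zero] at hall
  have hd : (Cfsg.charDegree (θ : G → ℂ) : ℂ) ≠ 0 := by
    rw [← apply_one]; exact Characters.irr_one_ne_zero θ.2
  refine mul_right_cancel₀ hd ?_
  push_cast at hall ⊢
  linear_combination hall

/-- The squares of the degrees in the block. -/
theorem sum_sq_le {θ : IrrCharacter G} (hθ : θ ∈ D.Y) :
    ∑ χ ∈ D.X, Cfsg.charDegree (χ : G → ℂ) ^ 2 + kIdx P * Cfsg.charDegree (θ : G → ℂ) ^ 2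
      ≤ Nat.card G := by
  classical
  have hall := Characters.sum_irr_mul_conj (1 : G) (1 : G)
  rw [show Nat.card {x : G // x * 1 * x⁻¹ = 1} = Nat.card G from
    Nat.card_congr (Equiv.subtypeUnivEquiv fun x => by simp)] at hall
  simp only [apply_one, Complex.conj_natCast] at hall
  have h2 : ∑ χ : IrrCharacter G, Cfsg.charDegree (χ : G → ℂ) ^ 2 = Nat.card G := by
    have : ∀ χ : IrrCharacter G, ((Cfsg.charDegree (χ : G → ℂ) ^ 2 : ℕ) : ℂ) =
        (Cfsg.charDegree (χ : G → ℂ) : ℂ) * (Cfsg.charDegree (χ : G → ℂ) : ℂ) := fun χ => by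
      push_cast; ring
    apply Nat.cast_injective (R := ℂ)
    rw [Nat.cast_sum, Finset.sum_congr rfl fun χ _ => this χ, hall]
  rw [← h2, D.sum_split, ← D.cardY, ← smul_eq_mul (a := D.Y.card), ← Finset.sum_const,
    Finset.sum_congr rfl (f := fun χ : IrrCharacter G => Cfsg.charDegree (χ : G → ℂ) ^ 2)
      (g := fun _ => Cfsg.charDegree (θ : G → ℂ) ^ 2) (s₁ := D.Y)
      (fun η hη => by rw [degY_eq D hη hθ])]
  exact Nat.le_add_right _ _

include S in
/-- The class equation at an involution. -/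
theorem invol_count {θ : IrrCharacter G} (hθ : θ ∈ D.Y) {t : G} (ht : orderOf t = 2)
    [Decidable (∃ u : G, u ∈ Subgroup.normalizer ((P : Subgroup G) : Set G) ∧ IsConj t u)] :
    (if ∃ u : G, u ∈ Subgroup.normalizer ((P : Subgroup G) : Set G) ∧ IsConj t u then
        7 * (Nat.card (Subgroup.centralizer ({t} : Set G)) : ℂ) ^ 2 else 0) =
      (Nat.card G : ℂ) * (∑ χ ∈ D.X, (D.δ χ : ℂ) * (χ : G → ℂ) t ^ 2 / (χ : G → ℂ) 1
        - (D.ε : ℂ) * (θ : G → ℂ) t ^ 2 / (θ : G → ℂ) 1) := by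
  classical
  set Sf : Finset G := Finset.univ.filter fun g => g ∈ (P : Subgroup G) ∧ g ≠ 1 with hSf
  have hS : ∀ g, g ∈ Sf ↔ g ∈ (P : Subgroup G) ∧ g ≠ 1 := fun g => by simp [hSf]
  have h1 := Small.Degree.card_pairs_eq (p := 7) S.card S.self (by norm_num) ht Sf hS
  rw [ClassPairs.card_pairs, D.sum_split] at h1
  have hcard : Sf.card = 6 := by
    have hS' : Sf = (Finset.univ.filter (· ∈ (P : Subgroup G))).erase 1 := by
      ext g; simp [hS, and_comm]
    rw [hS', Finset.card_erase_of_mem (by simp), ← Fintype.card_subtype,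
      ← Nat.card_eq_fintype_card, S.card]
  have hX : ∀ χ ∈ D.X, ∑ s ∈ Sf, conj ((χ : G → ℂ) s) = 6 * (D.δ χ : ℂ) := by
    intro χ hχ
    rw [Finset.sum_congr rfl (g := fun _ => (D.δ χ : ℂ)) fun s hs => by
      rw [D.valX χ hχ s ((hS s).1 hs).1 ((hS s).1 hs).2, map_intCast], Finset.sum_const, hcard,
      nsmul_eq_mul]
    norm_num
  have hY : ∑ η ∈ D.Y, (∑ s ∈ Sf, conj ((η : G → ℂ) s)) *
      ((η : G → ℂ) t * (η : G → ℂ) t / (η : G → ℂ) 1) =
      (-(D.ε : ℂ) * 6) * ((θ : G → ℂ) t * (θ : G → ℂ) t / (θ : G → ℂ) 1) := by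
    rw [Finset.sum_congr rfl (g := fun η : IrrCharacter G => (∑ s ∈ Sf, conj ((η : G → ℂ) s)) *
        ((θ : G → ℂ) t * (θ : G → ℂ) t / (θ : G → ℂ) 1)) fun η hη => by
      rw [D.eqY η hη θ hθ t (by rw [ht]; norm_num), D.eqY η hη θ hθ 1 (by rw [orderOf_one]; norm_num)],
      ← Finset.sum_mul, Finset.sum_comm]
    congr 1
    rw [Finset.sum_congr rfl (g := fun _ => -(D.ε : ℂ)) fun s hs => by
      rw [← map_sum, sum_Y_val S D hθ ((hS s).1 hs).1 ((hS s).1 hs).2, map_neg, map_intCast],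
      Finset.sum_const, hcard, nsmul_eq_mul]
    ring
  rw [hY, Finset.sum_eq_zero (s := D.out) (fun χ hχ => by
      rw [Finset.sum_eq_zero fun s hs => by
        rw [D.out_val χ (D.mem_out.1 hχ).1 (D.mem_out.1 hχ).2 s ((hS s).1 hs).1 ((hS s).1 hs).2,
          map_zero], zero_mul]),
    Finset.sum_congr (s₂ := D.X) rfl
      (g := fun χ => 6 * ((D.δ χ : ℂ) * (χ : G → ℂ) t ^ 2 / (χ : G → ℂ) 1))
      (fun χ hχ => by rw [hX χ hχ]; ring), ← Finset.mul_sum] at h1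
  refine mul_left_cancel₀ (show (6 : ℂ) ≠ 0 by norm_num) ?_
  split_ifs at h1 ⊢ with h
  · push_cast at h1
    linear_combination -h1
  · linear_combination -h1

end CfsgLib.G2TwoRecog
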