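import Cfsg.Agent.G2TwoRecog.Local
import Cfsg.Agent.LargePrime.Degrees

/-!
# The character of degree six of a simple group of order 6048
-/

set_option autoImplicit false
set_option linter.unusedSectionVars false
set_option linter.style.haveILetI false

namespace CfsgLib.G2TwoRecog

open Cfsg CfsgLib.PrincipalBlock CfsgLib.LargePrime
open scoped ComplexConjugate

universe u

variable {G : Type u} [Group G] [Fintype G]

/-- A simple group of order 6048 without elements of order 9, 14 and 21. -/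
structure Hyp (G : Type u) [Group G] : Prop where
  simple : IsSimpleGroup G
  noncomm : ¬ IsMulCommutative G
  card : Nat.card G = 6048
  no9 : ∀ g : G, orderOf g ≠ 9
  no14 : ∀ g : G, orderOf g ≠ 14
  no21 : ∀ g : G, orderOf g ≠ 21

namespace Hyp

variable (H : Hyp G)
include H

theorem order_cases (g : G) :
    orderOf g = 1 ∨ orderOf g = 3 ∨ orderOf g = 7 ∨ 2 ∣ orderOf g := by
  have hd : orderOf g ∣ 6048 := H.card ▸ orderOf_dvd_natCard g
  by_contra hc
  simp only [not_or] at hc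
  obtain ⟨h1, h3, h7, h2⟩ := hc
  have hodd : orderOf g ∣ 189 := by
    have hcop : (orderOf g).Coprime (2 ^ 5) :=
      ((Nat.prime_two.coprime_iff_not_dvd.2 h2).symm).pow_right 5
    exact hcop.dvd_of_dvd_mul_left (show orderOf g ∣ 2 ^ 5 * 189 from hd)
  have key : ∀ e ∈ List.range 190, 189 % e = 0 → e = 1 ∨ e = 3 ∨ e = 7 ∨ 9 ∣ e ∨ 21 ∣ e := by
    decide +kernel
  rcases key _ (List.mem_range.2 (by have := Nat.le_of_dvd (by norm_num) hodd; omega))
    (Nat.mod_eq_zero_of_dvd hodd) with h | h | h | h | h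
  · exact h1 h
  · exact h3 h
  · exact h7 h
  · exact H.no9 (g ^ (orderOf g / 9)) (orderOf_pow_orderOf_div (orderOf_pos g).ne' h)
  · exact H.no21 (g ^ (orderOf g / 21)) (orderOf_pow_orderOf_div (orderOf_pos g).ne' h)

theorem core [Fact (Nat.Prime 7)] (P : Sylow 7 G) : Core P :=
  haveI := H.simple
  core_of H.noncomm (a := 5) (b := 3) (by rw [H.card]; norm_num) H.no14 H.no21 P

theorem eIdx_three [Fact (Nat.Prime 7)] (P : Sylow 7 G) : eIdx P = 3 := by
  obtain ⟨h1, h2⟩ := sylow_count (H.core P)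
  rw [H.card] at h1
  rcases eIdx_cases (H.core P) with h | h | h
  · rw [h] at h1; omega
  · exact h
  · rw [h] at h1; omega

theorem card_sylow [Fact (Nat.Prime 7)] : Nat.card (Sylow 7 G) = 288 := by
  obtain ⟨P⟩ : Nonempty (Sylow 7 G) := inferInstance
  have h1 := (sylow_count (H.core P)).1
  rw [H.card, H.eIdx_three P] at h1
  omega

/-- There are 1728 elements of order seven. -/
theorem card_seven [Fact (Nat.Prime 7)] :
    (Finset.univ.filter fun g : G => orderOf g = 7).card = 1728 := by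
  classical
  have hzp : ∀ (Q : Sylow 7 G) (g : G), g ∈ (Q : Subgroup G) → g ≠ 1 →
      Subgroup.zpowers g = (Q : Subgroup G) ∧ orderOf g = 7 := by
    intro Q g hg hg1
    have h := (H.core Q).zpowers_eq hg hg1
    exact ⟨h, by rw [← Nat.card_zpowers, h, (H.core Q).card]⟩
  let f : (Σ Q : Sylow 7 G, {y : (Q : Subgroup G) // y ≠ 1}) → {g : G // orderOf g = 7} :=
    fun x => ⟨(x.2.1 : G), (hzp x.1 _ x.2.1.2 fun h => x.2.2 (Subtype.ext h)).2⟩
  have hf : Function.Bijective f := by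
    refine ⟨?_, ?_⟩
    · rintro ⟨Q, y, hy⟩ ⟨R, z, hz⟩ h
      have h' : (y : G) = (z : G) := congrArg Subtype.val h
      have hQR : Q = R := Sylow.ext (by
        rw [← (hzp Q _ y.2 fun e => hy (Subtype.ext e)).1,
          ← (hzp R _ z.2 fun e => hz (Subtype.ext e)).1, h'])
      subst hQR
      obtain rfl : y = z := Subtype.ext h'
      rfl
    · rintro ⟨g, hg⟩
      obtain ⟨Q, hQ⟩ := (IsPGroup.of_card (n := 1)
        (by rw [Nat.card_zpowers, hg, pow_one]) : IsPGroup 7 (Subgroup.zpowers g)).exists_le_sylow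
      refine ⟨⟨Q, ⟨g, hQ (Subgroup.mem_zpowers g)⟩, fun h => ?_⟩, rfl⟩
      have : g = 1 := congrArg Subtype.val h
      rw [this, orderOf_one] at hg
      norm_num at hg
  have hcount : ∀ Q : Sylow 7 G, Nat.card {y : (Q : Subgroup G) // y ≠ 1} = 6 := by
    intro Q
    letI := Fintype.ofFinite ↥(Q : Subgroup G)
    rw [Nat.card_eq_fintype_card, Fintype.card_subtype_compl, Fintype.card_subtype_eq,
      ← Nat.card_eq_fintype_card, (H.core Q).card]
  letI := Fintype.ofFinite (Sylow 7 G)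
  rw [← Fintype.card_subtype, ← Nat.card_eq_fintype_card, ← Nat.card_congr (Equiv.ofBijective f hf),
    Nat.card_sigma, Finset.sum_congr rfl fun Q _ => hcount Q, Finset.sum_const, Finset.card_univ,
    ← Nat.card_eq_fintype_card, H.card_sylow]
  norm_num

theorem deg_gt_one {χ : IrrCharacter G} (hne : χ ≠ trivChar G) :
    1 < Cfsg.charDegree (χ : G → ℂ) := by
  haveI : Fact (Nat.Prime 7) := ⟨by norm_num⟩
  obtain ⟨P⟩ : Nonempty (Sylow 7 G) := inferInstance
  obtain ⟨n, hn0, -, hn, -⟩ := ClassPairs.exists_irr_degree χ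
  rcases Nat.lt_or_ge 1 n with h | h
  · rwa [hn]
  · exact absurd (Subtype.ext (BrauerOrderP.eq_one_of_degree_one (H.core P).perfect
      (show Cfsg.charDegree (χ : G → ℂ) = 1 by omega))) hne

end Hyp

/-- The value table of the three kinds of nontrivial characters of the block. -/
theorem options {a b : ℕ} {s r e : ℤ} {d : ℕ} (hs : s = 1 ∨ s = -1) (hr : r = 1 ∨ r = -1)
    (he : e = 1 ∨ e = -1) (ha : 1 < a) (hb : 1 < b) (hd : 1 < d) (ha' : a ∣ 6048) (hb' : b ∣ 6048)
    (ha7 : (7 : ℤ) ∣ s * a - 1) (hb7 : (7 : ℤ) ∣ r * b - 1) (hd7 : (7 : ℤ) ∣ (d : ℤ) - 3 * e)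
    (hrel : e * d = 1 + s * a + r * b) (hsq : 1 + a ^ 2 + b ^ 2 + 2 * d ^ 2 ≤ 6048)
    (hd' : d ∣ 6048) :
    (s * a, r * b, e * d) = (8, -6, 3) ∨ (s * a, r * b, e * d) = (-6, 8, 3) ∨
    (s * a, r * b, e * d) = (8, -27, -18) ∨ (s * a, r * b, e * d) = (-27, 8, -18) ∨
    (s * a, r * b, e * d) = (-6, -27, -32) ∨ (s * a, r * b, e * d) = (-27, -6, -32) := by
  have hla : ∀ e ∈ List.range 78, 1 < e → 6048 % e = 0 → (e % 7 = 1 ∨ e % 7 = 6) →
      e ∈ [6, 8, 27, 36, 48] := by decide +kernel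
  have ha2 := hla a (List.mem_range.2 (by nlinarith)) ha (Nat.mod_eq_zero_of_dvd ha')
    (by rcases hs with rfl | rfl <;> omega)
  have hb2 := hla b (List.mem_range.2 (by nlinarith)) hb (Nat.mod_eq_zero_of_dvd hb')
    (by rcases hr with rfl | rfl <;> omega)
  simp only [List.mem_cons, List.not_mem_nil, or_false] at ha2 hb2
  have hA : s * a ∈ ([8, 36, -6, -27, -48] : List ℤ) := by
    simp only [List.mem_cons, List.not_mem_nil, or_false]
    rcases hs with rfl | rfl <;> omega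
  have hB : r * b ∈ ([8, 36, -6, -27, -48] : List ℤ) := by
    simp only [List.mem_cons, List.not_mem_nil, or_false]
    rcases hr with rfl | rfl <;> omega
  have table : ∀ A ∈ ([8, 36, -6, -27, -48] : List ℤ), ∀ B ∈ ([8, 36, -6, -27, -48] : List ℤ),
      1 + A ^ 2 + B ^ 2 + 2 * (1 + A + B) ^ 2 ≤ 6048 → 1 < (1 + A + B).natAbs →
      6048 % (1 + A + B).natAbs = 0 → (1 + A + B - 3) % 7 = 0 →
      (A, B, 1 + A + B) ∈ ([(8, -6, 3), (-6, 8, 3), (8, -27, -18), (-27, 8, -18), (-6, -27, -32),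
        (-27, -6, -32)] : List (ℤ × ℤ × ℤ)) := by decide +kernel
  have hcast : (1 + (a : ℤ) ^ 2 + (b : ℤ) ^ 2 + 2 * (d : ℤ) ^ 2) ≤ 6048 := by exact_mod_cast hsq
  have he2 : e * e = 1 := by rcases he with rfl | rfl <;> norm_num
  have hs2 : s * s = 1 := by rcases hs with rfl | rfl <;> norm_num
  have hr2 : r * r = 1 := by rcases hr with rfl | rfl <;> norm_num
  have habs : (1 + s * (a : ℤ) + r * b).natAbs = d := by
    rw [← hrel, Int.natAbs_mul, Int.natAbs_natCast]
    rcases he with rfl | rfl <;> simp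
  have h := table _ hA _ hB (by
      rw [← hrel]
      calc 1 + (s * a) ^ 2 + (r * b) ^ 2 + 2 * (e * d) ^ 2
          = 1 + (s * s) * (a : ℤ) ^ 2 + (r * r) * (b : ℤ) ^ 2 + 2 * ((e * e) * (d : ℤ) ^ 2) := by ring
        _ ≤ 6048 := by rw [hs2, hr2, he2]; linarith)
    (habs ▸ hd) (habs.symm ▸ Nat.mod_eq_zero_of_dvd hd') (by
      rw [← hrel]; rcases he with rfl | rfl <;> omega)
  simp only [List.mem_cons, List.not_mem_nil, or_false] at h
  rwa [hrel]

/-- No solution at an involution for the degrees 8, 27, 18. -/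
theorem no_invol_value {v y : ℤ} (hv4 : v % 4 = 0) (hy4 : y % 4 = 3) (hv : -8 < v ∧ v < 8)
    (hy : -27 < y ∧ y < 27) (hz : -18 < 1 + v - y ∧ 1 + v - y < 18) :
    216 + 27 * v ^ 2 - 8 * y ^ 2 + 12 * (1 + v - y) ^ 2 ≠ 0 := by
  obtain ⟨v1, v2⟩ := hv
  obtain ⟨y1, y2⟩ := hy
  interval_cases v <;> first | omega | (intro h; interval_cases y <;> omega)

/-- The character of degree six. -/
structure SixChar (χ : IrrCharacter G) : Prop where
  deg : (χ : G → ℂ) 1 = 6
  invol : ∀ t : G, orderOf t = 2 → (χ : G → ℂ) t = -2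
  six : ∀ g : G, orderOf g = 6 → (χ : G → ℂ) g = 1
  three : ∀ u : G, orderOf u = 3 → ∃ v : ℤ, (χ : G → ℂ) u = v ∧ (v = -3 ∨ v = 0 ∨ v = 3)
  sum_three : ∑ u ∈ Finset.univ.filter (fun u : G => orderOf u = 3), ((χ : G → ℂ) u - 1) = -896
  sum_three_sq : ∑ u ∈ Finset.univ.filter (fun u : G => orderOf u = 3),
    (χ : G → ℂ) u * ((χ : G → ℂ) u - 1) = 672

theorem sign_deg {s : ℤ} {n : ℕ} {A : ℤ} (hs : s = 1 ∨ s = -1) (h : s * n = A) (hA : A ≠ 0) :
    (0 < A → s = 1 ∧ (n : ℤ) = A) ∧ (A < 0 → s = -1 ∧ (n : ℤ) = -A) := by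
  rcases hs with rfl | rfl <;> constructor <;> intro <;> constructor <;> omega

/-- The conjugate of an irreducible character. -/
theorem exists_conj_char (χ : IrrCharacter G) :
    ∃ χ' : IrrCharacter G, (∀ g, (χ' : G → ℂ) g = conj ((χ : G → ℂ) g)) ∧
      Cfsg.charDegree (χ' : G → ℂ) = Cfsg.charDegree (χ : G → ℂ) := by
  refine ⟨⟨fun g => conj ((χ : G → ℂ) g), Characters.isIrr_conj χ.2⟩, fun _ => rfl, ?_⟩
  apply Nat.cast_injective (R := ℂ)
  rw [← apply_one, ← apply_one]
  show conj ((χ : G → ℂ) 1) = (χ : G → ℂ) 1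
  rw [apply_one, Complex.conj_natCast]

section Cases

variable (H : Hyp G) [Fact (Nat.Prime 7)] {P : Sylow 7 G} (D : BlockData P)
  {θ α β : IrrCharacter G}

include H in
theorem classify_mem {χ : IrrCharacter G} (h : ¬ 7 ∣ Cfsg.charDegree (χ : G → ℂ)) :
    χ ∈ D.X ∨ χ ∈ D.Y := by
  by_contra hc
  simp only [not_or] at hc
  exact h (deg_out_dvd (H.core P) D (D.mem_out.2 hc))

theorem sum_X_eq (hX : ∀ χ, χ ∈ D.X ↔ χ = trivChar G ∨ χ = α ∨ χ = β) (h1 : α ≠ trivChar G)
    (h2 : β ≠ trivChar G) (h3 : α ≠ β) (f : IrrCharacter G → ℂ) :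
    ∑ χ ∈ D.X, f χ = f (trivChar G) + f α + f β := by
  classical
  rw [show D.X = {trivChar G, α, β} by ext χ; simp [hX],
    Finset.sum_insert (by simp [h1.symm, h2.symm]), Finset.sum_pair h3, add_assoc]

include H in
/-- Degrees 8, 6 and 3 do not occur. -/
theorem not_three (hX : ∀ χ, χ ∈ D.X ↔ χ = trivChar G ∨ χ = α ∨ χ = β) (hθ : θ ∈ D.Y)
    (hα : Cfsg.charDegree (α : G → ℂ) = 8) (hβ : Cfsg.charDegree (β : G → ℂ) = 6)
    (hd : Cfsg.charDegree (θ : G → ℂ) = 3) : False := by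
  classical
  haveI := H.simple
  obtain ⟨θ', hθ', hd'⟩ := exists_conj_char θ
  have hY : θ' ∈ D.Y := by
    rcases classify_mem H D (χ := θ') (by rw [hd', hd]; norm_num) with h | h
    · exfalso
      rcases (hX θ').1 h with rfl | rfl | rfl
      · rw [charDegree_trivChar, hd] at hd'; omega
      · omega
      · omega
    · exact h
  have hne : θ ≠ trivChar G := fun h => Finset.disjoint_right.1 D.disj hθ (h ▸ D.triv_mem)
  haveI : Fact (Nat.Prime 3) := ⟨Nat.prime_three⟩
  obtain ⟨U⟩ : Nonempty (Sylow 3 G) := inferInstance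
  have hU : Nat.card (U : Subgroup G) = 27 := by
    rw [U.card_eq_multiplicity, H.card, show 6048 = 3 ^ 3 * 224 by norm_num,
      Nat.factorization_mul (by norm_num) (by norm_num), Finsupp.add_apply,
      Nat.prime_three.factorization_pow, Nat.factorization_eq_zero_of_not_dvd (by norm_num : ¬ 3 ∣ 224)]
    simp
  letI := Fintype.ofFinite ↥(U : Subgroup G)
  have hzero : ∀ u : ↥(U : Subgroup G), u ≠ 1 → (θ : G → ℂ) u = 0 := by
    intro u hu
    have hd3 : orderOf (u : G) ∣ 27 := hU ▸ Subgroup.orderOf_dvd_natCard _ u.2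
    have ho : orderOf (u : G) = 3 := by
      rcases H.order_cases (u : G) with h | h | h | h
      · exact absurd (Subtype.ext (orderOf_eq_one_iff.1 h)) hu
      · exact h
      · rw [h] at hd3; norm_num at hd3
      · exact absurd (h.trans hd3) (by norm_num)
    have hreal : conj ((θ : G → ℂ) u) = (θ : G → ℂ) u := by
      rw [← hθ']; exact D.eqY θ' hY θ hθ _ (by rw [ho]; norm_num)
    obtain ⟨v, hv, h3, hle, hge⟩ := val_three θ ho hreal
    have hne3 : v ≠ 3 := fun h => hu (Subtype.ext (eq_one_of_val_eq_deg θ hne (by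
      rw [hv, apply_one, hd, h]; norm_num)))
    rw [hd] at h3 hle hge
    rw [hv, show v = 0 by omega, Int.cast_zero]
  obtain ⟨m, hm⟩ := sum_subgroup θ (U : Subgroup G)
  rw [Finset.sum_eq_single (1 : ↥(U : Subgroup G)) (fun u _ hu => hzero u hu)
    (fun h => absurd (Finset.mem_univ _) h), hU] at hm
  simp only [OneMemClass.coe_one, apply_one, hd] at hm
  have : (3 : ℕ) = 27 * m := by exact_mod_cast hm
  omega

include H in
theorem not_conj_normalizer {t : G} (ht : orderOf t = 2) :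
    ¬ ∃ u : G, u ∈ Subgroup.normalizer ((P : Subgroup G) : Set G) ∧ IsConj t u := by
  rintro ⟨u, hu, hc⟩
  obtain ⟨c, rfl⟩ := isConj_iff.1 hc
  have h := Subgroup.orderOf_dvd_natCard _ hu
  rw [(H.core P).card_normalizer, H.eIdx_three P, show c * t * c⁻¹ = MulAut.conj c t from rfl,
    MulEquiv.orderOf_eq, ht] at h
  norm_num at h

include H in
/-- Degrees 8, 27 and 18 do not occur. -/
theorem not_eighteen (hX : ∀ χ, χ ∈ D.X ↔ χ = trivChar G ∨ χ = α ∨ χ = β) (hθ : θ ∈ D.Y)
    (h1 : α ≠ trivChar G) (h2 : β ≠ trivChar G) (h3 : α ≠ β)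
    (hα : Cfsg.charDegree (α : G → ℂ) = 8) (hβ : Cfsg.charDegree (β : G → ℂ) = 27)
    (hd : Cfsg.charDegree (θ : G → ℂ) = 18) (hδα : D.δ α = 1) (hδβ : D.δ β = -1)
    (hε : D.ε = -1) : False := by
  classical
  haveI := H.simple
  haveI : Fact (Nat.Prime 2) := ⟨Nat.prime_two⟩
  obtain ⟨t, ht⟩ := exists_prime_orderOf_dvd_card' (G := G) 2 (by rw [H.card]; norm_num)
  obtain ⟨v, hv, hv4, -, hv1, hv2⟩ := Small.Check.exists_value H.noncomm α
    (show (α : G → ℂ) 1 = ((8 : ℕ) : ℂ) by rw [apply_one, hα]) (by norm_num) ht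
  obtain ⟨y, hy, hy4, -, hy1, hy2⟩ := Small.Check.exists_value H.noncomm β
    (show (β : G → ℂ) 1 = ((27 : ℕ) : ℂ) by rw [apply_one, hβ]) (by norm_num) ht
  obtain ⟨z, hz, hz4, -, hz1, hz2⟩ := Small.Check.exists_value H.noncomm θ
    (show (θ : G → ℂ) 1 = ((18 : ℕ) : ℂ) by rw [apply_one, hd]) (by norm_num) ht
  have hr := D.rel θ hθ t (by rw [ht]; norm_num)
  rw [sum_X_eq D hX h1 h2 h3, D.δ_triv, hδα, hδβ, hε, hv, hy, hz, trivChar_apply] at hr
  have hz' : -z = 1 + v - y := by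
    have : (-1 : ℤ) * z = 1 * 1 + 1 * v + -1 * y := by exact_mod_cast hr
    omega
  have hc := invol_count (H.core P) D hθ ht
  rw [if_neg (not_conj_normalizer H ht), sum_X_eq D hX h1 h2 h3, D.δ_triv, hδα, hδβ, hε, hv, hy,
    hz, trivChar_apply, trivChar_apply, apply_one α, apply_one β, apply_one θ, hα, hβ, hd,
    H.card] at hc
  have : ((216 + 27 * v ^ 2 - 8 * y ^ 2 + 12 * z ^ 2 : ℤ) : ℂ) = 0 := by
    push_cast at hc ⊢
    linear_combination (-1 / 28 : ℂ) * hc
  have h0 : 216 + 27 * v ^ 2 - 8 * y ^ 2 + 12 * z ^ 2 = 0 := by exact_mod_cast this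
  refine no_invol_value (v := v) (y := y) (by omega) (by omega) (by omega) (by omega) (by omega) ?_
  rw [← hz', neg_sq]
  exact h0

set_option maxHeartbeats 1000000 in
include H in
/-- The surviving degrees 6, 27, 32. -/
theorem sixChar_of (hX : ∀ χ, χ ∈ D.X ↔ χ = trivChar G ∨ χ = α ∨ χ = β) (hθ : θ ∈ D.Y)
    (h1 : α ≠ trivChar G) (h2 : β ≠ trivChar G) (h3 : α ≠ β)
    (hα : Cfsg.charDegree (α : G → ℂ) = 6) (hβ : Cfsg.charDegree (β : G → ℂ) = 27)
    (hd : Cfsg.charDegree (θ : G → ℂ) = 32) (hδα : D.δ α = -1) (hδβ : D.δ β = -1)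
    (hε : D.ε = -1) : SixChar α := by
  classical
  haveI := H.simple
  have hk : kIdx P = 2 := by rw [kIdx, H.eIdx_three P]
  have hrel : ∀ g : G, ¬ 7 ∣ orderOf g →
      (θ : G → ℂ) g = (α : G → ℂ) g + (β : G → ℂ) g - 1 := by
    intro g hg
    have h := D.rel θ hθ g hg
    rw [sum_X_eq D hX h1 h2 h3, D.δ_triv, hδα, hδβ, hε, trivChar_apply] at h
    push_cast at h
    linear_combination -h
  have hreal : ∀ g : G, conj ((α : G → ℂ) g) = (α : G → ℂ) g := by
    obtain ⟨α', hα', hd'⟩ := exists_conj_char α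
    have : α' = α := by
      rcases classify_mem H D (χ := α') (by rw [hd', hα]; norm_num) with h | h
      · rcases (hX α').1 h with rfl | rfl | rfl
        · rw [charDegree_trivChar, hα] at hd'; omega
        · rfl
        · omega
      · exfalso
        have := degY_eq D h hθ
        omega
    intro g
    rw [← hα', this]
  have hβ3 : ∀ g : G, 3 ∣ orderOf g → (β : G → ℂ) g = 0 := fun g hg =>
    eq_zero_of_prime_part Nat.prime_three β H.card hβ (by norm_num) hg
  have hθ2 : ∀ η ∈ D.Y, ∀ g : G, 2 ∣ orderOf g → (η : G → ℂ) g = 0 := fun η hη g hg =>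
    eq_zero_of_prime_part Nat.prime_two η H.card ((degY_eq D hη hθ).trans hd) (by norm_num) hg
  have hα6 : (α : G → ℂ) 1 = 6 := by rw [apply_one, hα]; norm_num
  have hconjP : ∀ g : G, orderOf g = 7 → ∃ c : G, c * g * c⁻¹ ∈ (P : Subgroup G) ∧ c * g * c⁻¹ ≠ 1 := by
    intro g hg
    obtain ⟨Q, hQ⟩ := (IsPGroup.of_card (n := 1)
      (by rw [Nat.card_zpowers, hg, pow_one]) : IsPGroup 7 (Subgroup.zpowers g)).exists_le_sylow
    obtain ⟨c, hc⟩ := MulAction.exists_smul_eq G Q P
    refine ⟨c, ?_, fun h => ?_⟩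
    · rw [← hc, Sylow.coe_subgroup_smul, Subgroup.mem_pointwise_smul_iff_inv_smul_mem]
      simpa [MulAut.smul_def, mul_assoc] using hQ (Subgroup.mem_zpowers g)
    · rw [conj_eq_one_iff.1 h, orderOf_one] at hg
      norm_num at hg
  set Φ : G → ℂ := fun g => ∑ η ∈ D.Y, (η : G → ℂ) g with hΦ
  have hΦval : ∀ g : G, Φ g = (if orderOf g = 1 then 64 else 0) +
      (if orderOf g = 7 then 1 else 0) +
      (if orderOf g = 3 then 2 * ((α : G → ℂ) g - 1) else 0) := by
    intro g
    rcases H.order_cases g with h | h | h | h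
    · rw [orderOf_eq_one_iff.1 h]
      simp only [hΦ, orderOf_one]
      rw [Finset.sum_congr rfl (g := fun _ => (32 : ℂ)) fun η hη => by
        rw [apply_one, degY_eq D hη hθ, hd]; norm_num, Finset.sum_const, D.cardY, hk]
      norm_num
    · simp only [hΦ, h]
      rw [Finset.sum_congr rfl (g := fun _ => (α : G → ℂ) g - 1) fun η hη => by
        rw [D.eqY η hη θ hθ g (by rw [h]; norm_num), hrel g (by rw [h]; norm_num),
          hβ3 g (by rw [h]), add_zero], Finset.sum_const, D.cardY, hk]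
      norm_num
    · obtain ⟨c, hc, hc1⟩ := hconjP g h
      simp only [hΦ, h]
      rw [Finset.sum_congr rfl (g := fun η : IrrCharacter G => (η : G → ℂ) (c * g * c⁻¹))
        fun η _ => (apply_conj η c g).symm, sum_Y_val (H.core P) D hθ hc hc1, hε]
      norm_num
    · simp only [hΦ]
      rw [Finset.sum_eq_zero fun η hη => hθ2 η hη g h, if_neg (by omega), if_neg (by omega),
        if_neg (by omega)]
      ring
  have horth : ∀ ψ ∈ D.X, ∑ g : G, Φ g * conj ((ψ : G → ℂ) g) = 0 := by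
    intro ψ hψ
    simp only [hΦ, Finset.sum_mul]
    rw [Finset.sum_comm]
    refine Finset.sum_eq_zero fun η hη => ?_
    have h := Characters.classInner_irr η ψ
    rw [if_neg (fun e : η = ψ => Finset.disjoint_right.1 D.disj hη (e ▸ hψ)), Cfsg.classInner,
      mul_eq_zero, inv_eq_zero, Nat.cast_eq_zero] at h
    exact h.resolve_left Nat.card_pos.ne'
  have hsplit : ∀ f : G → ℂ, ∑ g : G, Φ g * f g = 64 * f 1 +
      ∑ g ∈ Finset.univ.filter (fun g : G => orderOf g = 7), f g +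
      2 * ∑ g ∈ Finset.univ.filter (fun g : G => orderOf g = 3), ((α : G → ℂ) g - 1) * f g := by
    intro f
    simp only [hΦval, add_mul, ite_mul, zero_mul, one_mul, Finset.sum_add_distrib,
      ← Finset.sum_filter]
    rw [show Finset.univ.filter (fun g : G => orderOf g = 1) = {1} by ext; simp,
      Finset.sum_singleton, Finset.mul_sum]
    simp only [mul_assoc]
  have hI : ∀ t : G, orderOf t = 2 → (α : G → ℂ) t = -2 := by
    intro t ht
    obtain ⟨x, hx, hx4, -, hx1, hx2⟩ := Small.Check.exists_value H.noncomm α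
      (show (α : G → ℂ) 1 = ((6 : ℕ) : ℂ) by rw [apply_one, hα]) (by norm_num) ht
    obtain ⟨y, hy, -, -, -, -⟩ := Small.Check.exists_value H.noncomm β
      (show (β : G → ℂ) 1 = ((27 : ℕ) : ℂ) by rw [apply_one, hβ]) (by norm_num) ht
    have hr := hrel t (by rw [ht]; norm_num)
    rw [hθ2 θ hθ t (by rw [ht]), hx, hy] at hr
    have hy' : y = 1 - x := by
      have : (0 : ℤ) = x + y - 1 := by exact_mod_cast hr
      omega
    have hc := invol_count (H.core P) D hθ ht
    rw [if_neg (not_conj_normalizer H ht), sum_X_eq D hX h1 h2 h3, D.δ_triv, hδα, hδβ, hε, hx, hy,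
      hθ2 θ hθ t (by rw [ht]), trivChar_apply, trivChar_apply, apply_one α, apply_one β, hα, hβ,
      H.card, hy'] at hc
    have : ((54 - 9 * x ^ 2 - 2 * (1 - x) ^ 2 : ℤ) : ℂ) = 0 := by
      push_cast at hc ⊢
      linear_combination (-1 / 112 : ℂ) * hc
    have h0 : 54 - 9 * x ^ 2 - 2 * (1 - x) ^ 2 = 0 := by exact_mod_cast this
    rw [hx]
    have : x = -2 := by interval_cases x <;> omega
    rw [this]; norm_num
  refine ⟨hα6, hI, fun g hg => ?_, fun u hu => ?_, ?_, ?_⟩
  · have h := hrel g (by rw [hg]; norm_num)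
    rw [hθ2 θ hθ g (by rw [hg]; norm_num), hβ3 g (by rw [hg]; norm_num)] at h
    linear_combination -h
  · obtain ⟨v, hv, hv3, hle, hge⟩ := val_three α hu (hreal u)
    have hne : v ≠ 6 := fun h => by
      have : u = 1 := eq_one_of_val_eq_deg α h1 (by rw [hv, hα6, h]; norm_num)
      rw [this, orderOf_one] at hu
      omega
    rw [hα] at hv3 hle hge
    exact ⟨v, hv, by omega⟩
  · have h := horth _ D.triv_mem
    simp only [trivChar_apply, map_one] at h
    rw [hsplit (fun _ => 1), Finset.sum_const, H.card_seven] at h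
    simp only [mul_one, nsmul_eq_mul] at h
    push_cast at h
    linear_combination (1 / 2 : ℂ) * h
  · have h := horth α ((hX α).2 (Or.inr (Or.inl rfl)))
    simp only [hreal] at h
    rw [hsplit (fun g => (α : G → ℂ) g), hα6, Finset.sum_congr rfl (g := fun _ => (-1 : ℂ))
      (fun g hg => by
        obtain ⟨c, hc, hc1⟩ := hconjP g (Finset.mem_filter.1 hg).2
        rw [← apply_conj α c g, D.valX α ((hX α).2 (Or.inr (Or.inl rfl))) _ hc hc1, hδα]
        norm_num), Finset.sum_const, H.card_seven, nsmul_eq_mul] at h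
    rw [Finset.sum_congr rfl (g := fun g => (α : G → ℂ) g * ((α : G → ℂ) g - 1))
      fun g _ => mul_comm _ _] at h
    push_cast at h
    linear_combination (1 / 2 : ℂ) * h

end Cases

namespace Hyp

/-- There is a character of degree six with the values of the first cases. -/
theorem exists_sixChar (H : Hyp G) : ∃ χ : IrrCharacter G, SixChar χ := by
  classical
  haveI : Fact (Nat.Prime 7) := ⟨by norm_num⟩
  obtain ⟨P⟩ : Nonempty (Sylow 7 G) := inferInstance
  have S := H.core P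
  obtain ⟨D⟩ := S.exists_blockData
  obtain ⟨θ, hθ⟩ : ∃ θ, θ ∈ D.Y := Finset.card_pos.1 (by rw [D.cardY]; exact S.kIdx_pos)
  obtain ⟨α, β, hne, hab⟩ := Finset.card_eq_two.1 (show (D.X.erase (trivChar G)).card = 2 by
    rw [Finset.card_erase_of_mem D.triv_mem, D.cardX, H.eIdx_three P])
  have hα : α ∈ D.X.erase (trivChar G) := by rw [hab]; simp
  have hβ : β ∈ D.X.erase (trivChar G) := by rw [hab]; simp
  obtain ⟨hα1, hαX⟩ := Finset.mem_erase.1 hα
  obtain ⟨hβ1, hβX⟩ := Finset.mem_erase.1 hβ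
  have hX : ∀ χ, χ ∈ D.X ↔ χ = trivChar G ∨ χ = α ∨ χ = β := by
    intro χ
    refine ⟨fun h => ?_, ?_⟩
    · by_cases he : χ = trivChar G
      · exact Or.inl he
      · have : χ ∈ D.X.erase (trivChar G) := Finset.mem_erase.2 ⟨he, h⟩
        rw [hab] at this
        simp at this
        exact Or.inr this
    · rintro (rfl | rfl | rfl)
      exacts [D.triv_mem, hαX, hβX]
  have hθ1 : θ ≠ trivChar G := fun h => Finset.disjoint_right.1 D.disj hθ (h ▸ D.triv_mem)
  have hdiv : ∀ χ : IrrCharacter G, Cfsg.charDegree (χ : G → ℂ) ∣ 6048 := fun χ => by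
    obtain ⟨n, -, -, hn, hd⟩ := ClassPairs.exists_irr_degree χ
    rw [hn, ← H.card]; exact hd
  have hrel : D.ε * (Cfsg.charDegree (θ : G → ℂ) : ℤ) = 1 +
      D.δ α * (Cfsg.charDegree (α : G → ℂ) : ℤ) + D.δ β * (Cfsg.charDegree (β : G → ℂ) : ℤ) := by
    rw [rel_deg S D hθ]
    apply Int.cast_injective (α := ℂ)
    rw [Int.cast_sum, sum_X_eq D hX hα1 hβ1 hne, D.δ_triv, charDegree_trivChar]
    push_cast
    ring
  have hsq : 1 + Cfsg.charDegree (α : G → ℂ) ^ 2 + Cfsg.charDegree (β : G → ℂ) ^ 2 +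
      2 * Cfsg.charDegree (θ : G → ℂ) ^ 2 ≤ 6048 := by
    have h := sum_sq_le D hθ
    rw [H.card, show kIdx P = 2 by rw [kIdx, H.eIdx_three P],
      ← Finset.sum_erase_add _ _ D.triv_mem, hab, Finset.sum_pair hne, charDegree_trivChar] at h
    omega
  have ha7 := degX_mod D hαX
  have hb7 := degX_mod D hβX
  have hd7 := degY_mod D hθ
  rw [H.eIdx_three P] at hd7
  have hopt := options (D.δ_sign α hαX) (D.δ_sign β hβX) D.ε_sign (H.deg_gt_one hα1)
    (H.deg_gt_one hβ1) (H.deg_gt_one hθ1) (hdiv α) (hdiv β)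
    (by rcases D.δ_sign α hαX with e | e <;> rw [e] at ha7 ⊢ <;> omega)
    (by rcases D.δ_sign β hβX with e | e <;> rw [e] at hb7 ⊢ <;> omega)
    (by rcases D.ε_sign with e | e <;> rw [e] at hd7 ⊢ <;> omega) hrel hsq (hdiv θ)
  have hX' : ∀ χ, χ ∈ D.X ↔ χ = trivChar G ∨ χ = β ∨ χ = α := fun χ => (hX χ).trans (by tauto)
  simp only [Prod.mk.injEq] at hopt
  have ea := D.δ_sign α hαX
  have eb := D.δ_sign β hβX
  have ee := D.ε_sign
  rcases hopt with ⟨x, y, z⟩ | ⟨x, y, z⟩ | ⟨x, y, z⟩ | ⟨x, y, z⟩ | ⟨x, y, z⟩ | ⟨x, y, z⟩ <;>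
    (obtain ⟨ax, ax'⟩ := sign_deg ea x (by norm_num)
     obtain ⟨bx, bx'⟩ := sign_deg eb y (by norm_num)
     obtain ⟨cx, cx'⟩ := sign_deg ee z (by norm_num))
  · exact (not_three H D hX hθ (by have := ax (by norm_num); omega)
      (by have := bx' (by norm_num); omega) (by have := cx (by norm_num); omega)).elim
  · exact (not_three H D hX' hθ (by have := bx (by norm_num); omega)
      (by have := ax' (by norm_num); omega) (by have := cx (by norm_num); omega)).elim
  · exact (not_eighteen H D hX hθ hα1 hβ1 hne (by have := ax (by norm_num); omega)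
      (by have := bx' (by norm_num); omega) (by have := cx' (by norm_num); omega)
      (ax (by norm_num)).1 (bx' (by norm_num)).1 (cx' (by norm_num)).1).elim
  · exact (not_eighteen H D hX' hθ hβ1 hα1 hne.symm (by have := bx (by norm_num); omega)
      (by have := ax' (by norm_num); omega) (by have := cx' (by norm_num); omega)
      (bx (by norm_num)).1 (ax' (by norm_num)).1 (cx' (by norm_num)).1).elim
  · exact ⟨α, sixChar_of H D hX hθ hα1 hβ1 hne (by have := ax' (by norm_num); omega)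
      (by have := bx' (by norm_num); omega) (by have := cx' (by norm_num); omega)
      (ax' (by norm_num)).1 (bx' (by norm_num)).1 (cx' (by norm_num)).1⟩
  · exact ⟨β, sixChar_of H D hX' hθ hβ1 hα1 hne.symm (by have := bx' (by norm_num); omega)
      (by have := ax' (by norm_num); omega) (by have := cx' (by norm_num); omega)
      (bx' (by norm_num)).1 (ax' (by norm_num)).1 (cx' (by norm_num)).1⟩

end Hyp

end CfsgLib.G2TwoRecog
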