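import Mathlib

/-!
# The finite model for the point stabiliser of `PSU₃(3)` on 28 points

Elements of the extraspecial group of order 27 are coded by `x + 3 y + 9 w` for `aˣ bʸ cʷ`,
points by these codes and `27` for the remaining point.
-/

set_option autoImplicit false
set_option maxRecDepth 20000
set_option Elab.async false

namespace CfsgLib.G2TwoRecog.Model

/-- A five bit digit of a packed table. -/
def get (t i : ℕ) : ℕ := (t >>> (5 * i)) &&& 31

/-- Product of codes. -/
def hmul (u v : ℕ) : ℕ :=
  (u % 3 + v % 3) % 3 + 3 * ((u / 3 % 3 + v / 3 % 3) % 3) +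
    9 * ((u / 9 + v / 9 + 2 * (u / 3 % 3) * (v % 3)) % 3)

/-- Inverse of a code. -/
def hinv (u : ℕ) : ℕ := get 6439829877143756749588768936635433944128 u

/-- Commutator of codes. -/
def hcom (u v : ℕ) : ℕ := hmul (hmul u v) (hmul (hinv u) (hinv v))

/-- The tables of the powers of the automorphism of order eight. -/
def sigTab : ℕ → ℕ
  | 0 => 36485634846548906633991799739614356408352
  | 1 => 31785298697695045467116260473884676069472
  | 2 => 26901417906823341459123046905340118231168
  | 3 => 16676087657738070066801412115991781302048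
  | 4 => 30544655254946055246513756605237164789088
  | 5 => 9575872130563253721350949800440785810176
  | 6 => 2883369636873372846521511825181238581504
  | _ => 8352635499007241050286942908798601305536

/-- The powers of the automorphism. -/
def sigK (k u : ℕ) : ℕ := get (sigTab k) u

/-- A power with exponent below three. -/
def hpow3 (u : ℕ) : ℕ → ℕ
  | 0 => 0
  | 1 => u
  | _ => hmul u u

/-- The endomorphism with given images of the three generators. -/
def homOf (A B C u : ℕ) : ℕ :=
  hmul (hmul (hpow3 A (u % 3)) (hpow3 B (u / 3 % 3))) (hpow3 C (u / 9))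

/-- Iterates of an endomorphism. -/
def homIter (A B C : ℕ) : ℕ → ℕ → ℕ
  | 0, u => u
  | k + 1, u => homOf A B C (homIter A B C k u)

/-- The action of a translation on points. -/
def act1 (u x : ℕ) : ℕ := if x = 27 then 27 else hmul u x

/-- The action of a power of the automorphism on points. -/
def actS (k x : ℕ) : ℕ := if x = 27 then 27 else sigK k x

/-- The action of the swapping element on points. -/
def actT (f x : ℕ) : ℕ := if x = 0 then 27 else if x = 27 then 0 else get f x

/-- The double coset equation at one element. -/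
def eqn (f u : ℕ) : Bool :=
  let p := get f u
  let v := get f (hinv p)
  (List.range 8).any fun k => (List.range 28).all fun x =>
    actT f (act1 u (actT f x)) == act1 p (actT f (act1 v (actS k x)))

/-- Set a digit, if compatible. -/
def put (f i j : ℕ) : Option ℕ :=
  if get f i = 0 then some (f ||| (j <<< (5 * i))) else if get f i = j then some f else none

/-- Assign a pair in both directions. -/
def put2 (f i j : ℕ) : Option ℕ :=
  match put f i j with
  | none => none
  | some g => put g j i

/-- Assign a whole orbit. -/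
def assign (al r v : ℕ) : List ℕ → ℕ → Option ℕ
  | [], f => some f
  | k :: ks, f =>
    match put2 f (sigK k r) (sigK (al * k % 8) v) with
    | none => none
    | some g => assign al r v ks g

/-- All equivariant involutory tables. -/
def go (al : ℕ) : List ℕ → ℕ → List ℕ
  | [], f => [f]
  | r :: rs, f =>
    if get f r = 0 then
      (List.range 26).flatMap fun i =>
        match assign al r (i + 1) (List.range 8) f with
        | none => []
        | some g => go al rs g
    else go al rs f

/-- The representatives of the orbits. -/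
def reps : List ℕ := [9, 1, 2, 5]

/-- The first solution. -/
def tabA : ℕ := 19994737520531569810780319455237829681376

/-- The second solution. -/
def tabB : ℕ := 35159470293420794520116664410879649976032

/-- Every table either fails an equation or is one of the two solutions. -/
def leafOK (f : ℕ) : Bool :=
  ((List.range 26).all fun i => get f (i + 1) != 0) &&
    (!((List.range 26).all fun i => eqn f (i + 1)) || ((List.range 27).all fun i =>
      i == 0 || get f i == get tabA i) || ((List.range 27).all fun i => i == 0 || get f i == get tabB i))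

/-! ### Checked facts -/

theorem hmul_lt : ∀ u < 27, ∀ v < 27, hmul u v < 27 := by decide +kernel

theorem hinv_spec : ∀ u < 27, hinv u < 27 ∧ hmul u (hinv u) = 0 ∧ hmul (hinv u) u = 0 := by
  decide +kernel

theorem hmul_hinv_eq_zero : ∀ u < 27, ∀ v < 27, hmul u (hinv v) = 0 → u = v := by decide +kernel

theorem hmul_zero : ∀ u < 27, hmul u 0 = u := by decide +kernel

theorem sigK_spec : ∀ k < 8, ∀ u < 27,
    sigK k u < 27 ∧ (u ≠ 0 → sigK k u ≠ 0) ∧ sigK k 0 = 0 ∧ sigK ((k + 1) % 8) u = sigK 1 (sigK k u) := by
  decide +kernel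

theorem sig_one_eq : ∀ u < 27, sigK 1 u = homOf 3 4 18 u := by decide +kernel

theorem homOf_lt : ∀ u < 27, homOf 3 4 18 u < 27 := by decide +kernel

theorem tabB_eq : ∀ u < 27, u ≠ 0 → get tabB u = get tabA (sigK 4 u) := by decide +kernel

theorem tabA_lt : ∀ u < 27, u ≠ 0 → get tabA u < 27 ∧ get tabA u ≠ 0 := by decide +kernel

/-- The condition on the images of the generators under an automorphism of the point stabiliser. -/
def autoCond (A B : ℕ) : Bool :=
  hcom A B == 18 && ((List.range 27).all fun u => homIter A B 18 8 u == u) &&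
    [1, 2, 4].all fun j =>
      !((List.range 27).all fun u => homIter A B 18 (2 * j) u == u) ||
      ((List.range 27).all fun u => homIter A B 18 j u == u) ||
      (List.range 27).all fun u => u % 9 == 0 || homIter A B 18 j u != u

theorem exists_good_pair : ∀ A < 27, ∀ B < 27, autoCond A B = true →
    ∃ k < 6, ∃ a < 27, hcom a (homIter A B 18 k a) ≠ 0 ∧
      homIter A B 18 k (homIter A B 18 k a) = hmul a (homIter A B 18 k a) := by
  decide +kernel

theorem leaves_one : (go 1 reps 0).all leafOK = true := by decide +kernel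

theorem leaves_three : (go 3 reps 0).all leafOK = true := by decide +kernel

theorem leaves_five : (go 5 reps 0).all leafOK = true := by decide +kernel

theorem leaves_seven : (go 7 reps 0).all leafOK = true := by decide +kernel

/-! ### Completeness of the search -/

/-- A partial table agrees with a function. -/
def Agree (f : ℕ) (F : ℕ → ℕ) : Prop := ∀ i < 27, get f i = 0 ∨ get f i = F i

theorem get_lor {f i j m : ℕ} (hj : j < 32) :
    get (f ||| (j <<< (5 * i))) m = if m = i then get f m ||| j else get f m := by
  apply Nat.eq_of_testBit_eq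
  intro b
  have h31 : Nat.testBit 31 b = decide (b < 5) := Nat.testBit_two_pow_sub_one 5 b
  have hjb : 5 ≤ b → Nat.testBit j b = false := fun hb =>
    Nat.testBit_lt_two_pow (lt_of_lt_of_le hj (show 2 ^ 5 ≤ 2 ^ b from Nat.pow_le_pow_right two_pos hb))
  by_cases hb : b < 5
  · split_ifs with h
    · subst h
      simp [get, Nat.testBit_shiftRight, Nat.testBit_shiftLeft, h31, hb]
    · simp only [get, Nat.testBit_and, Nat.testBit_shiftRight, Nat.testBit_or,
        Nat.testBit_shiftLeft, h31, hb, decide_true, Bool.and_true]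
      rcases lt_or_gt_of_ne h with h' | h'
      · simp [show ¬ 5 * i ≤ 5 * m + b by omega]
      · have : Nat.testBit j (5 * m + b - 5 * i) = false :=
          Nat.testBit_lt_two_pow (lt_of_lt_of_le hj
            (show 2 ^ 5 ≤ _ from Nat.pow_le_pow_right two_pos (by omega)))
        simp [this]
  · split_ifs with h
    · simp [get, Nat.testBit_and, Nat.testBit_or, h31, hb, hjb (by omega)]
    · simp [get, Nat.testBit_and, h31, hb]

theorem put_agree {f i j : ℕ} {F : ℕ → ℕ} (hA : Agree f F) (hi : i < 27) (hj : F i = j)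
    (hj27 : j < 27) : ∃ g, put f i j = some g ∧ Agree g F := by
  unfold put
  rcases hA i hi with h | h
  · refine ⟨_, if_pos h, fun m hm => ?_⟩
    rw [get_lor (by omega)]
    split_ifs with hmi
    · subst hmi; right; rw [h, hj]; simp
    · exact hA m hm
  · by_cases h0 : get f i = 0
    · refine ⟨_, if_pos h0, fun m hm => ?_⟩
      rw [get_lor (by omega)]
      split_ifs with hmi
      · subst hmi; right; rw [h0, hj]; simp
      · exact hA m hm
    · exact ⟨f, by rw [if_neg h0, if_pos (h.trans hj)], hA⟩

theorem put2_agree {f i j : ℕ} {F : ℕ → ℕ} (hA : Agree f F) (hi : i < 27) (hij : F i = j)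
    (hj : j < 27) (hji : F j = i) : ∃ g, put2 f i j = some g ∧ Agree g F := by
  obtain ⟨g, hg, hgA⟩ := put_agree hA hi hij hj
  obtain ⟨g', hg', hgA'⟩ := put_agree hgA hj hji hi
  exact ⟨g', by simp [put2, hg, hg'], hgA'⟩

variable {al : ℕ} {F : ℕ → ℕ}

theorem assign_agree (hr : ∀ i < 27, i ≠ 0 → F i < 27 ∧ F i ≠ 0 ∧ F (F i) = i)
    (heq : ∀ k < 8, ∀ i < 27, i ≠ 0 → F (sigK k i) = sigK (al * k % 8) (F i))
    {r : ℕ} (hr27 : r < 27) (hr0 : r ≠ 0) :
    ∀ (ks : List ℕ) (f : ℕ), (∀ k ∈ ks, k < 8) → Agree f F →
      ∃ g, assign al r (F r) ks f = some g ∧ Agree g F := by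
  intro ks
  induction ks with
  | nil => exact fun f _ hA => ⟨f, rfl, hA⟩
  | cons k ks ih =>
    intro f hks hA
    have hk : k < 8 := hks k (by simp)
    obtain ⟨h1, h2, -, -⟩ := sigK_spec k hk r hr27
    obtain ⟨g, hg, hgA⟩ := put2_agree hA h1 (heq k hk r hr27 hr0)
      (by rw [← heq k hk r hr27 hr0]; exact (hr _ h1 (h2 hr0)).1)
      (by rw [← heq k hk r hr27 hr0]; exact (hr _ h1 (h2 hr0)).2.2)
    obtain ⟨g', hg', hgA'⟩ := ih g (fun k hk => hks k (by simp [hk])) hgA
    exact ⟨g', by simp [assign, hg, hg'], hgA'⟩

theorem go_complete (hr : ∀ i < 27, i ≠ 0 → F i < 27 ∧ F i ≠ 0 ∧ F (F i) = i)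
    (heq : ∀ k < 8, ∀ i < 27, i ≠ 0 → F (sigK k i) = sigK (al * k % 8) (F i)) :
    ∀ (rs : List ℕ) (f : ℕ), (∀ r ∈ rs, r < 27 ∧ r ≠ 0) → Agree f F →
      ∃ g ∈ go al rs f, Agree g F := by
  intro rs
  induction rs with
  | nil => exact fun f _ hA => ⟨f, by simp [go], hA⟩
  | cons r rs ih =>
    intro f hrs hA
    obtain ⟨hr27, hr0⟩ := hrs r (by simp)
    have hrs' : ∀ r' ∈ rs, r' < 27 ∧ r' ≠ 0 := fun r' h => hrs r' (by simp [h])
    by_cases h0 : get f r = 0
    · obtain ⟨g, hg, hgA⟩ := assign_agree hr heq hr27 hr0 (List.range 8) f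
        (fun k hk => List.mem_range.1 hk) hA
      obtain ⟨g', hg', hgA'⟩ := ih g hrs' hgA
      refine ⟨g', ?_, hgA'⟩
      simp only [go, if_pos h0, List.mem_flatMap]
      obtain ⟨hF, hF0, -⟩ := hr r hr27 hr0
      refine ⟨F r - 1, List.mem_range.2 (by omega), ?_⟩
      rw [show F r - 1 + 1 = F r by omega, hg]
      exact hg'
    · obtain ⟨g, hg, hgA⟩ := ih f hrs' hA
      exact ⟨g, by simp only [go, if_neg h0]; exact hg, hgA⟩

/-- An equivariant involution satisfying the equations is one of the two solutions. -/
theorem classify (hal : al = 1 ∨ al = 3 ∨ al = 5 ∨ al = 7)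
    (hr : ∀ i < 27, i ≠ 0 → F i < 27 ∧ F i ≠ 0 ∧ F (F i) = i)
    (heq : ∀ k < 8, ∀ i < 27, i ≠ 0 → F (sigK k i) = sigK (al * k % 8) (F i))
    (heqn : ∀ f, (∀ i < 27, i ≠ 0 → get f i = F i) → ∀ u < 27, u ≠ 0 → eqn f u = true) :
    (∀ i < 27, i ≠ 0 → F i = get tabA i) ∨ (∀ i < 27, i ≠ 0 → F i = get tabB i) := by
  obtain ⟨g, hg, hgA⟩ := go_complete hr heq reps 0 (by decide) (fun i _ => Or.inl (by simp [get]))
  have hleaf : leafOK g = true := by
    rcases hal with rfl | rfl | rfl | rfl
    · exact List.all_eq_true.1 leaves_one g hg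
    · exact List.all_eq_true.1 leaves_three g hg
    · exact List.all_eq_true.1 leaves_five g hg
    · exact List.all_eq_true.1 leaves_seven g hg
  simp only [leafOK, Bool.and_eq_true, Bool.or_eq_true, List.all_eq_true, List.mem_range,
    bne_iff_ne, beq_iff_eq, Bool.not_eq_true', ne_eq] at hleaf
  obtain ⟨hfull, hres⟩ := hleaf
  have hgF : ∀ i < 27, i ≠ 0 → get g i = F i := fun i hi hi0 => by
    refine (hgA i hi).resolve_left ?_
    have h := hfull (i - 1) (by omega)
    rwa [show i - 1 + 1 = i by omega] at h
  rcases hres with (h | h) | h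
  · exfalso
    obtain ⟨i, hi, he⟩ := List.all_eq_false.1 h
    exact he (heqn g hgF (i + 1) (by have := List.mem_range.1 hi; omega) (by omega))
  · exact Or.inl fun i hi hi0 => by
      rw [← hgF i hi hi0]; exact (h i hi).resolve_left hi0
  · exact Or.inr fun i hi hi0 => by
      rw [← hgF i hi hi0]; exact (h i hi).resolve_left hi0

end CfsgLib.G2TwoRecog.Model
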