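import Cfsg.Agent.G2TwoRecog.Sylow
import Cfsg.Agent.G2TwoRecog.Model

/-!
# The point stabiliser of a simple group of order 6048 on its Sylow three-subgroups
-/

set_option autoImplicit false
set_option linter.unusedSectionVars false
set_option linter.style.haveILetI false

namespace CfsgLib.G2TwoRecog

open Cfsg CfsgLib.PrincipalBlock
open Model (hmul hinv hcom homOf homIter hpow3 sigK)

universe u

variable {G : Type u} [Group G] [Fintype G]

/-- Coordinates on an extraspecial group of order 27. -/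
def coord (a b : G) (u : ℕ) : G := a ^ (u % 3) * b ^ (u / 3 % 3) * (a * b * a⁻¹ * b⁻¹) ^ (u / 9)

/-- The properties needed for coordinates. -/
structure CoordHyp (a b : G) : Prop where
  ha : a ^ 3 = 1
  hb : b ^ 3 = 1
  hc : (a * b * a⁻¹ * b⁻¹) ^ 3 = 1
  hca : Commute (a * b * a⁻¹ * b⁻¹) a
  hcb : Commute (a * b * a⁻¹ * b⁻¹) b
  hne : a * b ≠ b * a

namespace CoordHyp

variable {a b : G} (h : CoordHyp a b)
include h

theorem swap_one : b * a = a * b * (a * b * a⁻¹ * b⁻¹)⁻¹ := by
  set c := a * b * a⁻¹ * b⁻¹ with hc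
  have hcab : Commute c (a * b) := h.hca.mul_right h.hcb
  calc b * a = c⁻¹ * (a * b) := by rw [hc]; group
    _ = a * b * c⁻¹ := hcab.inv_left.eq

theorem swap (y x : ℕ) :
    b ^ y * a ^ x = a ^ x * b ^ y * ((a * b * a⁻¹ * b⁻¹)⁻¹) ^ (x * y) := by
  set d := (a * b * a⁻¹ * b⁻¹)⁻¹
  have hdb : Commute d b := h.hcb.inv_left
  have hda : Commute d a := h.hca.inv_left
  have h1 : ∀ x : ℕ, b * a ^ x = a ^ x * b * d ^ x := by
    intro x
    induction x with
    | zero => simp
    | succ x ih =>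
      calc b * a ^ (x + 1) = (b * a ^ x) * a := by rw [pow_succ, mul_assoc]
        _ = a ^ x * b * (d ^ x * a) := by rw [ih, mul_assoc]
        _ = a ^ x * (b * a) * d ^ x := by rw [(hda.pow_left x).eq]; group
        _ = a ^ (x + 1) * b * d ^ (x + 1) := by
          rw [show b * a = a * b * d from h.swap_one, pow_succ, pow_succ']; group
  induction y with
  | zero => simp
  | succ y ih =>
    calc b ^ (y + 1) * a ^ x = b * (b ^ y * a ^ x) := by rw [pow_succ', mul_assoc]
      _ = (b * a ^ x) * b ^ y * d ^ (x * y) := by rw [ih]; group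
      _ = a ^ x * b * (d ^ x * b ^ y) * d ^ (x * y) := by rw [h1]; group
      _ = a ^ x * b * (b ^ y * d ^ x) * d ^ (x * y) := by rw [(hdb.pow_pow x y).eq]
      _ = a ^ x * b ^ (y + 1) * d ^ (x * (y + 1)) := by
        rw [Nat.mul_succ, Nat.add_comm, pow_add, pow_succ']; group

theorem pow_mod {g : G} (hg : g ^ 3 = 1) (n : ℕ) : g ^ (n % 3) = g ^ n := by
  conv_rhs => rw [← Nat.mod_add_div n 3, pow_add, pow_mul, hg, one_pow, mul_one]

theorem coord_mul {u v : ℕ} (hu : u < 27) (hv : v < 27) :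
    coord a b (hmul u v) = coord a b u * coord a b v := by
  have e1 : hmul u v % 3 = (u % 3 + v % 3) % 3 := by unfold Model.hmul; omega
  have e2 : hmul u v / 3 % 3 = (u / 3 % 3 + v / 3 % 3) % 3 := by unfold Model.hmul; omega
  have e3 : hmul u v / 9 = (u / 9 + v / 9 + 2 * (u / 3 % 3) * (v % 3)) % 3 := by
    unfold Model.hmul; omega
  simp only [coord, e1, e2, e3]
  rw [h.pow_mod h.ha (u % 3 + v % 3), h.pow_mod h.hb (u / 3 % 3 + v / 3 % 3),
    h.pow_mod h.hc (u / 9 + v / 9 + 2 * (u / 3 % 3) * (v % 3))]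
  set c := a * b * a⁻¹ * b⁻¹ with hc
  set x := u % 3
  set y := u / 3 % 3
  set w := u / 9
  set x' := v % 3
  set y' := v / 3 % 3
  set w' := v / 9
  have hinv : c⁻¹ = c ^ 2 :=
    inv_eq_of_mul_eq_one_right (by rw [← pow_succ', h.hc])
  have hb' : Commute c b := h.hcb
  have ha' : Commute c a := h.hca
  have h3 : (c⁻¹) ^ (x' * y) * b ^ y' = b ^ y' * (c⁻¹) ^ (x' * y) := (hb'.inv_left.pow_pow _ _).eq
  have h4 : c ^ w * a ^ x' = a ^ x' * c ^ w := (ha'.pow_pow _ _).eq
  have h5 : c ^ w * b ^ y' = b ^ y' * c ^ w := (hb'.pow_pow _ _).eq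
  symm
  calc a ^ x * b ^ y * c ^ w * (a ^ x' * b ^ y' * c ^ w')
      = a ^ x * b ^ y * (c ^ w * a ^ x') * b ^ y' * c ^ w' := by group
    _ = a ^ x * (b ^ y * a ^ x') * (c ^ w * b ^ y') * c ^ w' := by rw [h4]; group
    _ = a ^ x * a ^ x' * b ^ y * ((c⁻¹) ^ (x' * y) * b ^ y') * c ^ w * c ^ w' := by
      rw [show b ^ y * a ^ x' = a ^ x' * b ^ y * (c⁻¹) ^ (x' * y) from h.swap y x', h5]; group
    _ = a ^ (x + x') * b ^ (y + y') * c ^ (w + w' + 2 * y * x') := by
      rw [h3, hinv, ← pow_mul, show 2 * y * x' = 2 * (x' * y) by ring,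
        show w + w' + 2 * (x' * y) = 2 * (x' * y) + w + w' by ring, pow_add a, pow_add b,
        pow_add c, pow_add c]
      group

theorem coord_zero : coord a b 0 = 1 := by simp [coord]

theorem coord_hinv {u : ℕ} (hu : u < 27) : coord a b (hinv u) = (coord a b u)⁻¹ := by
  obtain ⟨h1, h2, -⟩ := Model.hinv_spec u hu
  exact eq_inv_of_mul_eq_one_right (by rw [← h.coord_mul hu h1, h2, h.coord_zero])

theorem coord_hcom {u v : ℕ} (hu : u < 27) (hv : v < 27) :
    coord a b (hcom u v) =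
      coord a b u * coord a b v * (coord a b u)⁻¹ * (coord a b v)⁻¹ := by
  obtain ⟨hu', -⟩ := Model.hinv_spec u hu
  obtain ⟨hv', -⟩ := Model.hinv_spec v hv
  rw [Model.hcom, h.coord_mul (Model.hmul_lt u hu v hv) (Model.hmul_lt _ hu' _ hv'),
    h.coord_mul hu hv, h.coord_mul hu' hv', h.coord_hinv hu, h.coord_hinv hv]
  group

/-- Commuting with the generators confines the coordinates. -/
theorem div_nine_of_commute {u : ℕ} (hua : Commute (coord a b u) a)
    (hub : Commute (coord a b u) b) : u % 9 = 0 := by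
  set c := a * b * a⁻¹ * b⁻¹ with hc
  have hz : ∀ (g e : G) (n : ℕ), n < 3 → g ^ 3 = 1 → Commute (g ^ n) e → ¬ Commute g e → n = 0 := by
    intro g e n hn hg hge hne
    interval_cases n
    · rfl
    · exact absurd (by simpa using hge) hne
    · refine absurd ?_ hne
      have h4 : g = (g ^ 2) ^ 2 := by rw [← pow_mul, show 2 * 2 = 3 + 1 by rfl, pow_add, hg]; simp
      rw [h4]
      exact hge.pow_left 2
  set x := u % 3
  set y := u / 3 % 3
  have hcw : Commute (c ^ (u / 9)) a := h.hca.pow_left _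
  have hcw' : Commute (c ^ (u / 9)) b := h.hcb.pow_left _
  have e1 : Commute (b ^ y) a := by
    have : Commute ((a ^ x)⁻¹ * coord a b u * (c ^ (u / 9))⁻¹) a :=
      (((Commute.refl a).pow_left _).inv_left.mul_left hua).mul_left hcw.inv_left
    simpa [coord, x, y, c, mul_assoc] using this
  have e2 : Commute (a ^ x) b := by
    have : Commute (coord a b u * (c ^ (u / 9))⁻¹ * (b ^ y)⁻¹) b :=
      (hub.mul_left hcw'.inv_left).mul_left ((Commute.refl b).pow_left _).inv_left
    simpa [coord, x, y, c, mul_assoc] using this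
  have hy : y = 0 := hz b a y (Nat.mod_lt _ (by norm_num)) h.hb e1 fun e => h.hne e.eq.symm
  have hx : x = 0 := hz a b x (Nat.mod_lt _ (by norm_num)) h.ha e2 fun e => h.hne e.eq
  omega

theorem coord_inj {u v : ℕ} (hu : u < 27) (hv : v < 27) (e : coord a b u = coord a b v) :
    u = v := by
  obtain ⟨hv', -⟩ := Model.hinv_spec v hv
  set m := hmul u (hinv v) with hm
  have hm27 : m < 27 := Model.hmul_lt u hu _ hv'
  have h1 : coord a b m = 1 := by rw [hm, h.coord_mul hu hv', h.coord_hinv hv, e, mul_inv_cancel]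
  refine Model.hmul_hinv_eq_zero u hu v hv ?_
  have h9 := h.div_nine_of_commute (u := m) (h1 ▸ Commute.one_left a) (h1 ▸ Commute.one_left b)
  have hc1 : (a * b * a⁻¹ * b⁻¹) ≠ 1 := fun hc => h.hne (commutatorElement_eq_one_iff_mul_comm.1 hc)
  have hcm : (a * b * a⁻¹ * b⁻¹) ^ (m / 9) = 1 := by
    simpa [coord, show m % 3 = 0 by omega, show m / 3 % 3 = 0 by omega] using h1
  have h3 : orderOf (a * b * a⁻¹ * b⁻¹) = 3 := orderOf_eq_prime h.hc hc1
  have := Nat.le_of_dvd (n := m / 9) (m := 3)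
  have hd := orderOf_dvd_of_pow_eq_one hcm
  rw [h3] at hd
  change m = 0
  omega

theorem coord_hpow3 {u n : ℕ} (hu : u < 27) (hn : n < 3) :
    coord a b (hpow3 u n) = coord a b u ^ n ∧ hpow3 u n < 27 := by
  interval_cases n
  · simp [Model.hpow3, h.coord_zero]
  · simp [Model.hpow3, hu]
  · exact ⟨by rw [show Model.hpow3 u 2 = hmul u u from rfl, h.coord_mul hu hu, sq],
      Model.hmul_lt u hu u hu⟩

/-- The action of an element normalizing through the images of the generators. -/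
theorem conj_coord {g : G} {A B C : ℕ} (hA : A < 27) (hB : B < 27) (hC : C < 27)
    (eA : g * a * g⁻¹ = coord a b A) (eB : g * b * g⁻¹ = coord a b B)
    (eC : g * (a * b * a⁻¹ * b⁻¹) * g⁻¹ = coord a b C) {u : ℕ} (hu : u < 27) :
    homOf A B C u < 27 ∧ g * coord a b u * g⁻¹ = coord a b (homOf A B C u) := by
  obtain ⟨eA', hA'⟩ := h.coord_hpow3 hA (Nat.mod_lt u (by norm_num : 0 < 3))
  obtain ⟨eB', hB'⟩ := h.coord_hpow3 hB (Nat.mod_lt (u / 3) (by norm_num : 0 < 3))
  obtain ⟨eC', hC'⟩ := h.coord_hpow3 hC (show u / 9 < 3 by omega)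
  have hAB := Model.hmul_lt _ hA' _ hB'
  refine ⟨Model.hmul_lt _ hAB _ hC', ?_⟩
  rw [Model.homOf, h.coord_mul hAB hC', h.coord_mul hA' hB', eA', eB', eC', ← eA, ← eB, ← eC,
    conj_pow, conj_pow, conj_pow, coord]
  group

theorem coord_three : coord a b 3 = b := by simp [coord]

theorem coord_one : coord a b 1 = a := by simp [coord]

theorem coord_four : coord a b 4 = a * b := by simp [coord]

theorem coord_eighteen : coord a b 18 = (a * b * a⁻¹ * b⁻¹)⁻¹ := by
  rw [inv_eq_of_mul_eq_one_right (b := (a * b * a⁻¹ * b⁻¹) ^ 2) (by rw [← pow_succ', h.hc])]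
  simp [coord]

end CoordHyp

/-- A point stabiliser with coordinates. -/
structure Frame (G : Type u) [Group G] where
  U : Sylow 3 G
  P : Sylow 3 G
  φ : ℕ → G
  d : G
  ne : P ≠ U
  φ_zero : φ 0 = 1
  φ_mem : ∀ u < 27, φ u ∈ (U : Subgroup G)
  φ_surj : ∀ g ∈ (U : Subgroup G), ∃ u < 27, φ u = g
  φ_mul : ∀ u < 27, ∀ v < 27, φ (hmul u v) = φ u * φ v
  d_U : d • U = U
  d_P : d • P = P
  d_order : orderOf d = 8
  stab : ∀ g : G, g • U = U → g • P = P → ∃ k < 8, g = d ^ k
  conj : ∀ k < 8, ∀ u < 27, d ^ k * φ u * (d ^ k)⁻¹ = φ (sigK k u)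
  regular : ∀ g ∈ (U : Subgroup G), g • P = P → g = 1
  transitive : ∀ Q : Sylow 3 G, Q ≠ U → ∃ g ∈ (U : Subgroup G), g • P = Q

variable (H : Hyp G) [Fact (Nat.Prime 3)]
include H

namespace Hyp

/-- The conjugation action on the Sylow three-subgroups is faithful. -/
theorem eq_one_of_fixes {g : G} (h : ∀ Q : Sylow 3 G, g • Q = Q) : g = 1 := by
  haveI := H.simple
  have hg : g ∈ (MulAction.toPermHom G (Sylow 3 G)).ker := by
    rw [MonoidHom.mem_ker]; exact Equiv.ext h
  rcases ((MulAction.toPermHom G (Sylow 3 G)).normal_ker).eq_bot_or_eq_top with hk | hk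
  · rwa [hk, Subgroup.mem_bot] at hg
  · exfalso
    obtain ⟨Q⟩ : Nonempty (Sylow 3 G) := inferInstance
    have hsub : Subsingleton (Sylow 3 G) := ⟨fun A B => by
      obtain ⟨c, rfl⟩ := MulAction.exists_smul_eq G A B
      have hc : MulAction.toPermHom G (Sylow 3 G) c = 1 := by
        rw [← MonoidHom.mem_ker, hk]; exact Subgroup.mem_top c
      exact (Equiv.congr_fun hc A).symm⟩
    have h28 := H.sylow_three_structure.1
    rw [Nat.card_of_subsingleton Q] at h28
    omega

theorem card_stab_one (U : Sylow 3 G) : Nat.card (MulAction.stabilizer G U) = 216 := by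
  have h := (MulAction.stabilizer G U).card_mul_index
  rw [MulAction.index_stabilizer_of_transitive, H.sylow_three_structure.1, H.card] at h
  omega

theorem regular_of_ne {U P : Sylow 3 G} (hne : P ≠ U) {g : G} (hg : g ∈ (U : Subgroup G))
    (hP : g • P = P) : g = 1 := by
  have hmem : g ∈ (U : Subgroup G) ⊓ Subgroup.normalizer ((P : Subgroup G) : Set G) :=
    ⟨hg, Sylow.smul_eq_iff_mem_normalizer.1 hP⟩
  have h2 : (U : Subgroup G) ⊓ Subgroup.normalizer ((P : Subgroup G) : Set G) =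
      (U : Subgroup G) ⊓ (P : Subgroup G) := U.isPGroup'.inf_normalizer_sylow P
  rw [h2] at hmem
  exact H.sylow_three_structure.2.2 U P hne.symm g hmem.1 hmem.2

theorem card_two_points {U P : Sylow 3 G} (hne : P ≠ U) :
    (∀ Q : Sylow 3 G, Q ≠ U → ∃ g ∈ (U : Subgroup G), g • P = Q) ∧
    Nat.card ↥(MulAction.stabilizer G U ⊓ MulAction.stabilizer G P) = 8 := by
  classical
  have hfix : ∀ g ∈ (U : Subgroup G), g • U = U := fun g hg =>
    Sylow.smul_eq_iff_mem_normalizer.2 (Subgroup.le_normalizer hg)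
  have hneU : ∀ g ∈ (U : Subgroup G), g • P ≠ U := fun g hg h =>
    hne (smul_left_cancel g (h.trans (hfix g hg).symm))
  let f : ↥(U : Subgroup G) → {Q : Sylow 3 G // Q ≠ U} := fun g => ⟨(g : G) • P, hneU _ g.2⟩
  have hinj : Function.Injective f := fun g g' h => by
    have h' : (g : G) • P = (g' : G) • P := congrArg Subtype.val h
    have h1 : ((g'⁻¹ * g : ↥(U : Subgroup G)) : G) • P = P := by
      rw [Subgroup.coe_mul, mul_smul, h', Subgroup.coe_inv, inv_smul_smul]
    have := H.regular_of_ne hne (g'⁻¹ * g).2 h1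
    exact (inv_mul_eq_one.1 (Subtype.ext this : g'⁻¹ * g = 1)).symm
  letI := Fintype.ofFinite {Q : Sylow 3 G // Q ≠ U}
  letI := Fintype.ofFinite (Sylow 3 G)
  have hcard : Nat.card {Q : Sylow 3 G // Q ≠ U} = 27 := by
    rw [Nat.card_eq_fintype_card, Fintype.card_subtype_compl, Fintype.card_subtype_eq,
      ← Nat.card_eq_fintype_card, H.sylow_three_structure.1]
  have hbij : Function.Bijective f :=
    (Nat.bijective_iff_injective_and_card f).2 ⟨hinj, by rw [H.card_sylow_three U, hcard]⟩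
  have htrans : ∀ Q : Sylow 3 G, Q ≠ U → ∃ g ∈ (U : Subgroup G), g • P = Q := fun Q hQ => by
    obtain ⟨g, hg⟩ := hbij.2 ⟨Q, hQ⟩
    exact ⟨g, g.2, congrArg Subtype.val hg⟩
  refine ⟨htrans, ?_⟩
  set D := MulAction.stabilizer G U ⊓ MulAction.stabilizer G P
  let e : ↥(U : Subgroup G) × ↥D → ↥(MulAction.stabilizer G U) := fun x =>
    ⟨(x.1 : G) * (x.2 : G), mul_mem (hfix _ x.1.2) x.2.2.1⟩
  have he : Function.Bijective e := by
    refine ⟨fun x y h => ?_, fun g => ?_⟩
    · have h' : (x.1 : G) * x.2 = (y.1 : G) * y.2 := congrArg Subtype.val h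
      have h1 : f x.1 = f y.1 := Subtype.ext (by
        show (x.1 : G) • P = (y.1 : G) • P
        conv_lhs => rw [← (x.2.2.2 : (x.2 : G) • P = P), ← mul_smul, h', mul_smul,
          (y.2.2.2 : (y.2 : G) • P = P)])
      have h2 := hinj h1
      rw [h2] at h'
      exact Prod.ext h2 (Subtype.ext (mul_left_cancel h'))
    · obtain ⟨u, hu, huP⟩ := htrans ((g : G) • P) fun h =>
        hne (smul_left_cancel (g : G) (h.trans (g.2 : (g : G) • U = U).symm))
      refine ⟨⟨⟨u, hu⟩, ⟨u⁻¹ * g, mul_mem (hfix _ (inv_mem hu)) g.2, ?_⟩⟩,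
        Subtype.ext (mul_inv_cancel_left u (g : G))⟩
      show (u⁻¹ * (g : G)) • P = P
      rw [mul_smul, ← huP, inv_smul_smul]
  have h := Nat.card_eq_of_bijective e he
  rw [Nat.card_prod, H.card_sylow_three U, H.card_stab_one U] at h
  omega

/-- Some element fixing two points inverts the centre. -/
theorem exists_inverting {χ : IrrCharacter G} (hχ : SixChar χ) {U P : Sylow 3 G} (hne : P ≠ U)
    {z : G} (hz : z ∈ (U : Subgroup G)) (hz1 : z ≠ 1)
    (hzc : ∀ v ∈ (U : Subgroup G), v * z = z * v) :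
    ∃ d ∈ MulAction.stabilizer G U ⊓ MulAction.stabilizer G P, d * z * d⁻¹ = z⁻¹ := by
  classical
  haveI := H.simple
  set D := MulAction.stabilizer G U ⊓ MulAction.stabilizer G P with hDdef
  obtain ⟨htrans, hD⟩ := H.card_two_points hne
  have hconjU : ∀ d ∈ D, ∀ v ∈ (U : Subgroup G), d * v * d⁻¹ ∈ (U : Subgroup G) := fun d hd v hv =>
    (Subgroup.mem_normalizer_iff.1 (Sylow.smul_eq_iff_mem_normalizer.1 hd.1) v).1 hv
  have hz3 := H.order_three hz hz1
  by_contra hcon
  simp only [not_exists, not_and] at hcon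
  have hcomm : ∀ d ∈ D, Commute d z := by
    intro d hd
    have hcz : ∀ v ∈ (U : Subgroup G), v * (d * z * d⁻¹) = d * z * d⁻¹ * v := fun v hv => by
      have h := hzc _ (hconjU d⁻¹ (inv_mem hd) v hv)
      rw [inv_inv] at h
      calc v * (d * z * d⁻¹) = d * (d⁻¹ * v * d * z) * d⁻¹ := by group
        _ = d * (z * (d⁻¹ * v * d)) * d⁻¹ := by rw [h]
        _ = d * z * d⁻¹ * v := by group
    have hmem := (of_central H hχ hz hz1 hzc).1 _ (hconjU d hd z hz) hcz
    rw [← mem_powers_iff_mem_zpowers, Submonoid.mem_powers_iff] at hmem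
    obtain ⟨n, hn⟩ := hmem
    rw [← pow_mod_orderOf, hz3] at hn
    have hlt : n % 3 < 3 := Nat.mod_lt _ (by norm_num)
    interval_cases h : n % 3
    · rw [pow_zero] at hn
      exact absurd (conj_eq_one_iff.1 hn.symm) hz1
    · rw [pow_one] at hn
      exact mul_inv_eq_iff_eq_mul.1 hn.symm
    · refine absurd ?_ (hcon d hd)
      rw [← hn]
      exact eq_inv_of_mul_eq_one_left
        (by rw [← pow_succ, show 2 + 1 = orderOf z by rw [hz3], pow_orderOf_eq_one])
  -- the elements with two-power order commuting with `z`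
  set T := Finset.univ.filter fun g : G => g ^ 64 = 1 ∧ Commute g z with hT
  have hd8 : ∀ d ∈ D, d ^ 8 = 1 := fun d hd => by
    rw [← hD]
    exact congrArg Subtype.val (pow_card_eq_one' (x := (⟨d, hd⟩ : D)))
  have hfpf : ∀ d ∈ D, d ≠ 1 → ∀ v ∈ (U : Subgroup G), Commute d v → v ∈ Subgroup.zpowers z := by
    intro d hd hd1 v hv hc
    by_contra hnot
    have hv1 : v ≠ 1 := fun h => hnot (h ▸ one_mem _)
    have h8 : orderOf d ∣ 2 ^ 3 := orderOf_dvd_of_pow_eq_one (hd8 d hd)
    obtain ⟨j, hj, hdj⟩ := (Nat.dvd_prime_pow Nat.prime_two).1 h8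
    have hj0 : j ≠ 0 := fun h => hd1 (orderOf_eq_one_iff.1 (by rw [hdj, h, pow_zero]))
    have hb : orderOf (d ^ 2 ^ (j - 1)) = 2 := by
      rw [orderOf_pow' _ (pow_ne_zero _ (by norm_num)), hdj,
        Nat.gcd_eq_right (pow_dvd_pow 2 (by omega)), Nat.pow_div (by omega) (by norm_num),
        show j - (j - 1) = 1 by omega, pow_one]
    exact no_invol_commute H hχ (H.order_three hv hv1) (val_noncentral H hχ hz hz1 hzc hv hnot) hb
      (hc.pow_left _).symm
  have hT64 : 64 ≤ T.card := by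
    set src := ((Finset.univ.filter fun g : G => g ∈ D ∧ g ≠ 1) ×ˢ
      Finset.univ.filter fun g : G => g ∈ (U : Subgroup G)) with hsrc
    set f : G × G → G := fun x => x.2 * x.1 * x.2⁻¹
    have hc7 : (Finset.univ.filter fun g : G => g ∈ D ∧ g ≠ 1).card = 7 := by
      rw [show (Finset.univ.filter fun g : G => g ∈ D ∧ g ≠ 1) =
        (Finset.univ.filter fun g : G => g ∈ D).erase 1 by ext g; simp [and_comm],
        Finset.card_erase_of_mem (by simp), ← Fintype.card_subtype, ← Nat.card_eq_fintype_card, hD]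
    have hc27 : (Finset.univ.filter fun g : G => g ∈ (U : Subgroup G)).card = 27 := by
      rw [← Fintype.card_subtype, ← Nat.card_eq_fintype_card, H.card_sylow_three U]
    have hsrc189 : src.card = 189 := by rw [hsrc, Finset.card_product, hc7, hc27]
    have hZ3 : (Finset.univ.filter fun g : G => g ∈ Subgroup.zpowers z).card = 3 := by
      rw [← Fintype.card_subtype, ← Nat.card_eq_fintype_card, Nat.card_zpowers, hz3]
    have himg : 63 ≤ (src.image f).card := by
      have h := Finset.card_le_mul_card_image (f := f) src 3 ?_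
      · rw [hsrc189] at h; omega
      intro b hb
      obtain ⟨⟨d₀, u₀⟩, hx₀, rfl⟩ := Finset.mem_image.1 hb
      simp only [hsrc, Finset.mem_product, Finset.mem_filter, Finset.mem_univ, true_and] at hx₀
      rw [← hZ3]
      refine Finset.card_le_card_of_injOn (fun x => u₀⁻¹ * x.2) ?_ ?_
      · rintro ⟨d, v⟩ hx
        simp only [hsrc, Finset.coe_filter, Set.mem_ofPred_eq, Finset.mem_product,
          Finset.mem_filter, Finset.mem_univ, true_and] at hx ⊢
        obtain ⟨⟨⟨hd, hd1⟩, hv⟩, he⟩ := hx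
        have he' : v * d * v⁻¹ = u₀ * d₀ * u₀⁻¹ := he
        set w := u₀⁻¹ * v
        have hw : w ∈ (U : Subgroup G) := mul_mem (inv_mem hx₀.2) hv
        have hwd : w * d = d₀ * w := by
          calc w * d = u₀⁻¹ * (v * d * v⁻¹) * v := by simp only [w]; group
            _ = u₀⁻¹ * (u₀ * d₀ * u₀⁻¹) * v := by rw [he']
            _ = d₀ * w := by simp only [w]; group
        have hdd : d₀⁻¹ * d ∈ D := mul_mem (inv_mem hx₀.1.1) hd
        have hU' : d₀⁻¹ * d ∈ (U : Subgroup G) := by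
          have h1 : d₀⁻¹ * d = d₀⁻¹ * w⁻¹ * (d₀⁻¹)⁻¹ * w := by
            calc d₀⁻¹ * d = d₀⁻¹ * (w⁻¹ * (w * d)) := by group
              _ = d₀⁻¹ * (w⁻¹ * (d₀ * w)) := by rw [hwd]
              _ = _ := by group
          rw [h1]
          exact mul_mem (hconjU _ (inv_mem hx₀.1.1) _ (inv_mem hw)) hw
        have heq : d₀ = d := inv_mul_eq_one.1 (H.regular_of_ne hne hU' hdd.2)
        subst heq
        exact hfpf _ hd hd1 w hw hwd.symm
      · rintro ⟨d, v⟩ hx ⟨d', v'⟩ hx' h
        simp only [Finset.coe_filter, Set.mem_ofPred_eq] at hx hx'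
        have hv : v = v' := mul_left_cancel h
        subst hv
        have h' : v * d * v⁻¹ = v * d' * v⁻¹ := hx.2.trans hx'.2.symm
        rw [mul_left_cancel (mul_right_cancel h')]
    have hsub : insert 1 (src.image f) ⊆ T := by
      intro g hg
      rcases Finset.mem_insert.1 hg with rfl | hg
      · simp [hT]
      obtain ⟨⟨d, v⟩, hx, rfl⟩ := Finset.mem_image.1 hg
      simp only [hsrc, Finset.mem_product, Finset.mem_filter, Finset.mem_univ, true_and] at hx
      simp only [hT, Finset.mem_filter, Finset.mem_univ, true_and, f]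
      refine ⟨?_, ?_⟩
      · rw [conj_pow, show 64 = 8 * 8 by rfl, pow_mul, hd8 d hx.1.1, one_pow, mul_one, mul_inv_cancel]
      · have hvz : Commute v z := hzc v hx.2
        exact (hvz.mul_left (hcomm d hx.1.1)).mul_left hvz.inv_left
    have h1 : (1 : G) ∉ src.image f := by
      rintro h
      obtain ⟨⟨d, v⟩, hx, hf⟩ := Finset.mem_image.1 h
      simp only [hsrc, Finset.mem_product, Finset.mem_filter, Finset.mem_univ, true_and] at hx
      exact hx.1.2 (conj_eq_one_iff.1 hf)
    have := Finset.card_le_card hsub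
    rw [Finset.card_insert_of_notMem h1] at this
    omega
  -- counting all elements
  set S56 := Finset.univ.filter fun w : G => orderOf w = 3 ∧ xval χ w = -3 with hS56
  have h64 : ∀ w : G, orderOf w = 3 → w ^ 64 = w := fun w hw => by
    rw [← pow_mod_orderOf, hw, show 64 % 3 = 1 by rfl, pow_one]
  have hfibre : ∀ w ∈ S56, 64 ≤ (Finset.univ.filter fun g : G => g ^ 64 = w).card := by
    intro w hw
    obtain ⟨-, hw3, hwv⟩ := Finset.mem_filter.1 hw
    obtain ⟨V, hV⟩ := H.exists_sylow_three hw3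
    obtain ⟨c, hc⟩ := MulAction.exists_smul_eq G U V
    have hback : ∀ x : G, x ∈ (V : Subgroup G) → c⁻¹ * x * c ∈ (U : Subgroup G) := fun x hx => by
      rw [← hc, Sylow.coe_subgroup_smul, Subgroup.mem_pointwise_smul_iff_inv_smul_mem] at hx
      simpa [MulAut.smul_def, mul_assoc] using hx
    have hfwd : ∀ x : G, x ∈ (U : Subgroup G) → c * x * c⁻¹ ∈ (V : Subgroup G) := fun x hx => by
      rw [← hc, Sylow.coe_subgroup_smul, Subgroup.mem_pointwise_smul_iff_inv_smul_mem]
      simpa [MulAut.smul_def, mul_assoc] using hx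
    have hu' : c⁻¹ * w * c ∈ Subgroup.zpowers z := by
      refine (of_central H hχ hz hz1 hzc).1 _ (hback w hV) fun v hv => ?_
      have h := central_of_val H hχ hV hwv _ (hfwd v hv)
      calc v * (c⁻¹ * w * c) = c⁻¹ * (c * v * c⁻¹ * w) * c := by group
        _ = c⁻¹ * (w * (c * v * c⁻¹)) * c := by rw [h]
        _ = c⁻¹ * w * c * v := by group
    refine le_trans hT64 (Finset.card_le_card_of_injOn (fun h => w * (c * h * c⁻¹)) ?_ ?_)
    · intro h hh
      simp only [hT, Finset.coe_filter, Set.mem_ofPred_eq, Finset.mem_filter, Finset.mem_univ,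
        true_and] at hh ⊢
      have hcw : Commute h (c⁻¹ * w * c) := by
        obtain ⟨j, hj⟩ := hu'
        rw [← hj]; exact hh.2.zpow_right j
      have hcw' : Commute w (c * h * c⁻¹) :=
        calc w * (c * h * c⁻¹) = c * (c⁻¹ * w * c * h) * c⁻¹ := by group
          _ = c * (h * (c⁻¹ * w * c)) * c⁻¹ := by rw [hcw.eq]
          _ = c * h * c⁻¹ * w := by group
      rw [hcw'.mul_pow, h64 w hw3, conj_pow, hh.1]
      group
    · intro a _ b _ h
      simpa using h
  have h672 : (Finset.univ.filter fun g : G => orderOf g = 3 ∧ xval χ g = 0).card = 672 := by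
    obtain ⟨a, b, c, e1, e2, hh⟩ := card_three_eqs H hχ
    obtain ⟨ha, hb, hc⟩ := @hh _
    have ha0 : a = 0 := by
      rw [ha]
      exact Finset.card_eq_zero.2 (Finset.filter_eq_empty_iff.2
        fun u _ h => val_ne_three H hχ h.1 h.2)
    rw [← hb]; omega
  haveI : Fact (Nat.Prime 7) := ⟨by norm_num⟩
  set A := Finset.univ.filter fun g : G => g ^ 64 = 1 with hA
  set B := S56.biUnion fun w => Finset.univ.filter fun g : G => g ^ 64 = w with hB
  set C7 := Finset.univ.filter fun g : G => orderOf g = 7 with hC7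
  set E := Finset.univ.filter fun g : G => orderOf g = 3 ∧ xval χ g = 0 with hE
  have hBcard : 3584 ≤ B.card := by
    rw [hB, Finset.card_biUnion]
    · calc 3584 = ∑ _w ∈ S56, 64 := by
            rw [Finset.sum_const, hS56, card_central_set H hχ]; rfl
        _ ≤ _ := Finset.sum_le_sum hfibre
    · intro w _ w' _ hne
      refine Finset.disjoint_left.2 fun g hg hg' => hne ?_
      exact (Finset.mem_filter.1 hg).2.symm.trans (Finset.mem_filter.1 hg').2
  have hAB : Disjoint A B := by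
    refine Finset.disjoint_left.2 fun g hg hg' => ?_
    obtain ⟨w, hw, hgw⟩ := Finset.mem_biUnion.1 hg'
    have h1 : w = 1 := (Finset.mem_filter.1 hgw).2.symm.trans (Finset.mem_filter.1 hg).2
    have h3 : orderOf w = 3 := (Finset.mem_filter.1 hw).2.1
    rw [h1, orderOf_one] at h3
    omega
  have hABC : Disjoint (A ∪ B) C7 := by
    refine Finset.disjoint_left.2 fun g hg hg' => ?_
    have h7 : orderOf g = 7 := (Finset.mem_filter.1 hg').2
    have hg64 : g ^ 64 = g := by rw [← pow_mod_orderOf, h7, show 64 % 7 = 1 by rfl, pow_one]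
    rcases Finset.mem_union.1 hg with hg | hg
    · have h1 : g = 1 := hg64.symm.trans (Finset.mem_filter.1 hg).2
      rw [h1, orderOf_one] at h7
      omega
    · obtain ⟨w, hw, hgw⟩ := Finset.mem_biUnion.1 hg
      have h3 : orderOf w = 3 := (Finset.mem_filter.1 hw).2.1
      rw [← (Finset.mem_filter.1 hgw).2, hg64] at h3
      omega
  have hABCE : Disjoint (A ∪ B ∪ C7) E := by
    refine Finset.disjoint_left.2 fun g hg hg' => ?_
    obtain ⟨-, h3, h0⟩ := Finset.mem_filter.1 hg'
    rcases Finset.mem_union.1 hg with hg | hg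
    · rcases Finset.mem_union.1 hg with hg | hg
      · have h1 : g = 1 := (h64 g h3).symm.trans (Finset.mem_filter.1 hg).2
        rw [h1, orderOf_one] at h3
        omega
      · obtain ⟨w, hw, hgw⟩ := Finset.mem_biUnion.1 hg
        have h3' : xval χ w = -3 := (Finset.mem_filter.1 hw).2.2
        rw [← (Finset.mem_filter.1 hgw).2, h64 g h3, h0] at h3'
        norm_num at h3'
    · have h7 : orderOf g = 7 := (Finset.mem_filter.1 hg).2
      omega
  have htot : (A ∪ B ∪ C7 ∪ E).card ≤ 6048 := by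
    rw [← H.card, Nat.card_eq_fintype_card]
    exact Finset.card_le_univ _
  rw [Finset.card_union_of_disjoint hABCE, Finset.card_union_of_disjoint hABC,
    Finset.card_union_of_disjoint hAB, hC7, H.card_seven, hE, h672] at htot
  have hTA : T = A := Finset.eq_of_subset_of_card_le
    (fun g hg => Finset.mem_filter.2 ⟨Finset.mem_univ _, (Finset.mem_filter.1 hg).2.1⟩) (by omega)
  set K := Subgroup.closure {g : G | orderOf g = 2} with hK
  haveI : K.Normal := by
    refine ⟨fun n hn g => ?_⟩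
    have hle : K ≤ K.comap (MulAut.conj g).toMonoidHom := by
      refine (Subgroup.closure_le _).2 fun x hx => Subgroup.subset_closure ?_
      show orderOf (MulAut.conj g x) = 2
      rw [MulEquiv.orderOf_eq]; exact hx
    simpa using hle hn
  have hKz : K ≤ Subgroup.centralizer {z} := by
    refine (Subgroup.closure_le _).2 fun g hg => ?_
    have hgA : g ∈ A := Finset.mem_filter.2 ⟨Finset.mem_univ _, orderOf_dvd_iff_pow_eq_one.1
      (by rw [show orderOf g = 2 from hg]; norm_num)⟩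
    rw [← hTA] at hgA
    exact Subgroup.mem_centralizer_singleton_iff.2 (Finset.mem_filter.1 hgA).2.2
  haveI : Fact (Nat.Prime 2) := ⟨Nat.prime_two⟩
  obtain ⟨t, ht⟩ := exists_prime_orderOf_dvd_card' (G := G) 2 (by rw [H.card]; norm_num)
  have hKtop : K = ⊤ := (inferInstance : K.Normal).eq_bot_or_eq_top.resolve_left fun h => by
    have : t ∈ K := Subgroup.subset_closure ht
    rw [h, Subgroup.mem_bot] at this
    rw [this, orderOf_one] at ht
    omega
  have hzcen : z ∈ Subgroup.center G := Subgroup.mem_center_iff.2 fun g =>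
    Subgroup.mem_centralizer_singleton_iff.1 (hKz (hKtop ▸ Subgroup.mem_top g))
  rcases (inferInstance : (Subgroup.center G).Normal).eq_bot_or_eq_top with h | h
  · rw [h, Subgroup.mem_bot] at hzcen; exact hz1 hzcen
  · exact H.noncomm ⟨⟨fun x y => (Subgroup.mem_center_iff.1 (h ▸ Subgroup.mem_top x) y).symm⟩⟩

/-- A frame exists. -/
theorem exists_frame : Nonempty (Frame G) := by
  classical
  obtain ⟨χ, hχ⟩ := H.exists_sixChar
  obtain ⟨U⟩ : Nonempty (Sylow 3 G) := inferInstance
  obtain ⟨P, hne⟩ : ∃ P : Sylow 3 G, P ≠ U := by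
    by_contra hcon
    simp only [not_exists, not_not] at hcon
    haveI : Subsingleton (Sylow 3 G) := ⟨fun A B => (hcon A).trans (hcon B).symm⟩
    have h28 := H.sylow_three_structure.1
    rw [Nat.card_of_subsingleton U] at h28
    omega
  obtain ⟨htrans, hD⟩ := H.card_two_points hne
  obtain ⟨z, hz, hz1, hzc⟩ := exists_central H hχ U
  obtain ⟨d, hd, hdz⟩ := H.exists_inverting hχ hne hz hz1 hzc
  set D := MulAction.stabilizer G U ⊓ MulAction.stabilizer G P with hDdef
  obtain ⟨a₀, ha₀, b₀, hb₀, hab₀⟩ := not_abelian H hχ U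
  obtain ⟨-, hconjz⟩ := of_central H hχ hz hz1 hzc
  have hzp : ∀ w ∈ Subgroup.zpowers z, ∀ v ∈ (U : Subgroup G), Commute w v := by
    rintro w ⟨j, rfl⟩ v hv
    exact ((show Commute v z from hzc v hv).zpow_right j).symm
  have h3 : ∀ g ∈ (U : Subgroup G), g ^ 3 = 1 := by
    intro g hg
    by_cases h : g = 1
    · rw [h, one_pow]
    · rw [← H.order_three hg h, pow_orderOf_eq_one]
  have hcomm : ∀ a ∈ (U : Subgroup G), ∀ b ∈ (U : Subgroup G),
      a * b * a⁻¹ * b⁻¹ ∈ Subgroup.zpowers z := by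
    intro a ha b hb
    obtain ⟨w, hw, he⟩ := hconjz b hb a ha
    rw [he, ← (hzp w hw b hb).eq, mul_inv_cancel_right]
    exact hw
  have mk : ∀ a ∈ (U : Subgroup G), ∀ b ∈ (U : Subgroup G), a * b ≠ b * a → CoordHyp a b := by
    intro a ha b hb hab
    have hcU : a * b * a⁻¹ * b⁻¹ ∈ (U : Subgroup G) :=
      mul_mem (mul_mem (mul_mem ha hb) (inv_mem ha)) (inv_mem hb)
    exact ⟨h3 a ha, h3 b hb, h3 _ hcU, hzp _ (hcomm a ha b hb) a ha, hzp _ (hcomm a ha b hb) b hb, hab⟩
  have hcoord_mem : ∀ {a b : G}, a ∈ (U : Subgroup G) → b ∈ (U : Subgroup G) → ∀ u,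
      coord a b u ∈ (U : Subgroup G) := fun {a b} ha hb u =>
    mul_mem (mul_mem (pow_mem ha _) (pow_mem hb _))
      (pow_mem (mul_mem (mul_mem (mul_mem ha hb) (inv_mem ha)) (inv_mem hb)) _)
  have hsurj : ∀ {a b : G}, a ∈ (U : Subgroup G) → b ∈ (U : Subgroup G) → CoordHyp a b →
      ∀ g ∈ (U : Subgroup G), ∃ u < 27, coord a b u = g := by
    intro a b ha hb hC g hg
    let f : Fin 27 → ↥(U : Subgroup G) := fun i => ⟨coord a b i, hcoord_mem ha hb i⟩
    have hf : Function.Bijective f := (Nat.bijective_iff_injective_and_card f).2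
      ⟨fun i j h => Fin.ext (hC.coord_inj i.2 j.2 (congrArg Subtype.val h)),
        by rw [Nat.card_eq_fintype_card, Fintype.card_fin, H.card_sylow_three U]⟩
    obtain ⟨i, hi⟩ := hf.2 ⟨g, hg⟩
    exact ⟨i, i.2, congrArg Subtype.val hi⟩
  have hconjU : ∀ e ∈ D, ∀ v ∈ (U : Subgroup G), e * v * e⁻¹ ∈ (U : Subgroup G) := fun e he v hv =>
    (Subgroup.mem_normalizer_iff.1 (Sylow.smul_eq_iff_mem_normalizer.1 he.1) v).1 hv
  have hfaith : ∀ e ∈ D, (∀ v ∈ (U : Subgroup G), e * v * e⁻¹ = v) → e = 1 := by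
    intro e he hv
    refine H.eq_one_of_fixes fun Q => ?_
    by_cases hQ : Q = U
    · rw [hQ]; exact he.1
    · obtain ⟨g, hg, rfl⟩ := htrans Q hQ
      rw [← mul_smul, show e * g = g * e from mul_inv_eq_iff_eq_mul.1 (hv g hg), mul_smul,
        (he.2 : e • P = P)]
  -- the automorphism in the first coordinates
  have C₀ := mk a₀ ha₀ b₀ hb₀ hab₀
  obtain ⟨A, hA, eA⟩ := hsurj ha₀ hb₀ C₀ _ (hconjU d hd a₀ ha₀)
  obtain ⟨B, hB, eB⟩ := hsurj ha₀ hb₀ C₀ _ (hconjU d hd b₀ hb₀)
  have hdc : d * (a₀ * b₀ * a₀⁻¹ * b₀⁻¹) * d⁻¹ = (a₀ * b₀ * a₀⁻¹ * b₀⁻¹)⁻¹ := by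
    obtain ⟨j, hj⟩ := hcomm a₀ ha₀ b₀ hb₀
    rw [← hj, ← conj_zpow, hdz, inv_zpow]
  have hcom18 : hcom A B = 18 := by
    refine C₀.coord_inj (Model.hmul_lt _ (Model.hmul_lt A hA B hB) _
      (Model.hmul_lt _ (Model.hinv_spec A hA).1 _ (Model.hinv_spec B hB).1)) (by norm_num) ?_
    rw [C₀.coord_hcom hA hB, C₀.coord_eighteen, ← hdc, eA, eB]
    group
  have hiter : ∀ k, ∀ u < 27, homIter A B 18 k u < 27 ∧
      d ^ k * coord a₀ b₀ u * (d ^ k)⁻¹ = coord a₀ b₀ (homIter A B 18 k u) := by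
    intro k u hu
    induction k with
    | zero => simp [Model.homIter, hu]
    | succ k ih =>
      obtain ⟨h1, h2⟩ := C₀.conj_coord hA hB (by norm_num : 18 < 27) eA.symm eB.symm
        (hdc.trans C₀.coord_eighteen.symm) ih.1
      refine ⟨h1, ?_⟩
      rw [Model.homIter, ← h2, ← ih.2, pow_succ']
      group
  have hd8 : d ^ 8 = 1 := by
    rw [← hD]; exact congrArg Subtype.val (pow_card_eq_one' (x := (⟨d, hd⟩ : D)))
  have hid : ∀ j, d ^ j = 1 → ∀ u < 27, homIter A B 18 j u = u := fun j hj u hu =>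
    C₀.coord_inj (hiter j u hu).1 hu (by rw [← (hiter j u hu).2, hj]; simp)
  have hone : ∀ j, (∀ u < 27, homIter A B 18 j u = u) → d ^ j = 1 := by
    intro j hj
    refine hfaith _ (pow_mem hd j) fun v hv => ?_
    obtain ⟨u, hu, rfl⟩ := hsurj ha₀ hb₀ C₀ v hv
    rw [(hiter j u hu).2, hj u hu]
  have hcond : Model.autoCond A B = true := by
    simp only [Model.autoCond, Bool.and_eq_true, beq_iff_eq, List.all_eq_true, List.mem_range,
      Bool.or_eq_true, bne_iff_ne, ne_eq]
    refine ⟨⟨hcom18, hid 8 hd8⟩, fun j _ => ?_⟩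
    by_cases hj2 : d ^ (2 * j) = 1
    · by_cases hj : d ^ j = 1
      · exact Or.inl (Or.inr (hid j hj))
      · refine Or.inr fun u hu => ?_
        by_contra hcon
        simp only [not_or, not_not] at hcon
        obtain ⟨h9, hfix⟩ := hcon
        have hv := hcoord_mem ha₀ hb₀ u
        have hnot : coord a₀ b₀ u ∉ Subgroup.zpowers z := fun hm =>
          h9 (C₀.div_nine_of_commute (hzp _ hm _ ha₀) (hzp _ hm _ hb₀))
        have hv1 : coord a₀ b₀ u ≠ 1 := fun e => hnot (e ▸ one_mem _)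
        have hinv : orderOf (d ^ j) = 2 :=
          orderOf_eq_prime (by rw [← pow_mul, mul_comm]; exact hj2) hj
        refine no_invol_commute H hχ (H.order_three hv hv1)
          (val_noncentral H hχ hz hz1 hzc hv hnot) hinv (Commute.symm ?_)
        refine mul_inv_eq_iff_eq_mul.1 ?_
        rw [(hiter j u hu).2, hfix]
    · refine Or.inl (Or.inl ?_)
      rw [Bool.not_eq_true']
      by_contra hcon
      rw [Bool.not_eq_false, List.all_eq_true] at hcon
      exact hj2 (hone _ fun u hu => by simpa using hcon u (List.mem_range.2 hu))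
  obtain ⟨k, -, a, ha27, hne0, hrel⟩ := Model.exists_good_pair A hA B hB hcond
  -- the new coordinates
  obtain ⟨hb27, eb⟩ := hiter k a ha27
  set b := homIter A B 18 k a
  obtain ⟨hbb, ebb⟩ := hiter k b hb27
  set x := coord a₀ b₀ a
  set y := coord a₀ b₀ b
  have hx : x ∈ (U : Subgroup G) := hcoord_mem ha₀ hb₀ a
  have hy : y ∈ (U : Subgroup G) := hcoord_mem ha₀ hb₀ b
  have hxy : x * y ≠ y * x := fun h => hne0 (C₀.coord_inj
    (Model.hmul_lt _ (Model.hmul_lt a ha27 b hb27) _
      (Model.hmul_lt _ (Model.hinv_spec a ha27).1 _ (Model.hinv_spec b hb27).1)) (by norm_num) (by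
    rw [C₀.coord_hcom ha27 hb27, C₀.coord_zero]
    exact commutatorElement_eq_one_iff_mul_comm.2 h))
  have C₁ := mk x hx y hy hxy
  set e := d ^ k
  have heD : e ∈ D := pow_mem hd k
  have ex : e * x * e⁻¹ = coord x y 3 := by rw [C₁.coord_three]; exact eb
  have ey : e * y * e⁻¹ = coord x y 4 := by
    rw [C₁.coord_four, ebb, hrel, C₀.coord_mul ha27 hb27]
  have ec : e * (x * y * x⁻¹ * y⁻¹) * e⁻¹ = coord x y 18 := by
    rw [C₁.coord_eighteen,
      show e * (x * y * x⁻¹ * y⁻¹) * e⁻¹ = (e * x * e⁻¹) * (e * y * e⁻¹) * (e * x * e⁻¹)⁻¹ *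
        (e * y * e⁻¹)⁻¹ by group, ex, ey, C₁.coord_three, C₁.coord_four]
    group
  have hconj : ∀ j < 8, ∀ u < 27, e ^ j * coord x y u * (e ^ j)⁻¹ = coord x y (sigK j u) := by
    intro j
    induction j with
    | zero =>
      intro _ u hu
      have h0 : sigK 0 u = u := by
        have : ∀ v < 27, sigK 0 v = v := by decide +kernel
        exact this u hu
      rw [h0]; simp
    | succ j ih =>
      intro hj u hu
      obtain ⟨hlt, -, -, hsucc⟩ := Model.sigK_spec j (by omega) u hu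
      rw [Nat.mod_eq_of_lt hj] at hsucc
      rw [hsucc, Model.sig_one_eq _ hlt, ← (C₁.conj_coord (by norm_num : 3 < 27)
        (by norm_num : 4 < 27) (by norm_num : 18 < 27) ex ey ec hlt).2, ← ih (by omega) u hu,
        pow_succ']
      group
  have he8 : e ^ 8 = 1 := by rw [← pow_mul, mul_comm, pow_mul, hd8, one_pow]
  have horder : orderOf e = 8 := by
    have h4 : ¬ e ^ 4 = 1 := fun h => by
      have h' := hconj 4 (by norm_num) 1 (by norm_num)
      rw [h, one_mul, inv_one, mul_one] at h'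
      exact absurd (C₁.coord_inj (by norm_num) (Model.sigK_spec 4 (by norm_num) 1 (by norm_num)).1 h')
        (by decide +kernel)
    exact orderOf_eq_prime_pow (p := 2) (n := 2) h4 he8
  refine ⟨⟨U, P, coord x y, e, hne, C₁.coord_zero, fun u _ => hcoord_mem hx hy u,
    hsurj hx hy C₁, fun u hu v hv => C₁.coord_mul hu hv, heD.1, heD.2, horder, fun g hU hP => ?_,
    hconj, fun g hg hP => H.regular_of_ne hne hg hP, htrans⟩⟩
  have hle : Subgroup.zpowers e ≤ D := Subgroup.zpowers_le.2 heD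
  have hz8 : Subgroup.zpowers e = D :=
    Subgroup.eq_of_le_of_card_ge hle (by rw [hD, Nat.card_zpowers, horder])
  have hg : g ∈ Subgroup.zpowers e := hz8.ge ⟨hU, hP⟩
  rw [← mem_powers_iff_mem_zpowers, Submonoid.mem_powers_iff] at hg
  obtain ⟨n, rfl⟩ := hg
  exact ⟨n % 8, Nat.mod_lt _ (by norm_num), by rw [← horder, pow_mod_orderOf]⟩

end Hyp

end CfsgLib.G2TwoRecog
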