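import Cfsg.Agent.G2TwoRecog.Block

/-!
# The Sylow seven-subgroups and dihedral subgroups
-/

set_option autoImplicit false
set_option linter.unusedSectionVars false

namespace CfsgLib.G2TwoRecog

open Cfsg CfsgLib.PrincipalBlock CfsgLib.LargePrime
open scoped ComplexConjugate

universe u

variable {G : Type u} [Group G] [Fintype G] [Fact (Nat.Prime 7)] {P : Sylow 7 G}

theorem card_sylow_seven {m : ℕ} (hm : Nat.card G = 7 * m) (h7 : ¬ 7 ∣ m) (P : Sylow 7 G) :
    Nat.card (P : Subgroup G) = 7 := by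
  rw [P.card_eq_multiplicity, hm,
    Nat.factorization_mul (by norm_num) (by rintro rfl; exact h7 (dvd_zero 7)), Finsupp.add_apply,
    Nat.factorization_eq_zero_of_not_dvd h7, (Fact.out : Nat.Prime 7).factorization_self]
  norm_num

theorem self_centralizing {a b : ℕ} (hG : Nat.card G = 7 * (2 ^ a * 3 ^ b))
    (h14 : ∀ g : G, orderOf g ≠ 14) (h21 : ∀ g : G, orderOf g ≠ 21) (P : Sylow 7 G) :
    Subgroup.centralizer ((P : Subgroup G) : Set G) = (P : Subgroup G) := by
  have h7 : ¬ 7 ∣ 2 ^ a * 3 ^ b := fun h => by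
    rcases (Fact.out : Nat.Prime 7).dvd_mul.1 h with h | h <;>
      exact absurd ((Fact.out : Nat.Prime 7).dvd_of_dvd_pow h) (by norm_num)
  have hP := card_sylow_seven hG h7 P
  haveI : IsCyclic (P : Subgroup G) := isCyclic_of_prime_card hP
  have hle : (P : Subgroup G) ≤ Subgroup.centralizer ((P : Subgroup G) : Set G) :=
    Subgroup.le_centralizer_iff_isMulCommutative.2 inferInstance
  refine (Subgroup.eq_of_le_of_card_ge hle ?_).symm
  rw [hP]
  set C := Subgroup.centralizer ((P : Subgroup G) : Set G)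
  obtain ⟨c, hc⟩ : 7 ∣ Nat.card C := hP ▸ Subgroup.card_dvd_of_le hle
  have hd : c ∣ 2 ^ a * 3 ^ b :=
    Nat.dvd_of_mul_dvd_mul_left (by norm_num : 0 < 7) (by rw [← hc, ← hG]; exact C.card_subgroup_dvd_card)
  by_contra hgt
  obtain ⟨r, hr, hrc⟩ := Nat.exists_prime_and_dvd (n := c) (by omega)
  haveI : Fact r.Prime := ⟨hr⟩
  obtain ⟨x, hx⟩ := exists_prime_orderOf_dvd_card' (G := C) r (hc ▸ hrc.mul_left 7)
  obtain ⟨y, hy⟩ := exists_prime_orderOf_dvd_card' (G := (P : Subgroup G)) 7 (by rw [hP])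
  have hcom : Commute (y : G) (x : G) := Subgroup.mem_centralizer_iff.1 x.2 _ y.2
  have hx' : orderOf (x : G) = r := by rw [Subgroup.orderOf_coe, hx]
  have hy' : orderOf (y : G) = 7 := by rw [Subgroup.orderOf_coe, hy]
  rcases hr.dvd_mul.1 (hrc.trans hd) with h | h
  · obtain rfl := (Nat.prime_dvd_prime_iff_eq hr Nat.prime_two).1 (hr.dvd_of_dvd_pow h)
    exact h14 _ (orderOf_mul_eq hcom hy' hx' (by norm_num))
  · obtain rfl := (Nat.prime_dvd_prime_iff_eq hr Nat.prime_three).1 (hr.dvd_of_dvd_pow h)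
    exact h21 _ (orderOf_mul_eq hcom hy' hx' (by norm_num))

theorem core_of [IsSimpleGroup G] (hna : ¬ IsMulCommutative G) {a b : ℕ}
    (hG : Nat.card G = 7 * (2 ^ a * 3 ^ b)) (h14 : ∀ g : G, orderOf g ≠ 14)
    (h21 : ∀ g : G, orderOf g ≠ 21) (P : Sylow 7 G) : Core P where
  perfect := by
    rcases ((inferInstance : (commutator G).Normal)).eq_bot_or_eq_top with h | h
    · exfalso
      refine hna ⟨⟨fun x y => commutatorElement_eq_one_iff_mul_comm.1 ?_⟩⟩
      have := Subgroup.commutator_mem_commutator (Subgroup.mem_top x) (Subgroup.mem_top y)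
      rw [← commutator_def, h, Subgroup.mem_bot] at this
      exact this
    · exact h
  card := card_sylow_seven hG (fun h => by
    rcases (Fact.out : Nat.Prime 7).dvd_mul.1 h with h | h <;>
      exact absurd ((Fact.out : Nat.Prime 7).dvd_of_dvd_pow h) (by norm_num)) P
  self := self_centralizing hG h14 h21 P

variable (S : Core P)
include S

/-- The possible indices of `P` in its normalizer. -/
theorem eIdx_cases : eIdx P = 2 ∨ eIdx P = 3 ∨ eIdx P = 6 := by
  have h := S.eq_mul_add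
  have h2 := S.two_le_eIdx
  have h3 : eIdx P ∣ 6 := ⟨kIdx P, by omega⟩
  have h4 : eIdx P ≤ 6 := Nat.le_of_dvd (by norm_num) h3
  rcases h3 with ⟨k, hk⟩
  interval_cases (eIdx P) <;> omega

theorem sylow_count :
    Nat.card (Sylow 7 G) * (7 * eIdx P) = Nat.card G ∧ Nat.card (Sylow 7 G) % 7 = 1 := by
  refine ⟨?_, ?_⟩
  · rw [← S.card_normalizer, P.card_eq_index_normalizer]
    exact Subgroup.index_mul_card _
  · exact card_sylow_modEq_one 7 G

/-- The multiplicities of the two linear characters of a dihedral subgroup of order fourteen. -/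
theorem dihedral_bound (χ : IrrCharacter G) {f b : ℤ} (hf : (χ : G → ℂ) 1 = f)
    (hb : ∀ y ∈ (P : Subgroup G), y ≠ 1 → (χ : G → ℂ) y = b) {t : G}
    (htN : t ∈ Subgroup.normalizer ((P : Subgroup G) : Set G)) (ht : orderOf t = 2) {v : ℤ}
    (hv : (χ : G → ℂ) t = v) : 7 * v ≤ f + 6 * b ∧ -(7 * v) ≤ f + 6 * b := by
  classical
  set Q := (P : Subgroup G) with hQ
  have htQ : t ∉ Q := fun h => by
    have := Subgroup.orderOf_dvd_natCard Q h
    rw [ht, S.card] at this
    norm_num at this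
  set D := Q ⊔ Subgroup.zpowers t with hD
  have hQD : Q ≤ D := le_sup_left
  have htD : t ∈ D := (le_sup_right : Subgroup.zpowers t ≤ D) (Subgroup.mem_zpowers t)
  have ht2 : t * t = 1 := by rw [← sq, ← ht, pow_orderOf_eq_one]
  have hmem : ∀ g ∈ D, g ∈ Q ∨ t * g ∈ Q := by
    intro g hg
    have hle : Subgroup.zpowers t ≤ Subgroup.normalizer (Q : Set G) := Subgroup.zpowers_le.2 htN
    rw [hD, ← SetLike.mem_coe, Subgroup.coe_mul_of_right_le_normalizer_left Q _ hle] at hg
    obtain ⟨a, ha, c, hc, rfl⟩ := Set.mem_mul.1 hg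
    obtain ⟨j, rfl⟩ := Subgroup.mem_zpowers_iff.1 (SetLike.mem_coe.1 hc)
    rcases Int.even_or_odd j with ⟨i, rfl⟩ | ⟨i, rfl⟩
    · left
      rw [← two_mul, zpow_mul, zpow_two, ht2, one_zpow, mul_one]; exact ha
    · right
      rw [zpow_add, zpow_mul, zpow_two, ht2, one_zpow, one_mul, zpow_one]
      have := (Subgroup.mem_normalizer_iff.1 htN a).1 ha
      rwa [inv_eq_of_mul_eq_one_right ht2, mul_assoc] at this
  letI := Fintype.ofFinite ↥Q
  letI := Fintype.ofFinite ↥D
  let e : ↥Q ⊕ ↥Q → ↥D := Sum.elim (fun y => ⟨y, hQD y.2⟩)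
    (fun y => ⟨t * y, mul_mem htD (hQD y.2)⟩)
  have he : Function.Bijective e := by
    refine ⟨?_, ?_⟩
    · rintro (a | a) (c | c) h <;> simp only [e, Sum.elim_inl, Sum.elim_inr, Subtype.mk.injEq] at h
      · rw [Subtype.ext h]
      · exact absurd (by
          have : t = (a : G) * (c : G)⁻¹ := by rw [h]; group
          rw [this]; exact mul_mem a.2 (inv_mem c.2)) htQ
      · exact absurd (by
          have : t = (c : G) * (a : G)⁻¹ := by rw [← h]; group
          rw [this]; exact mul_mem c.2 (inv_mem a.2)) htQ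
      · rw [Subtype.ext (mul_left_cancel h)]
    · rintro ⟨g, hg⟩
      rcases hmem g hg with h | h
      · exact ⟨Sum.inl ⟨g, h⟩, rfl⟩
      · refine ⟨Sum.inr ⟨t * g, h⟩, Subtype.ext ?_⟩
        show t * (t * g) = g
        rw [← mul_assoc, ht2, one_mul]
  have hsQ : ∑ y : ↥Q, (χ : G → ℂ) y = (f : ℂ) + 6 * b := by
    rw [← Finset.add_sum_erase _ _ (Finset.mem_univ (1 : ↥Q)),
      Finset.sum_congr rfl (g := fun _ => (b : ℂ)) fun (y : ↥Q) hy =>
        hb (y : G) y.2 fun h => (Finset.mem_erase.1 hy).1 (Subtype.ext h),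
      Finset.sum_const, Finset.card_erase_of_mem (Finset.mem_univ _), Finset.card_univ,
      ← Nat.card_eq_fintype_card, S.card, nsmul_eq_mul]
    simp [hf]
  have hst : ∀ y : ↥Q, (χ : G → ℂ) (t * y) = v := by
    intro y
    obtain ⟨u, -, hu⟩ := S.exists_conj_coset htN htQ y.2
    rw [← hu, apply_conj, hv]
  have hidx : ∀ a c : ↥D, (((a * c : ↥D) : G) ∈ Q) ↔ ((a : G) ∈ Q ↔ (c : G) ∈ Q) := by
    intro a c
    have hcard : (Q.subgroupOf D).index = 2 := by
      have h1 := Subgroup.card_mul_index (Q.subgroupOf D)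
      rw [Nat.card_congr (Subgroup.subgroupOfEquivOfLe hQD).toEquiv,
        ← Nat.card_congr (Equiv.ofBijective e he), Nat.card_sum, S.card] at h1
      omega
    have := Subgroup.mul_mem_iff_of_index_two hcard (a := a) (b := c)
    simpa [Subgroup.mem_subgroupOf] using this
  let ψ : ↥D →* ℂˣ := MonoidHom.mk' (fun g => if (g : G) ∈ Q then 1 else -1) fun a c => by
    have h : (a : G) * (c : G) ∈ Q ↔ ((a : G) ∈ Q ↔ (c : G) ∈ Q) := hidx a c
    by_cases ha : (a : G) ∈ Q <;> by_cases hc : (c : G) ∈ Q <;> simp [h, ha, hc]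
  obtain ⟨m, hm⟩ := sum_subgroup χ D
  obtain ⟨m', hm'⟩ := lin_mult χ D ψ
  rw [← (Equiv.ofBijective e he).sum_comp, Fintype.sum_sum_type] at hm hm'
  simp only [Equiv.ofBijective_apply, e, Sum.elim_inl, Sum.elim_inr] at hm hm'
  rw [hsQ, Finset.sum_congr rfl fun y _ => hst y, Finset.sum_const, Finset.card_univ,
    ← Nat.card_eq_fintype_card, S.card, nsmul_eq_mul] at hm
  have hout : ∀ y : ↥Q, t * (y : G) ∉ Q := fun y h => htQ (by simpa using mul_mem h (inv_mem y.2))
  simp only [ψ, MonoidHom.mk'_apply, SetLike.coe_mem, if_true, Units.val_one, map_one, mul_one,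
    hout, if_false, Units.val_neg, map_neg, mul_neg, Finset.sum_neg_distrib] at hm'
  rw [hsQ, Finset.sum_congr rfl fun y _ => hst y, Finset.sum_const, Finset.card_univ,
    ← Nat.card_eq_fintype_card, S.card, nsmul_eq_mul] at hm'
  have e1 : f + 6 * b + 7 * v = (Nat.card ↥D : ℤ) * m := by exact_mod_cast hm
  have e2 : f + 6 * b + -(7 * v) = (Nat.card ↥D : ℤ) * m' := by exact_mod_cast hm'
  have p1 : (0 : ℤ) ≤ (Nat.card ↥D : ℤ) * m := by positivity
  have p2 : (0 : ℤ) ≤ (Nat.card ↥D : ℤ) * m' := by positivity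
  omega

end CfsgLib.G2TwoRecog
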