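import Cfsg.Agent.G2TwoRecog.Frame

/-!
# A simple group of order 6048 without elements of order 9, 14, 21 is unique
-/

set_option autoImplicit false
set_option linter.unusedSectionVars false
set_option linter.style.haveILetI false

namespace CfsgLib.G2TwoRecog

open Cfsg
open Model (hmul hinv sigK act1 actS actT tabA tabB get eqn)

universe u

/-- The model permutation group on 28 points. -/
def model : Subgroup (Equiv.Perm (Fin 28)) :=
  Subgroup.closure {σ | (∃ u < 27, ∀ x : Fin 28, (σ x : ℕ) = act1 u x) ∨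
    (∀ x : Fin 28, (σ x : ℕ) = actS 1 x) ∨ ∀ x : Fin 28, (σ x : ℕ) = actT tabA x}

variable {G : Type u} [Group G] [Fintype G]

namespace Frame

variable (S : Frame G)

/-- The points. -/
def pt (x : ℕ) : Sylow 3 G := if x = 27 then S.U else S.φ x • S.P

theorem pt_27 : S.pt 27 = S.U := by simp [pt]

theorem pt_of_lt {x : ℕ} (hx : x < 27) : S.pt x = S.φ x • S.P := if_neg (by omega)

theorem pt_zero : S.pt 0 = S.P := by rw [S.pt_of_lt (by norm_num), S.φ_zero, one_smul]

theorem smul_U {g : G} (hg : g ∈ (S.U : Subgroup G)) : g • S.U = S.U :=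
  Sylow.smul_eq_iff_mem_normalizer.2 (Subgroup.le_normalizer hg)

theorem pt_ne_U {x : ℕ} (hx : x < 27) : S.pt x ≠ S.U := by
  rw [S.pt_of_lt hx]
  intro h
  exact S.ne (smul_left_cancel (S.φ x) (h.trans (S.smul_U (S.φ_mem x hx)).symm))

theorem φ_inj (H : Hyp G) [Fact (Nat.Prime 3)] {u v : ℕ} (hu : u < 27) (hv : v < 27)
    (e : S.φ u = S.φ v) : u = v := by
  let f : Fin 27 → ↥(S.U : Subgroup G) := fun i => ⟨S.φ i, S.φ_mem i i.2⟩
  have hf : Function.Bijective f := (Nat.bijective_iff_surjective_and_card f).2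
    ⟨fun g => by
      obtain ⟨w, hw, hg⟩ := S.φ_surj g g.2
      exact ⟨⟨w, hw⟩, Subtype.ext hg⟩,
    by rw [Nat.card_eq_fintype_card, Fintype.card_fin, H.card_sylow_three S.U]⟩
  exact congrArg Fin.val (hf.1 (a₁ := ⟨u, hu⟩) (a₂ := ⟨v, hv⟩) (Subtype.ext e))

theorem pt_inj (H : Hyp G) [Fact (Nat.Prime 3)] {x y : ℕ} (hx : x < 28) (hy : y < 28)
    (e : S.pt x = S.pt y) : x = y := by
  rcases Nat.lt_or_ge x 27 with hx' | hx' <;> rcases Nat.lt_or_ge y 27 with hy' | hy'
  · rw [S.pt_of_lt hx', S.pt_of_lt hy'] at e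
    refine S.φ_inj H hx' hy' ?_
    have h1 := S.regular _ (mul_mem (inv_mem (S.φ_mem y hy')) (S.φ_mem x hx'))
      (by rw [mul_smul, e, inv_smul_smul])
    exact (inv_mul_eq_one.1 h1).symm
  · obtain rfl : y = 27 := by omega
    exact absurd (e.trans S.pt_27) (S.pt_ne_U hx')
  · obtain rfl : x = 27 := by omega
    exact absurd (e.symm.trans S.pt_27) (S.pt_ne_U hy')
  · omega

theorem pt_surj (Q : Sylow 3 G) : ∃ x < 28, S.pt x = Q := by
  by_cases hQ : Q = S.U
  · exact ⟨27, by norm_num, hQ ▸ S.pt_27⟩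
  · obtain ⟨g, hg, rfl⟩ := S.transitive Q hQ
    obtain ⟨u, hu, rfl⟩ := S.φ_surj g hg
    exact ⟨u, by omega, S.pt_of_lt hu⟩

theorem smul_translate {u x : ℕ} (hu : u < 27) (hx : x < 28) :
    act1 u x < 28 ∧ S.φ u • S.pt x = S.pt (act1 u x) := by
  unfold Model.act1
  split_ifs with h
  · exact ⟨by norm_num, by rw [h, S.pt_27, S.smul_U (S.φ_mem u hu)]⟩
  · have hx' : x < 27 := by omega
    have hlt := Model.hmul_lt u hu x hx'
    exact ⟨by omega, by rw [S.pt_of_lt hx', S.pt_of_lt hlt, S.φ_mul u hu x hx', mul_smul]⟩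

theorem pow_U (k : ℕ) : S.d ^ k • S.U = S.U := by
  induction k with
  | zero => simp
  | succ k ih => rw [pow_succ, mul_smul, S.d_U, ih]

theorem pow_P (k : ℕ) : S.d ^ k • S.P = S.P := by
  induction k with
  | zero => simp
  | succ k ih => rw [pow_succ, mul_smul, S.d_P, ih]

theorem smul_pow {k x : ℕ} (hk : k < 8) (hx : x < 28) :
    actS k x < 28 ∧ S.d ^ k • S.pt x = S.pt (actS k x) := by
  unfold Model.actS
  split_ifs with h
  · exact ⟨by norm_num, by rw [h, S.pt_27, S.pow_U]⟩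
  · have hx' : x < 27 := by omega
    obtain ⟨hlt, -⟩ := Model.sigK_spec k hk x hx'
    refine ⟨by omega, ?_⟩
    rw [S.pt_of_lt hx', S.pt_of_lt hlt, ← S.conj k hk x hx', mul_smul, mul_smul,
      inv_smul_eq_iff.2 (S.pow_P k).symm]

theorem pow_mod (n : ℕ) : S.d ^ (n % 8) = S.d ^ n := by
  have h := pow_mod_orderOf S.d n
  rwa [S.d_order] at h

/-- A swapping element with the first table. -/
theorem exists_swap (H : Hyp G) [Fact (Nat.Prime 3)] :
    ∃ t : G, t • S.U = S.P ∧ t • S.P = S.U ∧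
      ∀ x < 28, actT tabA x < 28 ∧ t • S.pt x = S.pt (actT tabA x) := by
  classical
  -- an involution swapping the two points
  haveI : Fact (Nat.Prime 2) := ⟨Nat.prime_two⟩
  obtain ⟨t₀, ht₀⟩ := exists_prime_orderOf_dvd_card' (G := G) 2 (by rw [H.card]; norm_num)
  obtain ⟨Q, hQ⟩ : ∃ Q : Sylow 3 G, t₀ • Q ≠ Q := by
    by_contra hcon
    simp only [not_exists, ne_eq, not_not] at hcon
    rw [H.eq_one_of_fixes hcon, orderOf_one] at ht₀
    omega
  obtain ⟨c, hc⟩ := MulAction.exists_smul_eq G Q S.U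
  have hne' : c • t₀ • Q ≠ S.U := fun h => hQ (smul_left_cancel c (h.trans hc.symm))
  obtain ⟨v, hv, hvP⟩ := S.transitive _ hne'
  set g := v⁻¹ * c with hg
  have hgQ : g • Q = S.U := by rw [hg, mul_smul, hc, S.smul_U (inv_mem hv)]
  have hgtQ : g • t₀ • Q = S.P := by rw [hg, mul_smul, ← hvP, inv_smul_smul]
  obtain ⟨t, htt, htU, htP⟩ : ∃ t : G, t * t = 1 ∧ t • S.U = S.P ∧ t • S.P = S.U := by
    have h2 : t₀ * t₀ = 1 := by rw [← sq, ← ht₀, pow_orderOf_eq_one]
    have htt : g * t₀ * g⁻¹ * (g * t₀ * g⁻¹) = 1 := by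
      rw [show g * t₀ * g⁻¹ * (g * t₀ * g⁻¹) = g * (t₀ * t₀) * g⁻¹ by group, h2]
      group
    have htU : (g * t₀ * g⁻¹) • S.U = S.P := by
      rw [mul_smul, mul_smul, ← hgQ, inv_smul_smul, hgtQ]
    exact ⟨_, htt, htU, by rw [← htU, ← mul_smul, htt, one_smul]⟩
  -- the exponent
  obtain ⟨al, hal8, hal⟩ := S.stab (t * S.d * t)
    (by rw [mul_smul, mul_smul, htU, S.d_P, htP]) (by rw [mul_smul, mul_smul, htP, S.d_U, htU])
  have ht' : t⁻¹ = t := inv_eq_of_mul_eq_one_right htt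
  have hal2 : al = 1 ∨ al = 3 ∨ al = 5 ∨ al = 7 := by
    have h8 : orderOf (t * S.d * t⁻¹) = 8 := by
      rw [show t * S.d * t⁻¹ = MulAut.conj t S.d from rfl, MulEquiv.orderOf_eq, S.d_order]
    rw [ht', hal, orderOf_pow, S.d_order] at h8
    interval_cases al <;> simp at h8 ⊢
  have hconj : ∀ k : ℕ, t * S.d ^ k * t = S.d ^ (al * k) := by
    intro k
    have h := conj_pow (a := t) (b := S.d) (i := k)
    rw [ht', hal, ← pow_mul] at h
    exact h.symm
  -- the table of the involution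
  choose code hcode hcodept using fun i : ℕ => S.pt_surj (t • S.pt i)
  have hF : ∀ i < 27, i ≠ 0 → code i < 27 ∧ code i ≠ 0 := by
    intro i hi hi0
    have h := hcodept i
    refine ⟨?_, fun e => ?_⟩
    · by_contra hge
      have e27 : code i = 27 := by have := hcode i; omega
      rw [e27, S.pt_27, eq_comm, smul_eq_iff_eq_inv_smul, ht', htU, ← S.pt_zero] at h
      exact hi0 (S.pt_inj H (by omega) (by norm_num) h)
    · rw [e, S.pt_zero, eq_comm, smul_eq_iff_eq_inv_smul, ht', htP, ← S.pt_27] at h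
      have := S.pt_inj H (by omega) (by norm_num) h
      omega
  have hinvol : ∀ i < 27, i ≠ 0 → code (code i) = i := fun i hi _ =>
    S.pt_inj H (hcode _) (by omega) (by rw [hcodept, hcodept, ← mul_smul, htt, one_smul])
  have hr : ∀ i < 27, i ≠ 0 → code i < 27 ∧ code i ≠ 0 ∧ code (code i) = i := fun i hi hi0 =>
    ⟨(hF i hi hi0).1, (hF i hi hi0).2, hinvol i hi hi0⟩
  have heq : ∀ k < 8, ∀ i < 27, i ≠ 0 → code (sigK k i) = sigK (al * k % 8) (code i) := by
    intro k hk i hi hi0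
    obtain ⟨hlt, -⟩ := Model.sigK_spec k hk i hi
    obtain ⟨hci, hci0, -⟩ := hr i hi hi0
    obtain ⟨hlt', -⟩ := Model.sigK_spec (al * k % 8) (Nat.mod_lt _ (by norm_num)) _ hci
    refine S.pt_inj H (hcode _) (by omega) ?_
    have e1 := (S.smul_pow (k := k) hk (x := i) (by omega)).2
    rw [Model.actS, if_neg (by omega)] at e1
    have e2 := (S.smul_pow (k := al * k % 8) (Nat.mod_lt _ (by norm_num)) (x := code i) (by omega)).2
    rw [Model.actS, if_neg (by omega)] at e2
    rw [hcodept, ← e1, ← e2, hcodept i, S.pow_mod, ← hconj, mul_smul, mul_smul,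
      ← mul_smul t t, htt, one_smul]
  have hact : ∀ f, (∀ i < 27, i ≠ 0 → get f i = code i) → ∀ x < 28,
      actT f x < 28 ∧ t • S.pt x = S.pt (actT f x) := by
    intro f hf x hx
    unfold Model.actT
    split_ifs with h0 h27
    · exact ⟨by norm_num, by rw [h0, S.pt_zero, S.pt_27, htP]⟩
    · exact ⟨by norm_num, by rw [h27, S.pt_zero, S.pt_27, htU]⟩
    · rw [hf x (by omega) h0]
      exact ⟨hcode x, (hcodept x).symm⟩
  have heqn : ∀ f, (∀ i < 27, i ≠ 0 → get f i = code i) → ∀ u < 27, u ≠ 0 → eqn f u = true := by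
    intro f hf u hu hu0
    obtain ⟨hp, hp0, -⟩ := hr u hu hu0
    obtain ⟨hq, hpq, hqp⟩ := Model.hinv_spec _ hp
    have hq0 : hinv (code u) ≠ 0 := fun e => hp0 (by
      rw [e, Model.hmul_zero _ hp] at hpq; exact hpq)
    obtain ⟨hv, -, -⟩ := hr _ hq hq0
    set p := code u
    set v := code (hinv p)
    have hpinv : S.φ (hinv p) = (S.φ p)⁻¹ :=
      eq_inv_of_mul_eq_one_right (by rw [← S.φ_mul p hp _ hq, hpq, S.φ_zero])
    set g := (S.φ p * t)⁻¹ * (t * S.φ u * t) with hgdef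
    have hlhs : (t * S.φ u * t) • S.U = S.pt p := by
      rw [mul_smul, mul_smul, htU, ← S.pt_of_lt hu, hcodept]
    have hgU : g • S.U = S.U := by
      rw [hgdef, mul_smul, hlhs, inv_smul_eq_iff, mul_smul, htU, S.pt_of_lt hp]
    have hgP : g • S.P = S.pt v := by
      have e : (t * S.φ u * t) • S.P = S.P := by
        rw [mul_smul, mul_smul, htP, S.smul_U (S.φ_mem u hu), htU]
      rw [hgdef, mul_smul, e, mul_inv_rev, mul_smul, ht', ← hpinv, ← S.pt_of_lt hq, hcodept]
    obtain ⟨k, hk, hgk⟩ := S.stab ((S.φ v)⁻¹ * g)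
      (by rw [mul_smul, hgU, S.smul_U (inv_mem (S.φ_mem v hv))])
      (by rw [mul_smul, hgP, S.pt_of_lt hv, inv_smul_smul])
    have hgeq : t * S.φ u * t = S.φ p * t * S.φ v * S.d ^ k := by
      rw [← hgk, hgdef]; group
    have hfu : get f u = p := hf u hu hu0
    simp only [Model.eqn, hfu, hf _ hq hq0, List.any_eq_true, List.all_eq_true, List.mem_range,
      beq_iff_eq]
    refine ⟨k, hk, fun x hx => ?_⟩
    obtain ⟨a1, b1⟩ := hact f hf x hx
    obtain ⟨a2, b2⟩ := S.smul_translate hu a1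
    obtain ⟨a3, b3⟩ := hact f hf _ a2
    obtain ⟨c1, d1⟩ := S.smul_pow hk hx
    obtain ⟨c2, d2⟩ := S.smul_translate hv c1
    obtain ⟨c3, d3⟩ := hact f hf _ c2
    obtain ⟨c4, d4⟩ := S.smul_translate hp c3
    refine S.pt_inj H a3 c4 ?_
    rw [← b3, ← b2, ← b1, ← d4, ← d3, ← d2, ← d1]
    simp only [← mul_smul, ← mul_assoc, hgeq]
  rcases Model.classify hal2 hr heq heqn with h | h
  · exact ⟨t, htU, htP, hact tabA fun i hi hi0 => (h i hi hi0).symm⟩
  · refine ⟨t * S.d ^ 4, by rw [mul_smul, S.pow_U, htU], by rw [mul_smul, S.pow_P, htP],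
      fun x hx => ?_⟩
    obtain ⟨a1, b1⟩ := S.smul_pow (k := 4) (by norm_num) hx
    obtain ⟨a2, b2⟩ := hact tabB (fun i hi hi0 => (h i hi hi0).symm) _ a1
    have e : actT tabB (actS 4 x) = actT tabA x := by
      have key : ∀ y < 28, actT tabB (actS 4 y) = actT tabA y := by decide +kernel
      exact key x hx
    exact ⟨e ▸ a2, by rw [mul_smul, b1, b2, e]⟩

end Frame

namespace Hyp

/-- Such a group is isomorphic to the model. -/
theorem equiv_model {G : Type u} [Group G] [Finite G] (H : Hyp G) : Nonempty (G ≃* ↥model) := by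
  classical
  letI := Fintype.ofFinite G
  haveI : Fact (Nat.Prime 3) := ⟨Nat.prime_three⟩
  obtain ⟨S⟩ := H.exists_frame
  obtain ⟨t, htU, htP, htA⟩ := S.exists_swap H
  let e : Fin 28 ≃ Sylow 3 G := Equiv.ofBijective (fun i => S.pt i)
    ⟨fun i j h => Fin.ext (S.pt_inj H i.2 j.2 h), fun Q => by
      obtain ⟨x, hx, hQ⟩ := S.pt_surj Q
      exact ⟨⟨x, hx⟩, hQ⟩⟩
  let ρ : G →* Equiv.Perm (Fin 28) :=
    (Equiv.permCongrHom e.symm).toMonoidHom.comp (MulAction.toPermHom G (Sylow 3 G))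
  have hval : ∀ (g : G) (x : Fin 28) (y : ℕ), y < 28 → g • S.pt x = S.pt y →
      (ρ g x : ℕ) = y := by
    intro g x y hy h
    have h1 : ρ g x = ⟨y, hy⟩ := by
      show e.symm (g • e x) = ⟨y, hy⟩
      rw [Equiv.symm_apply_eq]
      exact h
    rw [h1]
  have hρinj : Function.Injective ρ := (injective_iff_map_eq_one ρ).2 fun g hg => by
    refine H.eq_one_of_fixes fun Q => ?_
    have h1 := Equiv.congr_fun hg (e.symm Q)
    simp only [ρ, MonoidHom.coe_comp, Function.comp_apply, MulEquiv.coe_toMonoidHom,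
      Equiv.Perm.coe_one, id_eq] at h1
    change e.symm (g • e (e.symm Q)) = e.symm Q at h1
    rwa [Equiv.apply_symm_apply, e.symm.injective.eq_iff] at h1
  set gens : Set G := {g | ∃ u < 27, g = S.φ u} ∪ {S.d, t} with hgens
  have hgen : Subgroup.closure gens = ⊤ := by
    rw [Subgroup.eq_top_iff']
    intro g
    have hd : S.d ∈ Subgroup.closure gens := Subgroup.subset_closure (Or.inr (Or.inl rfl))
    have ht : t ∈ Subgroup.closure gens := Subgroup.subset_closure (Or.inr (Or.inr rfl))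
    have hφ : ∀ u < 27, S.φ u ∈ Subgroup.closure gens := fun u hu =>
      Subgroup.subset_closure (Or.inl ⟨u, hu, rfl⟩)
    have hstab : ∀ h : G, h • S.U = S.U → h ∈ Subgroup.closure gens := by
      intro h hh
      obtain ⟨x, hx, hxP⟩ := S.pt_surj (h • S.P)
      have hx' : x < 27 := by
        by_contra hc
        rw [show x = 27 by omega, S.pt_27] at hxP
        exact S.ne (smul_left_cancel h (hxP.symm.trans hh.symm))
      rw [S.pt_of_lt hx'] at hxP
      obtain ⟨k, -, hk⟩ := S.stab ((S.φ x)⁻¹ * h)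
        (by rw [mul_smul, hh, S.smul_U (inv_mem (S.φ_mem x hx'))])
        (by rw [mul_smul, ← hxP, inv_smul_smul])
      rw [inv_mul_eq_iff_eq_mul.1 hk]
      exact mul_mem (hφ x hx') (pow_mem hd k)
    obtain ⟨x, hx, hxU⟩ := S.pt_surj (g • S.U)
    by_cases h27 : x = 27
    · exact hstab g (by rw [← hxU, h27, S.pt_27])
    · have hx' : x < 27 := by omega
      have h1 := hstab ((S.φ x * t)⁻¹ * g) (by
        rw [mul_smul, ← hxU, inv_smul_eq_iff, mul_smul, htU, S.pt_of_lt hx'])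
      have h2 := mul_mem (mul_mem (hφ x hx') ht) h1
      rwa [mul_inv_cancel_left] at h2
  have hrange : ρ.range = model := by
    rw [MonoidHom.range_eq_map, ← hgen, MonoidHom.map_closure, model]
    congr 1
    ext σ
    constructor
    · rintro ⟨g, hg | hg, rfl⟩
      · obtain ⟨u, hu, rfl⟩ := hg
        exact Or.inl ⟨u, hu, fun x => hval _ x _ (S.smul_translate hu x.2).1
          (S.smul_translate hu x.2).2⟩
      · rcases hg with rfl | rfl
        · refine Or.inr (Or.inl fun x => hval _ x _ (S.smul_pow (by norm_num) x.2).1 ?_)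
          rw [← (S.smul_pow (k := 1) (by norm_num) x.2).2, pow_one]
        · exact Or.inr (Or.inr fun x => hval _ x _ (htA x x.2).1 (htA x x.2).2)
    · rintro (⟨u, hu, h⟩ | h | h)
      · exact ⟨S.φ u, Or.inl ⟨u, hu, rfl⟩, Equiv.ext fun x => Fin.ext ((hval _ x _
          (S.smul_translate hu x.2).1 (S.smul_translate hu x.2).2).trans (h x).symm)⟩
      · refine ⟨S.d, Or.inr (Or.inl rfl), Equiv.ext fun x => Fin.ext ((hval _ x _
          (S.smul_pow (k := 1) (by norm_num) x.2).1 ?_).trans (h x).symm)⟩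
        rw [← (S.smul_pow (k := 1) (by norm_num) x.2).2, pow_one]
      · exact ⟨t, Or.inr (Or.inr rfl), Equiv.ext fun x => Fin.ext ((hval _ x _
          (htA x x.2).1 (htA x x.2).2).trans (h x).symm)⟩
  exact ⟨(MonoidHom.ofInjective hρinj).trans (MulEquiv.subgroupCongr hrange)⟩

end Hyp

end CfsgLib.G2TwoRecog
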