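import Cfsg.Agent.G2TwoRecog.Reduce
import Cfsg.Agent.G2TwoRecog.Unique
import Cfsg.Agent.G2Octonion.Spectrum
import Cfsg.Agent.G2Octonion.Order
import Cfsg.Agent.ChevSimple.Two.SUThree
import Cfsg.Agent.Forms4.UnitaryCenter
import Cfsg.Agent.Forms4.UnitarySimple
import Cfsg.Agent.UThree.Orders
import Cfsg.Agent.AutPSU.AutOrder
import Cfsg.Agent.AutPSL.FieldAut
import Cfsg.Agent.Linear.SmallFields
import Cfsg.Prelude.Def_LieChev

/-!
# Recognition of `G₂(2)` by order and spectrum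
-/

set_option autoImplicit false
set_option linter.unusedSectionVars false
set_option linter.style.haveILetI false

namespace CfsgLib.G2TwoRecog

open Cfsg

universe u

/-- The field with nine elements of the reference unitary group. -/
local notation "K9" => CfsgLib.Linear.GF9

theorem exists_reference : ∃ (K : Type) (_ : Field K) (_ : Fintype K), Fintype.card K = 9 :=
  ⟨K9, inferInstance, inferInstance, Linear.card_gf9⟩

section Reference

variable {K : Type} [Field K] [Fintype K] (hK : Fintype.card K = 9)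
include hK

theorem psu_center : Subgroup.center (Cfsg.SU 3 K 3) = ⊥ :=
  Subgroup.eq_bot_of_card_eq _ (by
    rw [Forms4.card_center_SU (show Fintype.card K = 3 ^ 2 by rw [hK]; rfl) (by norm_num)]; rfl)

theorem card_psu : Nat.card (Cfsg.PSU 3 K 3) = 6048 := by
  have h := (Subgroup.center (Cfsg.SU 3 K 3)).card_mul_index
  rw [psu_center hK, Subgroup.card_bot, one_mul,
    ChevSimple.Two.SUThree.card_SU_three (show Fintype.card K = 3 ^ 2 by rw [hK]; rfl)] at h
  rw [show Nat.card (Cfsg.PSU 3 K 3) = (Subgroup.center (Cfsg.SU 3 K 3)).index from rfl,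
    psu_center hK]
  exact h

theorem hyp_psu : Hyp (Cfsg.PSU 3 K 3) := by
  have hF : Fintype.card K = 3 ^ 2 := by rw [hK]; rfl
  have hs : IsSimpleGroup (Cfsg.PSU 3 K 3) :=
    Forms4.isSimpleGroup_PSU hF 3 le_rfl (by norm_num)
  haveI : Fact (Nat.Prime 3) := ⟨Nat.prime_three⟩
  haveI : CharP K 3 := charP_of_card_eq_prime_pow hF
  obtain ⟨ι, hι⟩ := UThree.exists_iota (F := K) hK
  have hr := UThree.range_orderOf_PSU (F := K) hι hK
  have hord : ∀ g : Cfsg.PSU 3 K 3, orderOf g ∈ [1, 2, 3, 4, 6, 7, 8, 12] := fun g => by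
    have h : orderOf g ∈ Set.range (orderOf : Cfsg.PSU 3 K 3 → ℕ) := ⟨g, rfl⟩
    rw [hr] at h; exact h
  have hno : ∀ n : ℕ, n ∉ [1, 2, 3, 4, 6, 7, 8, 12] → ∀ g : Cfsg.PSU 3 K 3, orderOf g ≠ n :=
    fun n hn g e => hn (e ▸ hord g)
  refine ⟨hs, ?_, card_psu hK, hno 9 (by decide), hno 14 (by decide), hno 21 (by decide)⟩
  intro hc
  letI : CommGroup (Cfsg.PSU 3 K 3) := { (inferInstance : Group (Cfsg.PSU 3 K 3)) with
    mul_comm := hc.is_comm.comm }
  haveI := hs
  have hp : (Nat.card (Cfsg.PSU 3 K 3)).Prime := IsSimpleGroup.prime_card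
  rw [card_psu hK] at hp
  exact absurd hp (by norm_num)

theorem card_aut : Nat.card (MulAut (Cfsg.PSU 3 K 3)) = 12096 := by
  have hF : Fintype.card K = 3 ^ 2 := by rw [hK]; rfl
  haveI : Fact (Nat.Prime 3) := ⟨Nat.prime_three⟩
  rw [AutPSU.card_aut_psu hF le_rfl (by norm_num), AutPSL.card_ringEquiv hF (by norm_num),
    card_psu hK]
  rfl

end Reference

variable {G : Type u} [Group G] [Finite G]

/-- Such a group is the automorphism group of `PSU₃(3)`. -/
theorem Pre.equiv_aut {K : Type} [Field K] [Fintype K] (hK : Fintype.card K = 9) (H : Pre G) :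
    Nonempty (G ≃* MulAut (Cfsg.PSU 3 K 3)) := by
  obtain ⟨N, hN, hHyp, hC⟩ := H.exists_simple
  haveI := hN
  haveI : Finite (Cfsg.PSU 3 K 3) := Nat.finite_of_card_ne_zero (by rw [card_psu hK]; norm_num)
  obtain ⟨e₁⟩ := hHyp.equiv_model
  obtain ⟨e₂⟩ := (hyp_psu hK).equiv_model
  let e : ↥N ≃* Cfsg.PSU 3 K 3 := e₁.trans e₂.symm
  let f : G →* MulAut (Cfsg.PSU 3 K 3) := (MulAut.congr e).toMonoidHom.comp MulAut.conjNormal
  have hf : Function.Injective f := (injective_iff_map_eq_one f).2 fun g hg => by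
    have h1 : MulAut.conjNormal (H := N) g = 1 := (MulAut.congr e).injective (by
      rw [map_one]; exact hg)
    have hmem : g ∈ Subgroup.centralizer (N : Set G) := by
      rw [Subgroup.mem_centralizer_iff]
      intro n hn
      have h2 := congrArg Subtype.val (DFunLike.congr_fun h1 ⟨n, hn⟩)
      rw [MulAut.conjNormal_apply, MulAut.one_apply] at h2
      exact (mul_inv_eq_iff_eq_mul.1 h2).symm
    rwa [hC, Subgroup.mem_bot] at hmem
  haveI : Finite (MulAut (Cfsg.PSU 3 K 3)) :=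
    Nat.finite_of_card_ne_zero (by rw [card_aut hK]; norm_num)
  exact ⟨MulEquiv.ofBijective f ((Nat.bijective_iff_injective_and_card f).2
    ⟨hf, by rw [H.card, card_aut hK]⟩)⟩

theorem pre_g2_two {F : Type u} [Field F] [Fintype F] (hF : Fintype.card F = 2) :
    Pre ↥(Cfsg.Lie.chevG2.group F) := by
  have hno : ∀ n : ℕ, n ∈ [9, 14, 21] → ∀ g : ↥(Cfsg.Lie.chevG2.group F), orderOf g ≠ n := by
    intro n hn g hg
    have h := G2Octonion.goodExp_of_mem (F := F) (p := 2) (a := 1) Nat.prime_two (by simpa using hF)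
      ⟨g, hg⟩
    revert h
    unfold G2Octonion.GoodExp
    fin_cases hn <;> decide
  refine ⟨?_, ?_, hno 9 (by simp), hno 14 (by simp), hno 21 (by simp)⟩
  · rw [G2Octonion.card_chev, hF]; norm_num
  · obtain ⟨g, hg⟩ := (G2Octonion.mem_orders (F := F) (p := 2) (a := 1) Nat.prime_two le_rfl
      (by simpa using hF)).1
    exact ⟨g, hg⟩

/-- Recognition of `G₂(2)`. -/
theorem recognition {F : Type*} [Field F] [Fintype F] (hF : Fintype.card F = 2)
    (hs : Set.range (orderOf : G → ℕ) = Set.range (orderOf : ↥(Cfsg.Lie.chevG2.group F) → ℕ))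
    (hc : Nat.card G = Nat.card ↥(Cfsg.Lie.chevG2.group F)) :
    Nonempty (G ≃* ↥(Cfsg.Lie.chevG2.group F)) := by
  obtain ⟨K, _, _, hK⟩ := exists_reference
  have HM := pre_g2_two hF
  haveI : Finite ↥(Cfsg.Lie.chevG2.group F) :=
    Nat.finite_of_card_ne_zero (by rw [HM.card]; norm_num)
  have hback : ∀ n, (∀ g : ↥(Cfsg.Lie.chevG2.group F), orderOf g ≠ n) → ∀ g : G, orderOf g ≠ n := by
    intro n hn g hg
    obtain ⟨x, hx⟩ : n ∈ Set.range (orderOf : ↥(Cfsg.Lie.chevG2.group F) → ℕ) := hs ▸ ⟨g, hg⟩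
    exact hn x hx
  have HG : Pre G := by
    refine ⟨hc.trans HM.card, ?_, hback 9 HM.no9, hback 14 HM.no14, hback 21 HM.no21⟩
    obtain ⟨x, hx⟩ := HM.seven
    have : (7 : ℕ) ∈ Set.range (orderOf : G → ℕ) := hs ▸ ⟨x, hx⟩
    exact this
  obtain ⟨e⟩ := HG.equiv_aut hK
  obtain ⟨f⟩ := HM.equiv_aut hK
  exact ⟨e.trans f.symm⟩

end CfsgLib.G2TwoRecog
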