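import Cfsg.Agent.G2TwoRecog.Twelve
import Cfsg.Agent.G2TwoRecog.Chars
import Cfsg.Agent.LocalStructure.Cores
import Cfsg.Agent.Solvable.Basic
import Cfsg.Agent.FgsSix.SolvableLinear.Cases
import Cfsg.Agent.Characters.Burnside
import Cfsg.Agent.S0983

/-!
# A group of order 12096 with the spectrum of `G₂(2)` has a simple subgroup of index two
-/

set_option autoImplicit false
set_option linter.unusedSectionVars false
set_option linter.style.haveILetI false

namespace CfsgLib.G2TwoRecog

open Cfsg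

universe u

/-- The hypotheses on the whole group. -/
structure Pre (G : Type u) [Group G] : Prop where
  card : Nat.card G = 12096
  seven : ∃ g : G, orderOf g = 7
  no9 : ∀ g : G, orderOf g ≠ 9
  no14 : ∀ g : G, orderOf g ≠ 14
  no21 : ∀ g : G, orderOf g ≠ 21

variable {G : Type u} [Group G] [Finite G]

/-- Missing orders stay missing in quotients. -/
theorem no_order_quotient (R : Subgroup G) [R.Normal] {n : ℕ} (h : ∀ g : G, orderOf g ≠ n) :
    ∀ q : G ⧸ R, orderOf q ≠ n := by
  intro q hq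
  obtain ⟨g, rfl⟩ := QuotientGroup.mk'_surjective R q
  exact h _ (orderOf_pow_orderOf_div (orderOf_pos g).ne'
    (hq ▸ orderOf_map_dvd (QuotientGroup.mk' R) g))

/-- The order of a normal `p`-subgroup without commuting elements of order seven. -/
theorem card_normal_pgroup {p : ℕ} [Fact p.Prime] (hp7 : p ≠ 7) (A : Subgroup G) [A.Normal]
    (hA : IsPGroup p A) {y : G} (hy : orderOf y = 7) (hno : ∀ g : G, orderOf g ≠ p * 7) :
    Nat.card A % 7 = 1 := by
  haveI : Fact (Nat.Prime 7) := ⟨by norm_num⟩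
  let f : ↥(Subgroup.zpowers y) →* MulAut A :=
    MulAut.conjNormal.comp (Subgroup.zpowers y).subtype
  letI : MulAction ↥(Subgroup.zpowers y) A := MulAction.compHom A f
  have hZ : IsPGroup 7 ↥(Subgroup.zpowers y) :=
    IsPGroup.of_card (n := 1) (by rw [Nat.card_zpowers, hy, pow_one])
  have hfix : MulAction.fixedPoints ↥(Subgroup.zpowers y) A = {1} := by
    refine Set.eq_singleton_iff_unique_mem.2
      ⟨fun g => (show f g (1 : A) = 1 from map_one _), fun a ha => ?_⟩
    by_contra hne
    have h1 : f ⟨y, Subgroup.mem_zpowers y⟩ a = a := ha ⟨y, Subgroup.mem_zpowers y⟩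
    have hc : y * (a : G) * y⁻¹ = (a : G) := by
      have h2 := congrArg Subtype.val h1
      simpa [f, MulAut.conjNormal_apply] using h2
    have hcomm : Commute (a : G) y := (mul_inv_eq_iff_eq_mul.1 hc).symm
    obtain ⟨k, hk⟩ := IsPGroup.iff_orderOf.1 hA a
    have hk0 : k ≠ 0 := fun h => hne (orderOf_eq_one_iff.1 (by rw [hk, h, pow_zero]))
    have hb : orderOf ((a : G) ^ (p ^ (k - 1))) = p := by
      rw [orderOf_pow' _ (pow_ne_zero _ (Fact.out : p.Prime).ne_zero), Subgroup.orderOf_coe, hk,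
        Nat.gcd_eq_right (pow_dvd_pow p (by omega)),
        Nat.pow_div (by omega) (Fact.out : p.Prime).pos,
        show k - (k - 1) = 1 by omega, pow_one]
    letI := Fintype.ofFinite G
    exact hno _ (orderOf_mul_eq (hcomm.pow_left _) hb hy
      ((Nat.coprime_primes (Fact.out : p.Prime) (by norm_num)).2 hp7))
  have h := hZ.card_modEq_card_fixedPoints A
  rw [hfix, Nat.card_coe_set_eq, Set.ncard_singleton] at h
  exact h

/-- A nontrivial solvable group has a nontrivial normal `p`-subgroup. -/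
theorem exists_pCore_ne_bot {Q : Type*} [Group Q] [Finite Q] [Nontrivial Q]
    (hs : Group.IsSolvable Q) :
    ∃ p : ℕ, p.Prime ∧ p ∣ Nat.card Q ∧ Cfsg.pCore p Q ≠ ⊥ := by
  haveI := hs
  obtain ⟨A, hAn, hA1, hAc⟩ := FgsSix.SolvableLinear.exists_abelian_normal (G := Q)
  obtain ⟨p, hp, hpA⟩ := Nat.exists_prime_and_dvd (n := Nat.card A)
    fun h => hA1 (Subgroup.eq_bot_of_card_eq _ h)
  haveI := Fact.mk hp
  let T : Subgroup Q :=
    { carrier := {a | a ∈ A ∧ a ^ p = 1}
      one_mem' := ⟨one_mem A, one_pow p⟩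
      mul_mem' := fun {a b} ha hb => ⟨mul_mem ha.1 hb.1, by
        rw [(show Commute a b from hAc a ha.1 b hb.1).mul_pow, ha.2, hb.2, one_mul]⟩
      inv_mem' := fun {a} ha => ⟨inv_mem ha.1, by rw [inv_pow, ha.2, inv_one]⟩ }
  haveI hTn : T.Normal := ⟨fun n hn g => ⟨hAn.conj_mem n hn.1 g, by
    rw [conj_pow, hn.2, mul_one, mul_inv_cancel]⟩⟩
  have hTp : IsPGroup p T := fun t => ⟨1, Subtype.ext (by simpa using t.2.2)⟩
  refine ⟨p, hp, hpA.trans A.card_subgroup_dvd_card, fun h => ?_⟩
  obtain ⟨x, hx⟩ := exists_prime_orderOf_dvd_card' (G := A) p hpA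
  have hxT : (x : Q) ∈ T := ⟨x.2, by rw [← hx, ← Subgroup.orderOf_coe, pow_orderOf_eq_one]⟩
  have : (x : Q) = 1 := Subgroup.mem_bot.1 (h ▸ LocalStructure.le_pCore hTp hxT)
  rw [← Subgroup.orderOf_coe, this, orderOf_one] at hx
  exact hp.ne_one hx.symm

theorem card_dvd_of_coprime_seven {n : ℕ} (hd : n ∣ 12096) (h7 : ¬ 7 ∣ n) : n ∣ 2 ^ 6 * 3 ^ 3 :=
  ((Nat.Prime.coprime_iff_not_dvd (by norm_num)).2 h7).symm.dvd_of_dvd_mul_right
    (show n ∣ 2 ^ 6 * 3 ^ 3 * 7 from hd)

theorem isSolvable_of_seven {Q : Type*} [Group Q] [Finite Q] (hd : Nat.card Q ∣ 12096)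
    (h7 : ¬ 7 ∣ Nat.card Q) : Group.IsSolvable Q :=
  Characters.isSolvable_of_card_eq_primePow_mul 2 3 6 3 Nat.prime_two Nat.prime_three
    (card_dvd_of_coprime_seven hd h7)

/-- A subnormal subgroup of order prime to seven is trivial when the cores are. -/
theorem eq_bot_of_subnormal (hd : Nat.card G ∣ 12096) (h2 : Cfsg.pCore 2 G = ⊥)
    (h3 : Cfsg.pCore 3 G = ⊥) {S : Subgroup G} (hS : S.IsSubnormal) (h7 : ¬ 7 ∣ Nat.card S) :
    S = ⊥ := by
  by_contra hne
  haveI : Nontrivial S := S.bot_or_nontrivial.resolve_left hne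
  have hSd : Nat.card S ∣ 12096 := S.card_subgroup_dvd_card.trans hd
  obtain ⟨p, hp, hpS, hne'⟩ := exists_pCore_ne_bot (isSolvable_of_seven hSd h7)
  have h23 : p = 2 ∨ p = 3 := by
    rcases hp.dvd_mul.1 (hpS.trans (card_dvd_of_coprime_seven hSd h7)) with h | h
    · exact .inl ((Nat.prime_dvd_prime_iff_eq hp Nat.prime_two).1 (hp.dvd_of_dvd_pow h))
    · exact .inr ((Nat.prime_dvd_prime_iff_eq hp Nat.prime_three).1 (hp.dvd_of_dvd_pow h))
  have hle := LocalStructure.pCoreOf_le_of_isSubnormal (p := p) hS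
  have : Cfsg.pCoreOf p S = ⊥ := by
    rcases h23 with rfl | rfl
    · rwa [h2, le_bot_iff] at hle
    · rwa [h3, le_bot_iff] at hle
  exact hne' ((Subgroup.map_eq_bot_iff_of_injective _ S.subtype_injective).1 this)

/-- An element of order three centralizes in a normal subgroup of order seven. -/
theorem exists_twenty_one {Q : Type*} [Group Q] [Finite Q] (P : Subgroup Q) [P.Normal]
    (hP : Nat.card P = 7) (h27 : 27 ∣ Nat.card Q) : ∃ g : Q, orderOf g = 21 := by
  haveI : Fact (Nat.Prime 3) := ⟨Nat.prime_three⟩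
  haveI : Fact (Nat.Prime 7) := ⟨by norm_num⟩
  obtain ⟨U, hU⟩ := Sylow.exists_subgroup_card_pow_prime (G := Q) 3 (n := 3) (by simpa using h27)
  obtain ⟨y, hy⟩ := exists_prime_orderOf_dvd_card' (G := P) 7 (by rw [hP])
  let f : U → P := fun u => ⟨(u : Q) * y * (u : Q)⁻¹, Subgroup.Normal.conj_mem inferInstance _ y.2 _⟩
  obtain ⟨u, v, hf, hne⟩ : ∃ u v : U, f u = f v ∧ u ≠ v := by
    by_contra hc
    simp only [not_exists, not_and, not_not] at hc
    have := Nat.card_le_card_of_injective f (fun u v h => hc u v h)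
    rw [hU, hP] at this
    omega
  have hf' : (u : Q) * y * (u : Q)⁻¹ = (v : Q) * y * (v : Q)⁻¹ := congrArg Subtype.val hf
  have hc : Commute ((v : Q)⁻¹ * u) (y : Q) :=
    calc (v : Q)⁻¹ * u * y = (v : Q)⁻¹ * ((u : Q) * y * (u : Q)⁻¹) * u := by group
      _ = (v : Q)⁻¹ * ((v : Q) * y * (v : Q)⁻¹) * u := by rw [hf']
      _ = (y : Q) * ((v : Q)⁻¹ * u) := by group
  have hw : v⁻¹ * u ≠ 1 := fun h => hne (inv_mul_eq_one.1 h).symm
  have hp : IsPGroup 3 U := IsPGroup.of_card hU
  obtain ⟨k, hk⟩ := IsPGroup.iff_orderOf.1 hp (v⁻¹ * u)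
  have hk0 : k ≠ 0 := fun h => hw (orderOf_eq_one_iff.1 (by rw [hk, h, pow_zero]))
  have hb : orderOf (((v : Q)⁻¹ * u) ^ (3 ^ (k - 1))) = 3 := by
    rw [orderOf_pow' _ (pow_ne_zero _ (by norm_num)),
      show (v : Q)⁻¹ * u = ((v⁻¹ * u : U) : Q) by simp, Subgroup.orderOf_coe, hk,
      Nat.gcd_eq_right (pow_dvd_pow 3 (by omega)), Nat.pow_div (by omega) (by norm_num),
      show k - (k - 1) = 1 by omega, pow_one]
  letI := Fintype.ofFinite Q
  exact ⟨_, orderOf_mul_eq (hc.pow_left _) hb (by rw [Subgroup.orderOf_coe, hy]) (by norm_num)⟩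

namespace Pre

variable (H : Pre G)
include H

theorem pCore_three : Cfsg.pCore 3 G = ⊥ := by
  haveI : Fact (Nat.Prime 3) := ⟨Nat.prime_three⟩
  haveI := LocalStructure.pCore_normal (p := 3) (G := G)
  obtain ⟨y, hy⟩ := H.seven
  have h1 := card_normal_pgroup (p := 3) (by norm_num) (Cfsg.pCore 3 G)
    LocalStructure.pCore_isPGroup hy H.no21
  obtain ⟨k, hk⟩ := IsPGroup.iff_card.1 (LocalStructure.pCore_isPGroup (p := 3) (G := G))
  have hd : Nat.card (Cfsg.pCore 3 G) ∣ 12096 := H.card ▸ Subgroup.card_subgroup_dvd_card _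
  have hk3 : k ≤ 3 := by
    by_contra h
    have h81 : 81 ∣ 12096 := (hk ▸ (pow_dvd_pow 3 (show 4 ≤ k by omega))).trans hd
    norm_num at h81
  refine Subgroup.eq_bot_of_card_eq _ ?_
  rw [hk] at h1 ⊢
  interval_cases k <;> simp at h1 ⊢

theorem pCore_two : Cfsg.pCore 2 G = ⊥ := by
  haveI : Fact (Nat.Prime 2) := ⟨Nat.prime_two⟩
  haveI : Fact (Nat.Prime 3) := ⟨Nat.prime_three⟩
  haveI : Fact (Nat.Prime 7) := ⟨by norm_num⟩
  set R := Cfsg.pCore 2 G with hR
  haveI hRn : R.Normal := LocalStructure.pCore_normal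
  have hRp : IsPGroup 2 R := LocalStructure.pCore_isPGroup
  obtain ⟨y, hy⟩ := H.seven
  have h1 := card_normal_pgroup (p := 2) (by norm_num) R hRp hy H.no14
  obtain ⟨k, hk⟩ := IsPGroup.iff_card.1 hRp
  have hd : Nat.card R ∣ 12096 := H.card ▸ R.card_subgroup_dvd_card
  have hk6 : k ≤ 6 := by
    by_contra h
    have h128 : 128 ∣ 12096 := (hk ▸ (pow_dvd_pow 2 (show 7 ≤ k by omega))).trans hd
    norm_num at h128
  have hmul := R.card_mul_index
  rw [H.card, hk] at hmul
  rw [hk] at h1
  -- the quotient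
  have hqcard : Nat.card (G ⧸ R) = R.index := rfl
  obtain ⟨q, hq⟩ := exists_prime_orderOf_dvd_card' (G := G ⧸ R) 7 (by
    rw [hqcard]
    refine ((Fact.out : Nat.Prime 7).dvd_mul.1 (hmul ▸ (by norm_num : 7 ∣ 12096))).resolve_left
      fun h => ?_
    exact absurd ((Fact.out : Nat.Prime 7).dvd_of_dvd_pow h) (by norm_num))
  have hq21 := no_order_quotient R H.no21
  interval_cases k <;> try omega
  · exact Subgroup.eq_bot_of_card_eq _ (by simpa using hk)
  · -- order eight
    exfalso
    have hi : R.index = 1512 := by omega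
    have h2q : Cfsg.pCore 2 (G ⧸ R) = ⊥ := by
      haveI := LocalStructure.pCore_normal (p := 2) (G := G ⧸ R)
      have hle : (Cfsg.pCore 2 (G ⧸ R)).comap (QuotientGroup.mk' R) ≤ R :=
        LocalStructure.le_pCore (LocalStructure.pCore_isPGroup.comap_of_ker_isPGroup _
          (by rw [QuotientGroup.ker_mk']; exact hRp))
      rw [← Subgroup.map_comap_eq_self_of_surjective (QuotientGroup.mk'_surjective R)
        (Cfsg.pCore 2 (G ⧸ R)), Subgroup.map_eq_bot_iff, QuotientGroup.ker_mk']
      exact hle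
    have h3q : Cfsg.pCore 3 (G ⧸ R) = ⊥ := by
      haveI := LocalStructure.pCore_normal (p := 3) (G := G ⧸ R)
      have h1' := card_normal_pgroup (p := 3) (by norm_num) (Cfsg.pCore 3 (G ⧸ R))
        LocalStructure.pCore_isPGroup hq hq21
      obtain ⟨j, hj⟩ := IsPGroup.iff_card.1 (LocalStructure.pCore_isPGroup (p := 3) (G := G ⧸ R))
      have hd' : Nat.card (Cfsg.pCore 3 (G ⧸ R)) ∣ 1512 := by
        rw [← hi]; exact Subgroup.card_subgroup_dvd_card _
      have hj3 : j ≤ 3 := by
        by_contra h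
        have h81 : 81 ∣ 1512 := (hj ▸ (pow_dvd_pow 3 (show 4 ≤ j by omega))).trans hd'
        norm_num at h81
      refine Subgroup.eq_bot_of_card_eq _ ?_
      rw [hj] at h1' ⊢
      interval_cases j <;> simp at h1' ⊢
    let φ : G →* MulAut R := MulAut.conjNormal
    set C := φ.ker with hC
    have h7C : ¬ 7 ∣ Nat.card C := by
      intro h7
      obtain ⟨c, hc⟩ := exists_prime_orderOf_dvd_card' (G := C) 7 h7
      obtain ⟨r, hr⟩ := exists_prime_orderOf_dvd_card' (G := R) 2 (by rw [hk]; norm_num)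
      have hcr : φ (c : G) r = r := by rw [c.2]; rfl
      have hcomm : Commute (c : G) (r : G) := by
        have h := congrArg Subtype.val hcr
        simp only [φ, MulAut.conjNormal_apply] at h
        exact mul_inv_eq_iff_eq_mul.1 h
      letI := Fintype.ofFinite G
      exact H.no14 _ (orderOf_mul_eq hcomm.symm (by rw [Subgroup.orderOf_coe, hr])
        (by rw [Subgroup.orderOf_coe, hc]) (by norm_num))
    have h3C : 3 ∣ Nat.card C := by
      by_contra h3
      let ψ : G →* Equiv.Perm R := (MulAut.toPerm R).comp φ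
      have hker : ψ.ker = C := by
        rw [hC]
        ext g
        simp only [MonoidHom.mem_ker, ψ, MonoidHom.comp_apply]
        exact ⟨fun h => MulEquiv.ext fun r => Equiv.congr_fun h r, fun h => by rw [h, map_one]⟩
      have hr := Subgroup.card_subgroup_dvd_card ψ.range
      rw [← Subgroup.index_ker, hker, Nat.card_perm, hk] at hr
      have hCi := C.card_mul_index
      rw [H.card] at hCi
      have h27 : 27 ∣ C.index := by
        refine (Nat.Coprime.dvd_of_dvd_mul_left ?_ (hCi ▸ (by norm_num : 27 ∣ 12096)))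
        exact ((Nat.prime_three.coprime_iff_not_dvd.2 h3).pow_left 3)
      have h27' := h27.trans hr
      norm_num [Nat.factorial] at h27'
    have hCimg : C.map (QuotientGroup.mk' R) = ⊥ := by
      haveI := Subgroup.Normal.map (inferInstance : C.Normal) (QuotientGroup.mk' R)
        (QuotientGroup.mk'_surjective R)
      refine eq_bot_of_subnormal (by rw [hqcard, hi]; norm_num) h2q h3q
        (Subgroup.Normal.isSubnormal inferInstance) fun h => h7C (h.trans ?_)
      exact Subgroup.card_map_dvd _ _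
    rw [Subgroup.map_eq_bot_iff, QuotientGroup.ker_mk'] at hCimg
    have := h3C.trans (Subgroup.card_dvd_of_le hCimg)
    rw [hk] at this
    norm_num at this
  · -- order sixty-four
    exfalso
    have hi : R.index = 189 := by omega
    obtain ⟨P⟩ : Nonempty (Sylow 7 (G ⧸ R)) := inferInstance
    have hP : Nat.card (P : Subgroup (G ⧸ R)) = 7 := by
      rw [P.card_eq_multiplicity, hqcard, hi, show 189 = 7 * 27 by norm_num,
        Nat.factorization_mul (by norm_num) (by norm_num), Finsupp.add_apply,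
        Nat.factorization_eq_zero_of_not_dvd (by norm_num : ¬ 7 ∣ 27),
        (Fact.out : Nat.Prime 7).factorization_self]
      norm_num
    have hn1 : Nat.card (Sylow 7 (G ⧸ R)) = 1 := by
      have hd7 := P.card_dvd_index
      have hm := card_sylow_modEq_one 7 (G ⧸ R)
      have hidx := (P : Subgroup (G ⧸ R)).card_mul_index
      rw [hqcard, hi, hP] at hidx
      rw [show (P : Subgroup (G ⧸ R)).index = 27 by omega] at hd7
      have key : ∀ e ∈ List.range 28, 27 % e = 0 → e % 7 = 1 → e = 1 := by decide +kernel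
      exact key _ (List.mem_range.2 (by have := Nat.le_of_dvd (by norm_num) hd7; omega))
        (Nat.mod_eq_zero_of_dvd hd7) hm
    haveI : Subsingleton (Sylow 7 (G ⧸ R)) := (Nat.card_eq_one_iff_unique.1 hn1).1
    haveI := P.normal_of_subsingleton
    obtain ⟨g, hg⟩ := exists_twenty_one (P : Subgroup (G ⧸ R)) hP (by rw [hqcard, hi]; norm_num)
    exact hq21 g hg

/-- There is a simple normal subgroup of order 6048 with trivial centralizer. -/
theorem exists_simple :
    ∃ N : Subgroup G, N.Normal ∧ Hyp ↥N ∧ Subgroup.centralizer (N : Set G) = ⊥ := by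
  classical
  haveI : Fact (Nat.Prime 7) := ⟨by norm_num⟩
  have hbot : ∀ S : Subgroup G, S.IsSubnormal → ¬ 7 ∣ Nat.card S → S = ⊥ := fun S hS h7 =>
    eq_bot_of_subnormal (dvd_of_eq H.card) H.pCore_two H.pCore_three hS h7
  haveI : Nontrivial G := Finite.one_lt_card_iff_nontrivial.1 (by rw [H.card]; norm_num)
  obtain ⟨W, hWn, hW1, hWmin⟩ := CfsgLib.Solvable.exists_minimal_normal (G := G)
  haveI := hWn
  have h7W : 7 ∣ Nat.card W := by
    by_contra h
    exact hW1 (hbot W (Subgroup.Normal.isSubnormal inferInstance) h)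
  haveI : Nontrivial W := W.bot_or_nontrivial.resolve_left hW1
  have hWd : Nat.card W ∣ 12096 := H.card ▸ W.card_subgroup_dvd_card
  have hperf : commutator ↥W = ⊤ := by
    have hWW : ⁅W, W⁆ = W := by
      refine (hWmin _ inferInstance (Subgroup.commutator_le_right W W)).resolve_left fun h => ?_
      haveI : IsMulCommutative ↥W := ⟨⟨fun a b => Subtype.ext (Subgroup.mem_centralizer_iff.1
        ((Subgroup.commutator_eq_bot_iff_le_centralizer.1 h) b.2) a a.2)⟩⟩
      have hs : Group.IsSolvable ↥W := Group.isSolvable_of_comm fun a b => mul_comm' a b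
      obtain ⟨p, hp, hpW, hne⟩ := exists_pCore_ne_bot hs
      have hle := LocalStructure.pCoreOf_le_of_isSubnormal (p := p)
        (L := W) (Subgroup.Normal.isSubnormal inferInstance)
      haveI := LocalStructure.pCoreOf_normal (p := p) W
      have hp7 : p = 7 ∨ ¬ 7 ∣ Nat.card (Cfsg.pCoreOf p W) := by
        by_contra hc
        simp only [not_or, not_not] at hc
        haveI := Fact.mk hp
        obtain ⟨k, hk⟩ := IsPGroup.iff_card.1 (LocalStructure.pCoreOf_isPGroup (p := p) W)
        exact hc.1 ((Nat.prime_dvd_prime_iff_eq (by norm_num) hp).1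
          ((Fact.out : Nat.Prime 7).dvd_of_dvd_pow (hk ▸ hc.2))).symm
      rcases hp7 with rfl | h7
      · have hW7 : IsPGroup 7 (Cfsg.pCoreOf 7 W) := LocalStructure.pCoreOf_isPGroup W
        obtain ⟨k, hk⟩ := IsPGroup.iff_card.1 hW7
        have hk1 : k ≤ 1 := by
          by_contra hk2
          have h49 : 49 ∣ 12096 := (hk ▸ (pow_dvd_pow 7 (show 2 ≤ k by omega))).trans
            (H.card ▸ Subgroup.card_subgroup_dvd_card _)
          norm_num at h49
        have hk0 : k ≠ 0 := fun h => hne ((Subgroup.map_eq_bot_iff_of_injective _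
          W.subtype_injective).1 (Subgroup.eq_bot_of_card_eq _ (by
            show Nat.card (Cfsg.pCoreOf 7 W) = 1
            rw [hk, h, pow_zero])))
        obtain ⟨g, hg⟩ := exists_twenty_one (Cfsg.pCoreOf 7 W)
          (by rw [hk, show k = 1 by omega, pow_one]) (by rw [H.card]; norm_num)
        exact H.no21 g hg
      · exact hne ((Subgroup.map_eq_bot_iff_of_injective _ W.subtype_injective).1
          (hbot _ (Subgroup.Normal.isSubnormal inferInstance) h7))
    refine Subgroup.map_injective W.subtype_injective ?_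
    rw [commutator_def, Subgroup.map_commutator, ← MonoidHom.range_eq_map, Subgroup.range_subtype,
      hWW]
  have hna : ¬ IsMulCommutative ↥W := fun hc => by
    have h : commutator ↥W = ⊥ := by
      rw [commutator_def, Subgroup.commutator_eq_bot_iff_le_centralizer]
      exact fun a _ => Subgroup.mem_centralizer_iff.2 fun b _ => hc.is_comm.comm b a
    exact bot_ne_top (h.symm.trans hperf)
  haveI hsimp : IsSimpleGroup ↥W := by
    refine ⟨fun V hV => ?_⟩
    by_cases h7 : 7 ∣ Nat.card V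
    · right
      have hmul := V.card_mul_index
      have h7' : ¬ 7 ∣ V.index := fun h => by
        have h49 : 7 * 7 ∣ 12096 := (Nat.mul_dvd_mul h7 h).trans (hmul ▸ hWd)
        norm_num at h49
      haveI hsq : Group.IsSolvable (↥W ⧸ V) :=
        isSolvable_of_seven (Q := ↥W ⧸ V) ((V.index_dvd_card).trans hWd) h7'
      by_contra hne
      haveI : Nontrivial (↥W ⧸ V) := QuotientGroup.nontrivial_iff.2 hne
      have hlt := Group.IsSolvable.commutator_lt_top_of_nontrivial (G := ↥W ⧸ V)
      refine hlt.ne ?_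
      rw [← Subgroup.map_top_of_surjective _ (QuotientGroup.mk'_surjective V), ← hperf,
        commutator_def, commutator_def, Subgroup.map_commutator,
        Subgroup.map_top_of_surjective _ (QuotientGroup.mk'_surjective V)]
    · left
      have hsub : (V.map W.subtype).IsSubnormal :=
        Subgroup.IsSubnormal.step _ W (Subgroup.map_subtype_le V)
          (Subgroup.Normal.isSubnormal inferInstance) (by
            rw [Subgroup.subgroupOf, Subgroup.comap_map_eq_self_of_injective W.subtype_injective]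
            exact hV)
      exact (Subgroup.map_eq_bot_iff_of_injective _ W.subtype_injective).1 (hbot _ hsub (by
        rwa [Subgroup.card_map_of_injective W.subtype_injective]))
  letI := Fintype.ofFinite G
  letI := Fintype.ofFinite ↥W
  -- the Sylow seven-subgroups
  obtain ⟨P⟩ : Nonempty (Sylow 7 G) := inferInstance
  have hG' : Nat.card G = 7 * (2 ^ 6 * 3 ^ 3) := by rw [H.card]; norm_num
  have hP := card_sylow_seven hG' (by norm_num) P
  have hself := self_centralizing hG' H.no14 H.no21 P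
  have hn : Nat.card (Sylow 7 G) = 288 := by
    set Nz := Subgroup.normalizer ((P : Subgroup G) : Set G)
    obtain ⟨y, hy⟩ := exists_prime_orderOf_dvd_card' (G := (P : Subgroup G)) 7 (by rw [hP])
    have hy1 : (y : G) ≠ 1 := fun h => by
      rw [← Subgroup.orderOf_coe, h, orderOf_one] at hy; norm_num at hy
    let f : Nz → {z : (P : Subgroup G) // z ≠ 1} := fun x =>
      ⟨⟨(x : G) * y * (x : G)⁻¹, (Subgroup.mem_normalizer_iff.1 x.2 _).1 y.2⟩,
        fun h => hy1 (conj_eq_one_iff.1 (congrArg Subtype.val h))⟩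
    have hzy : Subgroup.zpowers (y : G) = (P : Subgroup G) :=
      Subgroup.eq_of_le_of_card_ge (Subgroup.zpowers_le.2 y.2) (by
        rw [hP, Nat.card_zpowers, Subgroup.orderOf_coe, hy])
    have hfib : ∀ z, Nat.card {x : Nz // f x = z} ≤ 7 := by
      intro z
      rcases isEmpty_or_nonempty {x : Nz // f x = z} with h | ⟨⟨x₀, hx₀⟩⟩
      · simp
      · refine le_trans ?_ hP.le
        refine Nat.card_le_card_of_injective (fun x => ⟨(x₀ : G)⁻¹ * (x.1 : G), ?_⟩) ?_
        · have hmem : (x₀ : G)⁻¹ * (x.1 : G) ∈ Subgroup.centralizer ((P : Subgroup G) : Set G) := by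
            have e : (x.1 : G) * y * (x.1 : G)⁻¹ = (x₀ : G) * y * (x₀ : G)⁻¹ :=
              congrArg (fun w : {z : (P : Subgroup G) // z ≠ 1} => ((w.1 : (P : Subgroup G)) : G))
                (x.2.trans hx₀.symm)
            rw [Subgroup.mem_centralizer_iff]
            intro g hg
            obtain ⟨j, rfl⟩ : g ∈ Subgroup.zpowers (y : G) := hzy.ge hg
            have hc : Commute ((x₀ : G)⁻¹ * (x.1 : G)) (y : G) :=
              calc (x₀ : G)⁻¹ * (x.1 : G) * y
                    = (x₀ : G)⁻¹ * ((x.1 : G) * y * (x.1 : G)⁻¹) * (x.1 : G) := by group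
                _ = (x₀ : G)⁻¹ * ((x₀ : G) * y * (x₀ : G)⁻¹) * (x.1 : G) := by rw [e]
                _ = (y : G) * ((x₀ : G)⁻¹ * (x.1 : G)) := by group
            exact ((hc.zpow_right j).eq).symm
          rwa [hself] at hmem
        · intro a b h
          exact Subtype.ext (Subtype.ext (mul_left_cancel (congrArg Subtype.val h)))
    have hN42 : Nat.card Nz ≤ 42 := by
      letI := Fintype.ofFinite {z : (P : Subgroup G) // z ≠ 1}
      have h6 : Fintype.card {z : (P : Subgroup G) // z ≠ 1} = 6 := by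
        letI := Fintype.ofFinite ↥(P : Subgroup G)
        rw [Fintype.card_subtype_compl, Fintype.card_subtype_eq, ← Nat.card_eq_fintype_card, hP]
      rw [← Nat.card_congr (Equiv.sigmaFiberEquiv f), Nat.card_sigma]
      refine le_trans (Finset.sum_le_sum fun z _ => hfib z) ?_
      rw [Finset.sum_const, Finset.card_univ, h6]; norm_num
    have hmul : Nat.card (Sylow 7 G) * Nat.card Nz = 12096 := by
      rw [← H.card, P.card_eq_index_normalizer]
      exact Subgroup.index_mul_card _
    have hmod : Nat.card (Sylow 7 G) % 7 = 1 := card_sylow_modEq_one 7 G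
    have hd := P.card_dvd_index
    have hidx := (P : Subgroup G).card_mul_index
    rw [H.card, hP] at hidx
    rw [show (P : Subgroup G).index = 1728 by omega] at hd
    have key : ∀ e ∈ List.range 1729, 1728 % e = 0 → e % 7 = 1 → e = 288 ∨ e < 288 := by
      decide +kernel
    rcases key _ (List.mem_range.2 (by have := Nat.le_of_dvd (by norm_num) hd; omega))
      (Nat.mod_eq_zero_of_dvd hd) hmod with h | h
    · exact h
    · have : Nat.card (Sylow 7 G) * Nat.card Nz ≤ 287 * 42 := Nat.mul_le_mul (by omega) hN42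
      omega
  have hleW : ∀ Q : Sylow 7 G, (Q : Subgroup G) ≤ W := by
    intro Q x hx
    have hQ := card_sylow_seven hG' (by norm_num) Q
    obtain ⟨⟨w, hw⟩, hw7⟩ := exists_prime_orderOf_dvd_card' (G := ↥W) 7 h7W
    obtain ⟨Q₀, hQ₀⟩ := (IsPGroup.of_card (n := 1) (by
      rw [Nat.card_zpowers, ← Subgroup.orderOf_mk w hw, hw7, pow_one]) :
      IsPGroup 7 (Subgroup.zpowers w)).exists_le_sylow
    have heq : Subgroup.zpowers w = (Q₀ : Subgroup G) := Subgroup.eq_of_le_of_card_ge hQ₀ (by
      rw [card_sylow_seven hG' (by norm_num) Q₀, Nat.card_zpowers, ← Subgroup.orderOf_mk w hw, hw7])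
    obtain ⟨c, hc⟩ := MulAction.exists_smul_eq G Q Q₀
    have hcx : c * x * c⁻¹ ∈ W := by
      refine (Subgroup.zpowers_le.2 hw : _ ≤ W) (heq ▸ ?_)
      rw [← hc, Sylow.coe_subgroup_smul, Subgroup.mem_pointwise_smul_iff_inv_smul_mem]
      simpa [MulAut.smul_def, mul_assoc] using hx
    have := hWn.conj_mem _ hcx c⁻¹
    simpa [mul_assoc] using this
  obtain ⟨k, hk⟩ := h7W
  have hkd : k ∣ 2 ^ 6 * 3 ^ 3 :=
    Nat.dvd_of_mul_dvd_mul_left (by norm_num : 0 < 7) (by rw [← hk, ← hG']; exact W.card_subgroup_dvd_card)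
  obtain ⟨k₁, k₂, hk₁, hk₂, rfl⟩ := Nat.dvd_mul.1 hkd
  obtain ⟨a, ha, rfl⟩ := (Nat.dvd_prime_pow Nat.prime_two).1 hk₁
  obtain ⟨b, hb, rfl⟩ := (Nat.dvd_prime_pow Nat.prime_three).1 hk₂
  have hno : ∀ n : ℕ, (∀ g : G, orderOf g ≠ n) → ∀ g : ↥W, orderOf g ≠ n := fun n h g => by
    rw [← Subgroup.orderOf_coe]; exact h _
  have h14 := hno 14 H.no14
  have h21 := hno 21 H.no21
  obtain ⟨PW⟩ : Nonempty (Sylow 7 ↥W) := inferInstance
  have S := core_of hna hk h14 h21 PW
  obtain ⟨hc1, -⟩ := sylow_count S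
  have hnW : Nat.card (Sylow 7 ↥W) = 288 := by
    rw [← hn]
    refine (Nat.card_eq_of_bijective (fun Q : Sylow 7 G => Q.subtype (hleW Q))
      ⟨fun Q Q' h => Sylow.subtype_injective h, fun R => ?_⟩).symm
    obtain ⟨Q, hQ⟩ := Sylow.exists_comap_subtype_eq R
    exact ⟨Q, Sylow.ext ((Sylow.coe_subtype Q (hleW Q)).trans hQ)⟩
  rw [hnW] at hc1
  have hW : Nat.card ↥W = 6048 := by
    rcases eIdx_cases S with h | h | h <;> rw [h] at hc1
    · exfalso
      have := Cfsg.Agent.S0983.result hna (by omega) (by omega)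
      omega
    · omega
    · exact absurd (not_twelve hna (by omega) h14 h21) id
  refine ⟨W, hWn, ⟨hsimp, hna, hW, hno 9 H.no9, h14, h21⟩, ?_⟩
  set C := Subgroup.centralizer (W : Set G)
  refine hbot C (Subgroup.Normal.isSubnormal (inferInstance : C.Normal)) fun h7 => ?_
  obtain ⟨c, hc⟩ := exists_prime_orderOf_dvd_card' (G := C) 7 h7
  obtain ⟨w, hw⟩ := exists_prime_orderOf_dvd_card' (G := ↥W) 2 (by rw [hW]; norm_num)
  have hcomm : Commute (w : G) (c : G) := Subgroup.mem_centralizer_iff.1 c.2 _ w.2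
  exact H.no14 _ (orderOf_mul_eq hcomm (by rw [Subgroup.orderOf_coe, hw])
    (by rw [Subgroup.orderOf_coe, hc]) (by norm_num))

end Pre

end CfsgLib.G2TwoRecog
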