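import Cfsg.Agent.G2TwoRecog.Chars
import Mathlib.GroupTheory.FiniteAbelian.Duality
import Mathlib.RepresentationTheory.Invariants

/-!
# The Sylow three-subgroups of a simple group of order 6048
-/

set_option autoImplicit false
set_option linter.unusedSectionVars false
set_option linter.style.haveILetI false

namespace CfsgLib.G2TwoRecog

open Cfsg CfsgLib.PrincipalBlock
open scoped ComplexConjugate

universe u

variable {G : Type u} [Group G] [Fintype G]

/-- If a character sums to zero over a subgroup, it does so over each coset. -/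
theorem sum_coset_eq_zero (χ : IrrCharacter G) (A : Subgroup G) [Fintype A]
    (h : ∑ a : A, (χ : G → ℂ) a = 0) (g : G) : ∑ a : A, (χ : G → ℂ) (g * a) = 0 := by
  classical
  obtain ⟨n, ρ, -, hχ⟩ := χ.2
  rw [← hχ] at h ⊢
  let σ : Representation ℂ A (Fin n → ℂ) := ρ.comp A.subtype
  haveI : Invertible ((Fintype.card A : ℂ)) := invertibleOfNonzero (by simp)
  have hT : σ.averageMap = (Fintype.card A : ℂ)⁻¹ • ∑ a : A, ρ (a : G) := by
    rw [Representation.averageMap, GroupAlgebra.average, map_smul, map_sum, invOf_eq_inv]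
    congr 1
    refine Finset.sum_congr rfl fun a _ => ?_
    simp [σ]
  have htr : LinearMap.trace ℂ _ σ.averageMap = 0 := by
    rw [hT, map_smul, map_sum]
    simp only [Representation.character] at h
    rw [h, smul_zero]
  have hp := σ.isProj_averageMap
  rw [hp.trace, Nat.cast_eq_zero, Submodule.finrank_eq_zero] at htr
  have h0 : σ.averageMap = 0 := by
    refine LinearMap.ext fun v => ?_
    have := hp.map_mem v
    rw [htr, Submodule.mem_bot] at this
    exact this
  rw [hT, smul_eq_zero, inv_eq_zero] at h0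
  have h1 : ∑ a : A, ρ (a : G) = 0 := h0.resolve_left (by simp)
  calc ∑ a : A, ρ.character (g * a) = LinearMap.trace ℂ _ (ρ g * ∑ a : A, ρ (a : G)) := by
        simp [Representation.character, Finset.mul_sum, map_sum, map_mul]
    _ = 0 := by rw [h1, mul_zero, map_zero]

/-- A set stable under right multiplication by a subgroup consists of cosets. -/
theorem card_dvd_of_stable (Z : Subgroup G) (S : Finset G)
    (hS : ∀ u ∈ S, ∀ w ∈ Z, u * w ∈ S) : Nat.card Z ∣ S.card := by
  classical
  rw [Finset.card_eq_sum_card_image (fun u : G => (u : G ⧸ Z)) S]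
  refine Finset.dvd_sum fun q hq => ?_
  obtain ⟨u, hu, rfl⟩ := Finset.mem_image.1 hq
  have e : (S.filter fun v : G => (v : G ⧸ Z) = (u : G ⧸ Z)) =
      (Finset.univ.filter fun w : G => w ∈ Z).image (u * ·) := by
    ext v
    simp only [Finset.mem_filter, Finset.mem_image, Finset.mem_univ, true_and]
    constructor
    · rintro ⟨-, hv⟩
      exact ⟨u⁻¹ * v, QuotientGroup.eq.1 hv.symm, by group⟩
    · rintro ⟨w, hw, rfl⟩
      exact ⟨hS u hu w hw, (QuotientGroup.eq.2 (by simpa using hw)).symm⟩
  rw [e, Finset.card_image_of_injective _ (mul_right_injective u), Nat.card_eq_fintype_card,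
    Fintype.card_subtype]

/-- A set closed under inversion without involutions has even cardinality. -/
theorem even_card_of_inv (S : Finset G) (hS : ∀ u ∈ S, u⁻¹ ∈ S) (hne : ∀ u ∈ S, u⁻¹ ≠ u) :
    2 ∣ S.card := by
  have h : ∑ u ∈ S, (1 : ZMod 2) = 0 :=
    Finset.sum_involution (fun u _ => u⁻¹) (fun _ _ => by decide) (fun u hu _ => hne u hu)
      (fun u hu => hS u hu) (fun u _ => inv_inv u)
  rw [Finset.sum_const, nsmul_eq_mul, mul_one, ZMod.natCast_eq_zero_iff_even] at h
  exact even_iff_two_dvd.1 h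

/-- The sum over a subgroup with the identity split off. -/
theorem sum_coe (A : Subgroup G) [Fintype A] [DecidableEq G] [DecidablePred (· ∈ A)] (f : G → ℂ) :
    ∑ a : A, f a = f 1 + ∑ g ∈ Finset.univ.filter (fun g => g ∈ A ∧ g ≠ 1), f g := by
  rw [← Finset.sum_subtype (Finset.univ.filter fun g => g ∈ A) (by simp) f,
    ← Finset.add_sum_erase (Finset.univ.filter fun g => g ∈ A) _
      (show (1 : G) ∈ Finset.univ.filter (fun g => g ∈ A) by simp [one_mem])]
  congr 1
  refine Finset.sum_congr ?_ fun _ _ => rfl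
  ext g
  simp [and_comm]

namespace Hyp

variable (H : Hyp G)
include H

theorem card_sylow_three (U : Sylow 3 G) [Fact (Nat.Prime 3)] : Nat.card (U : Subgroup G) = 27 := by
  rw [U.card_eq_multiplicity, H.card, show 6048 = 3 ^ 3 * 224 by norm_num,
    Nat.factorization_mul (by norm_num) (by norm_num), Finsupp.add_apply,
    Nat.prime_three.factorization_pow, Nat.factorization_eq_zero_of_not_dvd (by norm_num : ¬ 3 ∣ 224)]
  simp

theorem order_three {U : Sylow 3 G} [Fact (Nat.Prime 3)] {u : G} (hu : u ∈ (U : Subgroup G))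
    (hu1 : u ≠ 1) : orderOf u = 3 := by
  have hd3 : orderOf u ∣ 27 := H.card_sylow_three U ▸ Subgroup.orderOf_dvd_natCard _ hu
  rcases H.order_cases u with h | h | h | h
  · exact absurd (orderOf_eq_one_iff.1 h) hu1
  · exact h
  · rw [h] at hd3; norm_num at hd3
  · exact absurd (h.trans hd3) (by norm_num)

theorem exists_sylow_three [Fact (Nat.Prime 3)] {u : G} (hu : orderOf u = 3) :
    ∃ U : Sylow 3 G, u ∈ (U : Subgroup G) := by
  obtain ⟨U, hU⟩ := (IsPGroup.of_card (n := 1)
    (by rw [Nat.card_zpowers, hu, pow_one]) : IsPGroup 3 (Subgroup.zpowers u)).exists_le_sylow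
  exact ⟨U, hU (Subgroup.mem_zpowers u)⟩

/-- A subgroup without involutions and without elements of order seven is a three-group. -/
theorem isPGroup_three [Fact (Nat.Prime 3)] (A : Subgroup G)
    (h2 : ∀ t ∈ A, orderOf t ≠ 2) (h7 : ∀ g ∈ A, orderOf g ≠ 7) : IsPGroup 3 A := by
  rw [IsPGroup.iff_orderOf]
  intro g
  rw [← Subgroup.orderOf_coe]
  rcases H.order_cases (g : G) with h | h | h | h
  · exact ⟨0, by simpa using h⟩
  · exact ⟨1, by simpa using h⟩
  · exact absurd h (h7 _ g.2)
  · exact absurd (orderOf_pow_orderOf_div (orderOf_pos (g : G)).ne' h)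
      (h2 _ (pow_mem g.2 _))

theorem no_seven_commute {u g : G} (hu : orderOf u = 3) (hg : orderOf g = 7) : ¬ Commute u g :=
  fun h => H.no21 _ (orderOf_mul_eq h hu hg (by norm_num))

end Hyp

/-- The integral value at an element of order three. -/
noncomputable def xval (χ : IrrCharacter G) (g : G) : ℤ := by
  classical
  exact if h : ∃ v : ℤ, (χ : G → ℂ) g = v then h.choose else 0

section Six

variable (H : Hyp G) {χ : IrrCharacter G} (hχ : SixChar χ) [Fact (Nat.Prime 3)]
include H hχ

theorem xval_spec {u : G} (hu : orderOf u = 3) :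
    (χ : G → ℂ) u = xval χ u ∧ (xval χ u = -3 ∨ xval χ u = 0 ∨ xval χ u = 3) := by
  classical
  obtain ⟨v, hv, hv'⟩ := hχ.three u hu
  have he : ∃ v : ℤ, (χ : G → ℂ) u = v := ⟨v, hv⟩
  have h : (χ : G → ℂ) u = xval χ u := by rw [xval, dif_pos he]; exact he.choose_spec
  have : xval χ u = v := by exact_mod_cast h.symm.trans hv
  exact ⟨h, this ▸ hv'⟩

theorem xval_inv {u : G} (hu : orderOf u = 3) : xval χ u⁻¹ = xval χ u := by
  have h1 := (xval_spec H hχ hu).1
  have h2 := (xval_spec H hχ (u := u⁻¹) (by rwa [orderOf_inv])).1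
  rw [apply_inv, h1, map_intCast] at h2
  exact_mod_cast h2.symm

theorem xval_conj {u : G} (hu : orderOf u = 3) (g : G) :
    xval χ (g * u * g⁻¹) = xval χ u := by
  have h1 := (xval_spec H hχ hu).1
  have h2 := (xval_spec H hχ (u := g * u * g⁻¹)
    (by rw [show g * u * g⁻¹ = MulAut.conj g u from rfl, MulEquiv.orderOf_eq, hu])).1
  rw [apply_conj, h1] at h2
  exact_mod_cast h2.symm

/-- Where the value is zero no involution commutes. -/
theorem no_invol_commute {u t : G} (hu : orderOf u = 3) (h0 : xval χ u = 0) (ht : orderOf t = 2) :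
    ¬ Commute u t := by
  intro hc
  have h6 : orderOf (u * t) = 6 := orderOf_mul_eq hc hu ht (by norm_num)
  have hu3 : u ^ 3 = 1 := by rw [← hu, pow_orderOf_eq_one]
  have ht2 : t ^ 2 = 1 := by rw [← ht, pow_orderOf_eq_one]
  obtain ⟨ω, hω⟩ : ∃ ω : ℂ, IsPrimitiveRoot ω 3 :=
    ⟨_, Complex.isPrimitiveRoot_exp 3 (by norm_num)⟩
  have hs : 1 + ω + ω ^ 2 = 0 := by
    have := hω.geom_sum_eq_zero (by norm_num)
    simpa [Finset.sum_range_succ] using this
  have hω3 := hω.pow_eq_one
  have hu0 : (χ : G → ℂ) u = 0 := by rw [(xval_spec H hχ hu).1, h0, Int.cast_zero]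
  have e2 : (χ : G → ℂ) ((u * t) ^ 2) = 0 := by
    rw [hc.mul_pow, ht2, mul_one, show u ^ 2 = u⁻¹ from eq_inv_of_mul_eq_one_left
      (by rw [← pow_succ]; exact hu3), apply_inv, hu0, map_zero]
  have e3 : (χ : G → ℂ) ((u * t) ^ 3) = -2 := by
    rw [hc.mul_pow, hu3, one_mul, show t ^ 3 = t by rw [pow_succ, ht2, one_mul]]
    exact hχ.invol t ht
  have e4 : (χ : G → ℂ) ((u * t) ^ 4) = 0 := by
    rw [hc.mul_pow, show t ^ 4 = 1 by rw [show 4 = 2 * 2 from rfl, pow_mul, ht2, one_pow],
      mul_one, show u ^ 4 = u by rw [pow_succ, hu3, one_mul], hu0]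
  have e5 : (χ : G → ℂ) ((u * t) ^ 5) = 1 := by
    rw [show (u * t) ^ 5 = (u * t)⁻¹ from eq_inv_of_mul_eq_one_left
      (by rw [← pow_succ, show 5 + 1 = orderOf (u * t) by rw [h6], pow_orderOf_eq_one]),
      apply_inv, hχ.six _ h6, map_one]
  have hw : ω ^ 6 = 1 := by rw [show 6 = 3 * 2 from rfl, pow_mul, hω3, one_pow]
  obtain ⟨m, hm⟩ := cyc_mult χ (u * t) h6 hw
  simp only [Finset.sum_range_succ, Finset.sum_range_zero, zero_add, pow_zero, pow_one, mul_one,
    hχ.deg, hχ.six _ h6, e2, e3, e4, e5] at hm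
  have : (3 : ℂ) = 6 * (m : ℂ) := by
    linear_combination hm - hs + (2 - ω ^ 2) * hω3
  have : 3 = 6 * m := by exact_mod_cast this
  omega

theorem card_three_eqs :
    ∃ a b c : ℕ, (6 * (a : ℤ) + 12 * c = 672) ∧ (2 * (a : ℤ) - b - 4 * c = -896) ∧
      (∀ [DecidableEq G], a = (Finset.univ.filter fun u : G => orderOf u = 3 ∧ xval χ u = 3).card ∧
      b = (Finset.univ.filter fun u : G => orderOf u = 3 ∧ xval χ u = 0).card ∧
      c = (Finset.univ.filter fun u : G => orderOf u = 3 ∧ xval χ u = -3).card) := by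
  classical
  set s := Finset.univ.filter fun u : G => orderOf u = 3 with hs
  have hf : ∀ q : ℤ → ℤ, ∑ u ∈ s, q (xval χ u) = q 3 * (s.filter fun u => xval χ u = 3).card +
      q 0 * (s.filter fun u => xval χ u = 0).card +
      q (-3) * (s.filter fun u => xval χ u = -3).card := by
    intro q
    rw [← Finset.sum_fiberwise_of_maps_to (t := ({3, 0, -3} : Finset ℤ)) (g := xval χ)
      (fun u hu => by
        simp only [Finset.mem_insert, Finset.mem_singleton]
        rcases (xval_spec H hχ (Finset.mem_filter.1 hu).2).2 with h | h | h <;> simp [h]),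
      Finset.sum_congr rfl (g := fun j => q j * (s.filter fun u => xval χ u = j).card) fun j _ => by
        rw [Finset.sum_congr rfl (g := fun _ => q j) fun u hu => by rw [(Finset.mem_filter.1 hu).2],
          Finset.sum_const, nsmul_eq_mul, mul_comm]]
    simp [add_assoc]
  refine ⟨(s.filter fun u => xval χ u = 3).card, (s.filter fun u => xval χ u = 0).card,
    (s.filter fun u => xval χ u = -3).card, ?_, ?_, ?_⟩
  · have h := hf fun v => v * (v - 1)
    have h' : ∑ u ∈ s, xval χ u * (xval χ u - 1) = 672 := by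
      apply Int.cast_injective (α := ℂ)
      rw [Int.cast_sum]
      refine Eq.trans (Finset.sum_congr rfl fun u hu => ?_) hχ.sum_three_sq
      rw [(xval_spec H hχ (Finset.mem_filter.1 hu).2).1]; push_cast; ring
    rw [h'] at h
    omega
  · have h := hf fun v => v - 1
    have h' : ∑ u ∈ s, (xval χ u - 1) = -896 := by
      apply Int.cast_injective (α := ℂ)
      rw [Int.cast_sum]
      refine Eq.trans (Finset.sum_congr rfl fun u hu => ?_) (hχ.sum_three.trans (by norm_num))
      rw [(xval_spec H hχ (Finset.mem_filter.1 hu).2).1]; push_cast; ring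
    rw [h'] at h
    omega
  · intro inst
    cases Subsingleton.elim inst (Classical.decEq G)
    simp [hs, Finset.filter_filter]

/-- The congruences inside a Sylow three-subgroup. -/
theorem sylow_arith (U : Sylow 3 G) [DecidableEq G] [DecidablePred (· ∈ (U : Subgroup G))] :
    let Uf := Finset.univ.filter fun g : G => g ∈ (U : Subgroup G) ∧ g ≠ 1
    Uf.card = 26 ∧
    (Uf.filter fun u => xval χ u = 3).card + (Uf.filter fun u => xval χ u = 0).card +
      (Uf.filter fun u => xval χ u = -3).card = 26 ∧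
    2 ∣ (Uf.filter fun u => xval χ u = 0).card ∧
    ((27 : ℤ) ∣ 6 + 3 * (Uf.filter fun u => xval χ u = 3).card -
      3 * (Uf.filter fun u => xval χ u = -3).card) ∧
    (0 ≤ 6 + 3 * ((Uf.filter fun u => xval χ u = 3).card : ℤ) -
      3 * (Uf.filter fun u => xval χ u = -3).card) ∧
    ((27 : ℤ) ∣ 36 + 9 * (Uf.filter fun u => xval χ u = 3).card +
      9 * (Uf.filter fun u => xval χ u = -3).card) := by
  intro Uf
  letI := Fintype.ofFinite ↥(U : Subgroup G)
  have hmem : ∀ u ∈ Uf, orderOf u = 3 := fun u hu =>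
    H.order_three (Finset.mem_filter.1 hu).2.1 (Finset.mem_filter.1 hu).2.2
  have hcard : Uf.card = 26 := by
    have h := sum_coe (U : Subgroup G) fun _ => (1 : ℂ)
    simp only [Finset.sum_const, nsmul_eq_mul, mul_one, Finset.card_univ,
      ← Nat.card_eq_fintype_card, H.card_sylow_three U] at h
    have : 27 = 1 + Uf.card := by exact_mod_cast h
    omega
  have hf : ∀ q : ℤ → ℤ, ∑ u ∈ Uf, q (xval χ u) = q 3 * (Uf.filter fun u => xval χ u = 3).card +
      q 0 * (Uf.filter fun u => xval χ u = 0).card +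
      q (-3) * (Uf.filter fun u => xval χ u = -3).card := by
    intro q
    rw [← Finset.sum_fiberwise_of_maps_to (t := ({3, 0, -3} : Finset ℤ)) (g := xval χ)
      (fun u hu => by
        simp only [Finset.mem_insert, Finset.mem_singleton]
        rcases (xval_spec H hχ (hmem u hu)).2 with h | h | h <;> simp [h]),
      Finset.sum_congr rfl (g := fun j => q j * (Uf.filter fun u => xval χ u = j).card) fun j _ => by
        rw [Finset.sum_congr rfl (g := fun _ => q j) fun u hu => by rw [(Finset.mem_filter.1 hu).2],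
          Finset.sum_const, nsmul_eq_mul, mul_comm]]
    simp [add_assoc]
  refine ⟨hcard, ?_, ?_, ?_, ?_, ?_⟩
  · have h := hf fun _ => 1
    simp only [Finset.sum_const, nsmul_eq_mul, mul_one, one_mul, hcard] at h
    omega
  · refine even_card_of_inv _ (fun u hu => ?_) fun u hu he => ?_
    · obtain ⟨hu, h0⟩ := Finset.mem_filter.1 hu
      obtain ⟨hU, h1⟩ := (Finset.mem_filter.1 hu).2
      exact Finset.mem_filter.2 ⟨Finset.mem_filter.2 ⟨Finset.mem_univ _, inv_mem hU, inv_ne_one.2 h1⟩,
        by rw [xval_inv H hχ (hmem u hu), h0]⟩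
    · have h3 := hmem u (Finset.mem_filter.1 hu).1
      have : u ^ 2 = 1 := by
        rw [sq]
        nth_rw 1 [← he]
        exact inv_mul_cancel u
      have := orderOf_dvd_of_pow_eq_one this
      rw [h3] at this
      norm_num at this
  all_goals
    obtain ⟨m, hm⟩ := sum_subgroup χ (U : Subgroup G)
    rw [sum_coe (U : Subgroup G) (χ : G → ℂ), hχ.deg,
      Finset.sum_congr rfl (g := fun u => (xval χ u : ℂ))
      (fun u hu => (xval_spec H hχ (hmem u hu)).1), ← Int.cast_sum,
      H.card_sylow_three U] at hm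
    have hm' : 6 + ∑ u ∈ Uf, xval χ u = 27 * (m : ℤ) := by exact_mod_cast hm
    have h := hf fun v => v
  · exact ⟨m, by omega⟩
  · omega
  · obtain ⟨k, hk⟩ := Characters.classInner_characters
      (Characters.isCharacter_restrict (U : Subgroup G) (Characters.isCharacter_of_isIrr χ.2))
      (Characters.isCharacter_restrict (U : Subgroup G) (Characters.isCharacter_of_isIrr χ.2))
    rw [Cfsg.classInner, inv_mul_eq_iff_eq_mul₀ (Nat.cast_ne_zero.2 Nat.card_pos.ne'),
      H.card_sylow_three U,
      sum_coe (U : Subgroup G) (fun g => (χ : G → ℂ) g * conj ((χ : G → ℂ) g)), hχ.deg,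
      Finset.sum_congr rfl (g := fun u => (((xval χ u) ^ 2 : ℤ) : ℂ))
      (fun u hu => by
        rw [(xval_spec H hχ (hmem u hu)).1, map_intCast]; push_cast; ring),
      ← Int.cast_sum, map_ofNat] at hk
    have hk' : 6 * 6 + ∑ u ∈ Uf, (xval χ u) ^ 2 = 27 * (k : ℤ) := by exact_mod_cast hk
    have h2 := hf fun v => v ^ 2
    exact ⟨k, by omega⟩

/-- The number of the elements with given value in conjugate Sylow subgroups. -/
theorem card_val_conj (U U' : Sylow 3 G) (j : ℤ) [DecidableEq G]
    [DecidablePred (· ∈ (U : Subgroup G))] [DecidablePred (· ∈ (U' : Subgroup G))] :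
    ((Finset.univ.filter fun g : G => g ∈ (U : Subgroup G) ∧ g ≠ 1).filter
      fun u => xval χ u = j).card ≤
    ((Finset.univ.filter fun g : G => g ∈ (U' : Subgroup G) ∧ g ≠ 1).filter
      fun u => xval χ u = j).card := by
  obtain ⟨c, hc⟩ := MulAction.exists_smul_eq G U U'
  refine Finset.card_le_card_of_injOn (fun u => c * u * c⁻¹) ?_ ?_
  · intro u hu
    simp only [Finset.coe_filter, Set.mem_ofPred_eq, Finset.mem_filter, Finset.mem_univ,
      true_and] at hu ⊢
    obtain ⟨⟨hU, h1⟩, hj⟩ := hu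
    refine ⟨⟨?_, fun h => h1 (conj_eq_one_iff.1 h)⟩, by rw [xval_conj H hχ (H.order_three hU h1), hj]⟩
    rw [← hc, Sylow.coe_subgroup_smul, Subgroup.mem_pointwise_smul_iff_inv_smul_mem]
    simpa [MulAut.smul_def, mul_assoc] using hU
  · intro u _ v _ h
    simpa using h

/-- The Sylow three-subgroups are not abelian. -/
theorem not_abelian (U : Sylow 3 G) : ∃ a ∈ (U : Subgroup G), ∃ b ∈ (U : Subgroup G),
    a * b ≠ b * a := by
  classical
  by_contra hcon
  push Not at hcon
  have hab : ∀ V : Sylow 3 G, ∀ a ∈ (V : Subgroup G), ∀ b ∈ (V : Subgroup G), a * b = b * a := by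
    intro V a ha b hb
    obtain ⟨c, hc⟩ := MulAction.exists_smul_eq G V U
    have key : ∀ x ∈ (V : Subgroup G), c * x * c⁻¹ ∈ (U : Subgroup G) := fun x hx => by
      rw [← hc, Sylow.coe_subgroup_smul, Subgroup.mem_pointwise_smul_iff_inv_smul_mem]
      simpa [MulAut.smul_def, mul_assoc] using hx
    have h := congrArg (fun x => c⁻¹ * x * c) (hcon _ (key a ha) _ (key b hb))
    simpa [mul_assoc] using h
  obtain ⟨a, b, c, e1, e2, hh⟩ := card_three_eqs H hχ
  obtain ⟨ha, hb, hc⟩ := hh
  have huniq : ∀ u : G, orderOf u = 3 → xval χ u = 0 → ∀ V W : Sylow 3 G,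
      u ∈ (V : Subgroup G) → u ∈ (W : Subgroup G) → V = W := by
    intro u hu h0 V W hV hW
    have hp : IsPGroup 3 (Subgroup.centralizer ({u} : Set G)) := H.isPGroup_three _
      (fun t ht ht2 => no_invol_commute H hχ hu h0 ht2
        (Subgroup.mem_centralizer_singleton_iff.1 ht).symm)
      (fun g hg hg7 => H.no_seven_commute hu hg7
        (Subgroup.mem_centralizer_singleton_iff.1 hg).symm)
    have e : ∀ X : Sylow 3 G, u ∈ (X : Subgroup G) →
        Subgroup.centralizer ({u} : Set G) = (X : Subgroup G) := fun X hX =>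
      X.is_maximal' hp fun g hg => Subgroup.mem_centralizer_singleton_iff.2 (hab X g hg u hX)
    exact Sylow.ext ((e V hV).symm.trans (e W hW))
  obtain ⟨hU26, hUsum, hUeven, hU27, hUpos, hUsq⟩ := sylow_arith H hχ U
  set Uf := Finset.univ.filter fun g : G => g ∈ (U : Subgroup G) ∧ g ≠ 1 with hUf
  have hle : ∀ j : ℤ, (Uf.filter fun u => xval χ u = j).card ≤
      (Finset.univ.filter fun u : G => orderOf u = 3 ∧ xval χ u = j).card := fun j =>
    Finset.card_le_card fun u hu => by
      obtain ⟨hu, hj⟩ := Finset.mem_filter.1 hu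
      obtain ⟨-, hU, h1⟩ := Finset.mem_filter.1 hu
      exact Finset.mem_filter.2 ⟨Finset.mem_univ _, H.order_three hU h1, hj⟩
  have ha' := hle 3
  have hc' := hle (-3)
  rw [← ha] at ha'
  rw [← hc] at hc'
  letI := Fintype.ofFinite (Sylow 3 G)
  have hbn : b = Nat.card (Sylow 3 G) * (Uf.filter fun u => xval χ u = 0).card := by
    rw [hb, Nat.card_eq_fintype_card, ← smul_eq_mul, ← Finset.card_univ (α := Sylow 3 G),
      ← Finset.sum_const, Finset.sum_congr rfl (g := fun V : Sylow 3 G =>
        ((Finset.univ.filter fun g : G => g ∈ (V : Subgroup G) ∧ g ≠ 1).filter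
          fun u => xval χ u = 0).card)
        (fun V _ => le_antisymm (card_val_conj H hχ U V 0) (card_val_conj H hχ V U 0)),
      ← Finset.card_biUnion]
    · congr 1
      ext u
      simp only [Finset.mem_filter, Finset.mem_univ, true_and, Finset.mem_biUnion]
      constructor
      · rintro ⟨hu, h0⟩
        obtain ⟨V, hV⟩ := H.exists_sylow_three hu
        exact ⟨V, ⟨hV, fun h => by rw [h, orderOf_one] at hu; omega⟩, h0⟩
      · rintro ⟨V, ⟨hV, h1⟩, h0⟩
        exact ⟨H.order_three hV h1, h0⟩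
    · intro V _ W _ hne
      refine Finset.disjoint_left.2 fun u hu hu' => hne ?_
      simp only [Finset.mem_filter, Finset.mem_univ, true_and] at hu hu'
      exact huniq u (H.order_three hu.1.1 hu.1.2) hu.2 V W hu.1.1 hu'.1.1
  have hn : Nat.card (Sylow 3 G) ∣ 224 := by
    have h := U.card_dvd_index
    have h2 := (U : Subgroup G).card_mul_index
    rw [H.card_sylow_three U, H.card] at h2
    rwa [show (U : Subgroup G).index = 224 by omega] at h
  have hn1 : Nat.card (Sylow 3 G) % 3 = 1 := card_sylow_modEq_one 3 G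
  have hn' : Nat.card (Sylow 3 G) ∈ [1, 4, 7, 16, 28, 112] := by
    have key : ∀ n ∈ List.range 225, 224 % n = 0 → n % 3 = 1 → n ∈ [1, 4, 7, 16, 28, 112] := by
      decide +kernel
    exact key _ (List.mem_range.2 (by have := Nat.le_of_dvd (by norm_num) hn; omega))
      (Nat.mod_eq_zero_of_dvd hn) hn1
  have hfin : (Uf.filter fun u => xval χ u = 3).card = 0 ∧
      (Uf.filter fun u => xval χ u = -3).card = 2 := by
    simp only [List.mem_cons, List.not_mem_nil, or_false] at hn'
    rcases hn' with h | h | h | h | h | h <;> rw [h] at hbn <;> omega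
  obtain ⟨w, hw⟩ := Finset.card_pos.1 (by omega : 0 < (Uf.filter fun u => xval χ u = -3).card)
  obtain ⟨hwU, hwv⟩ := Finset.mem_filter.1 hw
  obtain ⟨-, hwm, hw1⟩ := Finset.mem_filter.1 hwU
  have hw3 := H.order_three hwm hw1
  have hww : w⁻¹ ≠ w := fun e => by
    have : w ^ 2 = 1 := by
      rw [sq]
      nth_rw 1 [← e]
      exact inv_mul_cancel w
    have := orderOf_dvd_of_pow_eq_one this
    rw [hw3] at this
    norm_num at this
  have hset : Uf.filter (fun u => xval χ u = -3) = {w, w⁻¹} := by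
    refine (Finset.eq_of_subset_of_card_le ?_ (by rw [hfin.2, Finset.card_pair hww.symm])).symm
    intro u hu
    rcases Finset.mem_insert.1 hu with rfl | hu
    · exact hw
    · rw [Finset.mem_singleton.1 hu]
      exact Finset.mem_filter.2 ⟨Finset.mem_filter.2 ⟨Finset.mem_univ _, inv_mem hwm,
        inv_ne_one.2 hw1⟩, by rw [xval_inv H hχ hw3, hwv]⟩
  letI : CommGroup ↥(U : Subgroup G) :=
    { (inferInstance : Group ↥(U : Subgroup G)) with
      mul_comm := fun a b => Subtype.ext (hcon a a.2 b b.2) }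
  obtain ⟨φ, hφ⟩ := CommGroup.exists_apply_ne_one_of_hasEnoughRootsOfUnity ↥(U : Subgroup G) ℂ
    (a := ⟨w, hwm⟩) (fun h => hw1 (congrArg Subtype.val h))
  letI := Fintype.ofFinite ↥(U : Subgroup G)
  obtain ⟨m, hm⟩ := lin_mult χ (U : Subgroup G) φ
  let f : G → ℂ := fun g => if h : g ∈ (U : Subgroup G) then conj ((φ ⟨g, h⟩ : ℂˣ) : ℂ) else 0
  have e : ∑ h : ↥(U : Subgroup G), (χ : G → ℂ) h * conj (φ h : ℂ) =
      (6 : ℂ) + ∑ g ∈ Uf, (χ : G → ℂ) g * f g := by
    rw [Finset.sum_congr rfl (g := fun h : ↥(U : Subgroup G) => (χ : G → ℂ) h * f h)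
      fun h _ => by simp only [f, SetLike.coe_mem, dite_true, Subtype.coe_eta],
      sum_coe (U : Subgroup G) fun g => (χ : G → ℂ) g * f g]
    congr 1
    simp only [f, one_mem, dite_true, hχ.deg]
    rw [show (⟨1, one_mem _⟩ : ↥(U : Subgroup G)) = 1 from rfl, map_one, Units.val_one, map_one,
      mul_one]
  rw [e, ← Finset.sum_subset (Finset.filter_subset (fun u => xval χ u = -3) Uf) (fun u hu hu' => by
    have h3 := H.order_three (Finset.mem_filter.1 hu).2.1 (Finset.mem_filter.1 hu).2.2
    obtain ⟨hv, hv'⟩ := xval_spec H hχ h3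
    rcases hv' with h | h | h
    · exact absurd (Finset.mem_filter.2 ⟨hu, h⟩) hu'
    · rw [hv, h, Int.cast_zero, zero_mul]
    · exact absurd hfin.1 (Finset.card_pos.2 ⟨u, Finset.mem_filter.2 ⟨hu, h⟩⟩).ne'),
    hset, Finset.sum_pair hww.symm, apply_inv, (xval_spec H hχ hw3).1, hwv,
    H.card_sylow_three U] at hm
  simp only [f, dif_pos hwm, dif_pos (inv_mem hwm)] at hm
  rw [show (⟨w⁻¹, inv_mem hwm⟩ : ↥(U : Subgroup G)) = ⟨w, hwm⟩⁻¹ from rfl, map_inv, map_intCast] at hm
  set y : ℂ := ((φ ⟨w, hwm⟩ : ℂˣ) : ℂ) with hy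
  have hy3 : y ^ 3 = 1 := by
    rw [hy, ← Units.val_pow_eq_pow_val, ← map_pow,
      show (⟨w, hwm⟩ : ↥(U : Subgroup G)) ^ 3 = 1 from Subtype.ext (by
        show w ^ 3 = 1
        rw [← hw3, pow_orderOf_eq_one]), map_one, Units.val_one]
  have hy0 : y ≠ 0 := Units.ne_zero _
  have hyinv : ((φ ⟨w, hwm⟩)⁻¹ : ℂˣ) = (y⁻¹ : ℂ) := Units.val_inv_eq_inv_val _
  rw [hyinv] at hm
  have hy1 : y - 1 ≠ 0 := sub_ne_zero.2 fun h => hφ (Units.ext (by rw [Units.val_one]; exact h))
  have hs : y ^ 2 + y + 1 = 0 := by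
    refine (mul_eq_zero.1 ?_).resolve_left hy1
    linear_combination hy3
  have hsum : y + y⁻¹ = -1 := by
    field_simp
    linear_combination hs
  have hconj : conj y + conj y⁻¹ = -1 := by rw [← map_add, hsum, map_neg, map_one]
  have h9 : (9 : ℂ) = 27 * (m : ℂ) := by
    push_cast at hm
    linear_combination hm + 3 * hconj
  have : 9 = 27 * m := by exact_mod_cast h9
  omega

/-- The center of a Sylow three-subgroup. -/
theorem exists_central (U : Sylow 3 G) :
    ∃ z ∈ (U : Subgroup G), z ≠ 1 ∧ ∀ v ∈ (U : Subgroup G), v * z = z * v := by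
  obtain ⟨k, hk, hc⟩ := IsPGroup.card_center_eq_prime_pow (p := 3)
    (show Nat.card (U : Subgroup G) = 3 ^ 3 by rw [H.card_sylow_three U]; norm_num) (by norm_num)
  haveI : Nontrivial (Subgroup.center (U : Subgroup G)) :=
    Finite.one_lt_card_iff_nontrivial.1 (by rw [hc]; exact Nat.one_lt_pow hk.ne' (by norm_num))
  obtain ⟨⟨⟨z, hz⟩, hzc⟩, hne⟩ := exists_ne (1 : Subgroup.center (U : Subgroup G))
  exact ⟨z, hz, fun h => hne (Subtype.ext (Subtype.ext h)), fun v hv =>
    congrArg Subtype.val (Subgroup.mem_center_iff.1 hzc ⟨v, hv⟩)⟩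

/-- The structure of a Sylow three-subgroup. -/
theorem of_central {U : Sylow 3 G} {z : G} (hz : z ∈ (U : Subgroup G)) (hz1 : z ≠ 1)
    (hzc : ∀ v ∈ (U : Subgroup G), v * z = z * v) :
    (∀ u ∈ (U : Subgroup G), (∀ v ∈ (U : Subgroup G), v * u = u * v) → u ∈ Subgroup.zpowers z) ∧
    (∀ u ∈ (U : Subgroup G), ∀ v ∈ (U : Subgroup G), ∃ w ∈ Subgroup.zpowers z,
      v * u * v⁻¹ = u * w) := by
  classical
  set Z := Subgroup.center (U : Subgroup G) with hZ
  have hU := H.card_sylow_three U
  obtain ⟨k, hk, hc⟩ := IsPGroup.card_center_eq_prime_pow (p := 3)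
    (show Nat.card (U : Subgroup G) = 3 ^ 3 by rw [hU]; norm_num) (by norm_num)
  obtain ⟨a, ha, b, hb, hab⟩ := not_abelian H hχ U
  have hk1 : k = 1 := by
    by_contra hne
    have hdvd : (Nat.card ((U : Subgroup G) ⧸ Z)) ∣ 3 := by
      have h := Z.card_mul_index
      rw [hc, hU] at h
      rw [show Nat.card ((U : Subgroup G) ⧸ Z) = Z.index from rfl]
      refine Nat.dvd_of_mul_dvd_mul_left (show 0 < 9 by norm_num) ?_
      rw [show 9 * 3 = 3 ^ k * Z.index by rw [h]]
      exact Nat.mul_dvd_mul_right (show 3 ^ 2 ∣ 3 ^ k from pow_dvd_pow 3 (by omega)) _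
    haveI := isCyclic_of_card_dvd_prime hdvd
    exact hab (congrArg Subtype.val
      ((isMulCommutative_of_isCyclic_quotient_center_self ↥(U : Subgroup G)).is_comm.comm
        ⟨a, ha⟩ ⟨b, hb⟩))
  rw [hk1, pow_one] at hc
  have hzZ : (⟨z, hz⟩ : (U : Subgroup G)) ∈ Z :=
    Subgroup.mem_center_iff.2 fun v => Subtype.ext (hzc v v.2)
  have heq : Subgroup.zpowers (⟨z, hz⟩ : (U : Subgroup G)) = Z := by
    refine Subgroup.eq_of_le_of_card_ge (Subgroup.zpowers_le.2 hzZ) ?_
    rw [hc, Nat.card_zpowers, Subgroup.orderOf_mk, H.order_three hz hz1]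
  have hin : ∀ u : (U : Subgroup G), u ∈ Z → (u : G) ∈ Subgroup.zpowers z := by
    intro u hu
    rw [← heq] at hu
    obtain ⟨j, rfl⟩ := hu
    exact ⟨j, rfl⟩
  refine ⟨fun u hu hall => hin ⟨u, hu⟩
    (Subgroup.mem_center_iff.2 fun v => Subtype.ext (hall v v.2)), fun u hu v hv => ?_⟩
  haveI : Fact (Nat.card ((U : Subgroup G) ⧸ Z) = 3 ^ 2) := ⟨by
    have h := Z.card_mul_index
    rw [hc, hU] at h
    rw [show Nat.card ((U : Subgroup G) ⧸ Z) = Z.index from rfl]
    omega⟩
  have hcomm := (IsPGroup.isMulCommutative_of_card_eq_prime_sq (p := 3)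
    (Fact.out : Nat.card ((U : Subgroup G) ⧸ Z) = 3 ^ 2)).is_comm.comm
  have hw : (⟨u, hu⟩ : (U : Subgroup G))⁻¹ * (⟨v, hv⟩ * ⟨u, hu⟩ * ⟨v, hv⟩⁻¹) ∈ Z := by
    rw [← QuotientGroup.eq_one_iff, QuotientGroup.mk_mul, QuotientGroup.mk_mul,
      QuotientGroup.mk_mul, QuotientGroup.mk_inv, QuotientGroup.mk_inv,
      hcomm (QuotientGroup.mk (⟨v, hv⟩ : (U : Subgroup G))) _, mul_inv_cancel_right,
      inv_mul_cancel]
  refine ⟨_, hin _ hw, ?_⟩
  show v * u * v⁻¹ = u * (u⁻¹ * (v * u * v⁻¹))
  group

/-- A noncentral element is conjugate to its translates by the center. -/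
theorem val_translate {U : Sylow 3 G} {z : G} (hz : z ∈ (U : Subgroup G)) (hz1 : z ≠ 1)
    (hzc : ∀ v ∈ (U : Subgroup G), v * z = z * v) {u : G} (hu : u ∈ (U : Subgroup G))
    (hnot : u ∉ Subgroup.zpowers z) {w : G} (hw : w ∈ Subgroup.zpowers z) :
    (χ : G → ℂ) (u * w) = (χ : G → ℂ) u := by
  obtain ⟨h1, h2⟩ := of_central H hχ hz hz1 hzc
  obtain ⟨v, hv, hne⟩ : ∃ v ∈ (U : Subgroup G), v * u ≠ u * v := by
    by_contra hcon
    push Not at hcon
    exact hnot (h1 u hu hcon)
  obtain ⟨w₀, hw₀, he⟩ := h2 u hu v hv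
  have hw₀1 : w₀ ≠ 1 := fun h => hne (by
    rw [h, mul_one] at he
    exact mul_inv_eq_iff_eq_mul.1 he)
  have hw₀U : w₀ ∈ (U : Subgroup G) := Subgroup.zpowers_le.2 hz hw₀
  have heq : Subgroup.zpowers w₀ = Subgroup.zpowers z := by
    refine Subgroup.eq_of_le_of_card_ge (Subgroup.zpowers_le.2 hw₀) ?_
    rw [Nat.card_zpowers, Nat.card_zpowers, H.order_three hz hz1, H.order_three hw₀U hw₀1]
  have hcv : Commute v w₀ := by
    obtain ⟨j, rfl⟩ := hw₀
    exact (show Commute v z from hzc v hv).zpow_right j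
  have hpow : ∀ n : ℕ, v ^ n * u * (v ^ n)⁻¹ = u * w₀ ^ n := by
    intro n
    induction n with
    | zero => simp
    | succ n ih =>
      calc v ^ (n + 1) * u * (v ^ (n + 1))⁻¹ = v * (v ^ n * u * (v ^ n)⁻¹) * v⁻¹ := by
            rw [pow_succ']; group
        _ = v * u * v⁻¹ * (v * w₀ ^ n * v⁻¹) := by rw [ih]; group
        _ = u * w₀ ^ (n + 1) := by
            rw [he, (hcv.pow_right n).eq, mul_inv_cancel_right, pow_succ', mul_assoc]
  rw [← heq, ← mem_powers_iff_mem_zpowers, Submonoid.mem_powers_iff] at hw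
  obtain ⟨n, rfl⟩ := hw
  rw [← hpow n, apply_conj]

/-- The values on a Sylow three-subgroup. -/
theorem val_central {U : Sylow 3 G} {z : G} (hz : z ∈ (U : Subgroup G)) (hz1 : z ≠ 1)
    (hzc : ∀ v ∈ (U : Subgroup G), v * z = z * v) : xval χ z = -3 := by
  classical
  have hz3 := H.order_three hz hz1
  obtain ⟨-, -, -, h27, -, -⟩ := sylow_arith H hχ U
  set Uf := Finset.univ.filter fun g : G => g ∈ (U : Subgroup G) ∧ g ≠ 1 with hUf
  set Z := Subgroup.zpowers z
  have hZU : Z ≤ (U : Subgroup G) := Subgroup.zpowers_le.2 hz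
  have hZ : ∀ u ∈ Z, u ≠ 1 → xval χ u = xval χ z := by
    intro u hu hu1
    rw [← mem_powers_iff_mem_zpowers, Submonoid.mem_powers_iff] at hu
    obtain ⟨n, rfl⟩ := hu
    rw [← pow_mod_orderOf, hz3] at hu1 ⊢
    have hlt : n % 3 < 3 := Nat.mod_lt _ (by norm_num)
    interval_cases h : n % 3
    · simp at hu1
    · rw [pow_one]
    · rw [show z ^ 2 = z⁻¹ from eq_inv_of_mul_eq_one_left
        (by rw [← pow_succ, show 2 + 1 = orderOf z by rw [hz3], pow_orderOf_eq_one]),
        xval_inv H hχ hz3]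
  have hsplit : ∀ j : ℤ, (Uf.filter fun u => xval χ u = j).card =
      (if xval χ z = j then 2 else 0) +
        (Uf.filter fun u => u ∉ Z ∧ xval χ u = j).card := by
    intro j
    rw [← Finset.card_filter_add_card_filter_not (s := Uf.filter fun u => xval χ u = j) (· ∈ Z),
      Finset.filter_filter, Finset.filter_filter]
    congr 1
    · split_ifs with h
      · rw [show (Finset.univ.filter fun u : G =>
          (u ∈ (U : Subgroup G) ∧ u ≠ 1) ∧ xval χ u = j ∧ u ∈ Z) = {z, z⁻¹} by
          ext u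
          simp only [Finset.mem_filter, Finset.mem_univ, true_and, Finset.mem_insert,
            Finset.mem_singleton]
          constructor
          · rintro ⟨⟨-, hu1⟩, -, hu⟩
            rw [← mem_powers_iff_mem_zpowers, Submonoid.mem_powers_iff] at hu
            obtain ⟨n, rfl⟩ := hu
            rw [← pow_mod_orderOf, hz3] at hu1 ⊢
            have hlt : n % 3 < 3 := Nat.mod_lt _ (by norm_num)
            interval_cases h : n % 3
            · simp at hu1
            · left; rw [pow_one]
            · right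
              exact eq_inv_of_mul_eq_one_left
                (by rw [← pow_succ, show 2 + 1 = orderOf z by rw [hz3], pow_orderOf_eq_one])
          · rintro (rfl | rfl)
            · exact ⟨⟨hz, hz1⟩, h, Subgroup.mem_zpowers u⟩
            · exact ⟨⟨inv_mem hz, inv_ne_one.2 hz1⟩, by rw [xval_inv H hχ hz3, h],
                inv_mem (Subgroup.mem_zpowers z)⟩]
        refine Finset.card_pair fun e => ?_
        have : z ^ 2 = 1 := by
          rw [sq]
          nth_rw 1 [e]
          exact inv_mul_cancel z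
        have := orderOf_dvd_of_pow_eq_one this
        rw [hz3] at this
        norm_num at this
      · refine Finset.card_eq_zero.2 (Finset.filter_eq_empty_iff.2 fun u hu hh => h ?_)
        rw [← hZ u hh.2.2 hh.1.2]; exact hh.2.1
    · congr 1
      ext u
      simp
      tauto
  have hdvd : ∀ j : ℤ, 3 ∣ (Uf.filter fun u => u ∉ Z ∧ xval χ u = j).card := by
    intro j
    have h := card_dvd_of_stable Z (Uf.filter fun u => u ∉ Z ∧ xval χ u = j) ?_
    · rwa [Nat.card_zpowers, hz3] at h
    intro u hu w hw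
    simp only [hUf, Finset.mem_filter, Finset.mem_univ, true_and] at hu ⊢
    obtain ⟨⟨huU, hu1⟩, hnot, hj⟩ := hu
    have hnot' : u * w ∉ Z := fun h => hnot (by simpa using mul_mem h (inv_mem hw))
    have h1' : u * w ≠ 1 := fun h => hnot' (h ▸ one_mem Z)
    have hwU : u * w ∈ (U : Subgroup G) := mul_mem huU (hZU hw)
    refine ⟨⟨hwU, h1'⟩, hnot', ?_⟩
    have h := val_translate H hχ hz hz1 hzc huU hnot hw
    rw [(xval_spec H hχ (H.order_three hwU h1')).1, (xval_spec H hχ (H.order_three huU hu1)).1] at h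
    rw [← hj]
    exact_mod_cast h
  have d1 := hdvd 3
  have d2 := hdvd (-3)
  rw [hsplit 3, hsplit (-3)] at h27
  rcases (xval_spec H hχ hz3).2 with h | h | h
  · exact h
  · rw [h] at h27
    simp only [show (0 : ℤ) ≠ 3 by norm_num, show (0 : ℤ) ≠ -3 by norm_num, if_false] at h27
    omega
  · rw [h] at h27
    simp only [show (3 : ℤ) ≠ -3 by norm_num, if_false, if_true] at h27
    omega

theorem val_noncentral {U : Sylow 3 G} {z : G} (hz : z ∈ (U : Subgroup G)) (hz1 : z ≠ 1)
    (hzc : ∀ v ∈ (U : Subgroup G), v * z = z * v) {u : G} (hu : u ∈ (U : Subgroup G))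
    (hnot : u ∉ Subgroup.zpowers z) : xval χ u = 0 := by
  classical
  have hz3 := H.order_three hz hz1
  set A := Subgroup.zpowers z with hA
  letI := Fintype.ofFinite ↥A
  have hsum : ∑ a : ↥A, (χ : G → ℂ) a = 0 := by
    have h := sum_coe A fun g => (χ : G → ℂ) g
    rw [h, Finset.sum_congr rfl (g := fun _ => (-3 : ℂ)) fun g hg => ?_, Finset.sum_const,
      nsmul_eq_mul, hχ.deg]
    · have hcard : (Finset.univ.filter fun g : G => g ∈ A ∧ g ≠ 1).card = 2 := by
        have h1 := sum_coe A fun _ => (1 : ℂ)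
        simp only [Finset.sum_const, nsmul_eq_mul, mul_one, Finset.card_univ,
          ← Nat.card_eq_fintype_card] at h1
        rw [show Nat.card A = 3 by rw [hA, Nat.card_zpowers, hz3]] at h1
        have : 3 = 1 + (Finset.univ.filter fun g : G => g ∈ A ∧ g ≠ 1).card := by exact_mod_cast h1
        omega
      rw [hcard]; norm_num
    · obtain ⟨-, hg, hg1⟩ := Finset.mem_filter.1 hg
      have hgU : g ∈ (U : Subgroup G) := Subgroup.zpowers_le.2 hz hg
      have hgc : ∀ v ∈ (U : Subgroup G), v * g = g * v := fun v hv => by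
        obtain ⟨j, rfl⟩ := hg
        exact (show Commute v z from hzc v hv).zpow_right j
      rw [(xval_spec H hχ (H.order_three hgU hg1)).1, val_central H hχ hgU hg1 hgc]
      norm_num
  have h := sum_coset_eq_zero χ A hsum u
  rw [Finset.sum_congr rfl (g := fun _ => (χ : G → ℂ) u) fun a _ =>
    val_translate H hχ hz hz1 hzc hu hnot a.2, Finset.sum_const, Finset.card_univ,
    ← Nat.card_eq_fintype_card, Nat.card_zpowers, hz3, nsmul_eq_mul, mul_eq_zero] at h
  have hu1 : u ≠ 1 := fun e => hnot (e ▸ one_mem A)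
  have h0 := h.resolve_left (by norm_num)
  rw [(xval_spec H hχ (H.order_three hu hu1)).1] at h0
  exact_mod_cast h0

/-- The elements of value minus three are central. -/
theorem central_of_val {U : Sylow 3 G} {u : G} (hu : u ∈ (U : Subgroup G))
    (h3 : xval χ u = -3) : ∀ v ∈ (U : Subgroup G), v * u = u * v := by
  obtain ⟨z, hz, hz1, hzc⟩ := exists_central H hχ U
  by_cases hnot : u ∈ Subgroup.zpowers z
  · intro v hv
    obtain ⟨j, rfl⟩ := hnot
    exact (show Commute v z from hzc v hv).zpow_right j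
  · exact absurd ((val_noncentral H hχ hz hz1 hzc hu hnot).symm.trans h3) (by norm_num)

theorem val_ne_three {u : G} (hu : orderOf u = 3) : xval χ u ≠ 3 := by
  obtain ⟨U, hU⟩ := H.exists_sylow_three hu
  obtain ⟨z, hz, hz1, hzc⟩ := exists_central H hχ U
  by_cases hnot : u ∈ Subgroup.zpowers z
  · rw [val_central H hχ hU (fun h => by rw [h, orderOf_one] at hu; omega) fun v hv => by
      obtain ⟨j, rfl⟩ := hnot
      exact (show Commute v z from hzc v hv).zpow_right j]
    norm_num
  · rw [val_noncentral H hχ hz hz1 hzc hU hnot]; norm_num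

theorem card_central_set [DecidableEq G] :
    (Finset.univ.filter fun u : G => orderOf u = 3 ∧ xval χ u = -3).card = 56 := by
  obtain ⟨a, b, c, e1, e2, hh⟩ := card_three_eqs H hχ
  obtain ⟨ha, hb, hc⟩ := @hh _
  have ha0 : a = 0 := by
    rw [ha]
    exact Finset.card_eq_zero.2 (Finset.filter_eq_empty_iff.2
      fun u _ h => val_ne_three H hχ h.1 h.2)
  omega

/-- The centralizer of a central element is small. -/
theorem card_centralizer_le {U : Sylow 3 G} {z : G} (hz : z ∈ (U : Subgroup G)) (hz1 : z ≠ 1)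
    (hzc : ∀ v ∈ (U : Subgroup G), v * z = z * v) :
    Nat.card (Subgroup.centralizer ({z} : Set G)) ≤ 216 := by
  classical
  set C := Subgroup.centralizer ({z} : Set G) with hC
  letI := Fintype.ofFinite (G ⧸ C)
  let f : G ⧸ C → G := fun q => q.out * z * q.out⁻¹
  have hf : ∀ g : G, g * z * g⁻¹ = f g := by
    intro g
    have h := QuotientGroup.eq.1 (Quotient.out_eq (g : G ⧸ C))
    set o := (g : G ⧸ C).out
    have hc : o⁻¹ * g * z = z * (o⁻¹ * g) := Subgroup.mem_centralizer_singleton_iff.1 h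
    show g * z * g⁻¹ = o * z * o⁻¹
    calc g * z * g⁻¹ = o * (o⁻¹ * g * z) * g⁻¹ := by group
      _ = o * (z * (o⁻¹ * g)) * g⁻¹ := by rw [hc]
      _ = o * z * o⁻¹ := by group
  have hsub : (Finset.univ.filter fun u : G => orderOf u = 3 ∧ xval χ u = -3) ⊆
      Finset.univ.image f ∪ Finset.univ.image (fun q => (f q)⁻¹) := by
    intro u hu
    obtain ⟨-, hu3, huv⟩ := Finset.mem_filter.1 hu
    obtain ⟨V, hV⟩ := H.exists_sylow_three hu3
    obtain ⟨c, hc⟩ := MulAction.exists_smul_eq G U V
    have hback : ∀ x : G, x ∈ (V : Subgroup G) → c⁻¹ * x * c ∈ (U : Subgroup G) := fun x hx => by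
      rw [← hc, Sylow.coe_subgroup_smul, Subgroup.mem_pointwise_smul_iff_inv_smul_mem] at hx
      simpa [MulAut.smul_def, mul_assoc] using hx
    have hfwd : ∀ x : G, x ∈ (U : Subgroup G) → c * x * c⁻¹ ∈ (V : Subgroup G) := fun x hx => by
      rw [← hc, Sylow.coe_subgroup_smul, Subgroup.mem_pointwise_smul_iff_inv_smul_mem]
      simpa [MulAut.smul_def, mul_assoc] using hx
    have hu' : c⁻¹ * u * c ∈ Subgroup.zpowers z := by
      refine (of_central H hχ hz hz1 hzc).1 _ (hback u hV) fun v hv => ?_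
      have h := central_of_val H hχ hV huv _ (hfwd v hv)
      calc v * (c⁻¹ * u * c) = c⁻¹ * (c * v * c⁻¹ * u) * c := by group
        _ = c⁻¹ * (u * (c * v * c⁻¹)) * c := by rw [h]
        _ = c⁻¹ * u * c * v := by group
    rw [← mem_powers_iff_mem_zpowers, Submonoid.mem_powers_iff] at hu'
    obtain ⟨n, hn⟩ := hu'
    have hz3 := H.order_three hz hz1
    rw [← pow_mod_orderOf, hz3] at hn
    have hlt : n % 3 < 3 := Nat.mod_lt _ (by norm_num)
    have heq : u = c * (c⁻¹ * u * c) * c⁻¹ := by group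
    rw [Finset.mem_union, Finset.mem_image, Finset.mem_image]
    interval_cases h : n % 3
    · rw [← hn, pow_zero, mul_one, mul_inv_cancel] at heq
      rw [heq, orderOf_one] at hu3
      omega
    · exact Or.inl ⟨(c : G ⧸ C), Finset.mem_univ _, by rw [← hf, heq, ← hn, pow_one]⟩
    · refine Or.inr ⟨(c : G ⧸ C), Finset.mem_univ _, ?_⟩
      rw [← hf, heq, ← hn, show z ^ 2 = z⁻¹ from eq_inv_of_mul_eq_one_left
        (by rw [← pow_succ, show 2 + 1 = orderOf z by rw [hz3], pow_orderOf_eq_one])]
      group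
  have h56 := Finset.card_le_card hsub
  rw [card_central_set H hχ] at h56
  have h28 : 28 ≤ C.index := by
    have hu := Finset.card_union_le (Finset.univ.image f) (Finset.univ.image fun q => (f q)⁻¹)
    have h1 : (Finset.univ.image f).card ≤ Fintype.card (G ⧸ C) := Finset.card_image_le
    have h2 : (Finset.univ.image fun q => (f q)⁻¹).card ≤ Fintype.card (G ⧸ C) := Finset.card_image_le
    rw [Subgroup.index, Nat.card_eq_fintype_card]
    omega
  have hmul := C.card_mul_index
  rw [H.card] at hmul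
  by_contra hgt
  have : 217 * 28 ≤ Nat.card C * C.index := Nat.mul_le_mul (by omega) h28
  omega

/-- A nontrivial element is central in at most one Sylow three-subgroup. -/
theorem eq_of_central {U U' : Sylow 3 G} {z : G} (hz : z ∈ (U : Subgroup G))
    (hz' : z ∈ (U' : Subgroup G)) (hz1 : z ≠ 1)
    (hzc : ∀ v ∈ (U : Subgroup G), v * z = z * v)
    (hzc' : ∀ v ∈ (U' : Subgroup G), v * z = z * v) : U = U' := by
  classical
  set C := Subgroup.centralizer ({z} : Set G) with hC
  have hUC : (U : Subgroup G) ≤ C := fun g hg => Subgroup.mem_centralizer_singleton_iff.2 (hzc g hg)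
  have hUC' : (U' : Subgroup G) ≤ C :=
    fun g hg => Subgroup.mem_centralizer_singleton_iff.2 (hzc' g hg)
  obtain ⟨u, huU, huU', hnot⟩ : ∃ u : G, u ∈ (U : Subgroup G) ∧ u ∈ (U' : Subgroup G) ∧
      u ∉ Subgroup.zpowers z := by
    by_contra hcon
    push Not at hcon
    have hD : (U' : Subgroup G) ⊓ (U : Subgroup G) ≤ Subgroup.zpowers z :=
      fun g hg => hcon g hg.2 hg.1
    have hDcard := Nat.le_of_dvd Nat.card_pos (Subgroup.card_dvd_of_le hD)
    rw [Nat.card_zpowers, H.order_three hz hz1] at hDcard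
    have hrel : ∀ A B : Subgroup G, A ≤ B → A.relIndex B * Nat.card A = Nat.card B := by
      intro A B hAB
      rw [mul_comm, Subgroup.relIndex, ← Nat.card_congr (Subgroup.subgroupOfEquivOfLe hAB).toEquiv]
      exact Subgroup.card_mul_index _
    have h1 := hrel _ _ (inf_le_right : (U' : Subgroup G) ⊓ (U : Subgroup G) ≤ _)
    rw [Subgroup.inf_relIndex_right, H.card_sylow_three U] at h1
    have h2 := hrel _ _ hUC'
    rw [H.card_sylow_three U'] at h2
    have h3 : (U' : Subgroup G).relIndex U ≤ (U' : Subgroup G).relIndex C :=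
      Subgroup.relIndex_le_of_le_right hUC (fun h => by
        rw [h, zero_mul] at h2
        exact Nat.card_pos.ne' h2.symm)
    have h4 := card_centralizer_le H hχ hz hz1 hzc
    rw [← hC] at h4
    have h5 : (U' : Subgroup G).relIndex U * Nat.card ↥((U' : Subgroup G) ⊓ (U : Subgroup G)) ≤ 8 * 3 :=
      Nat.mul_le_mul (by omega) hDcard
    omega
  have h0 := val_noncentral H hχ hz hz1 hzc huU hnot
  have hu1 : u ≠ 1 := fun e => hnot (e ▸ one_mem _)
  let P₀ : Subgroup G :=
    { carrier := {g | g * z = z * g ∧ ∃ w ∈ Subgroup.zpowers z, g * u * g⁻¹ = u * w}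
      one_mem' := ⟨by simp, 1, one_mem _, by simp⟩
      mul_mem' := by
        rintro g h ⟨hg, w, hw, hgu⟩ ⟨hh, w', hw', hhu⟩
        refine ⟨by rw [mul_assoc, hh, ← mul_assoc, hg, mul_assoc], w * w', mul_mem hw hw', ?_⟩
        obtain ⟨j, rfl⟩ := hw'
        have hc : g * z ^ j = z ^ j * g := ((show Commute g z from hg).zpow_right j).eq
        calc g * h * u * (g * h)⁻¹ = g * (h * u * h⁻¹) * g⁻¹ := by group
          _ = g * u * g⁻¹ * (g * z ^ j * g⁻¹) := by rw [hhu]; group
          _ = u * (w * z ^ j) := by rw [hgu, hc]; group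
      inv_mem' := by
        rintro g ⟨hg, w, hw, hgu⟩
        refine ⟨((show Commute g z from hg).inv_left).eq, w⁻¹, inv_mem hw, ?_⟩
        obtain ⟨j, rfl⟩ := hw
        have hc : g⁻¹ * (z ^ j)⁻¹ = (z ^ j)⁻¹ * g⁻¹ :=
          (((show Commute g z from hg).zpow_right j).inv_inv).eq
        calc g⁻¹ * u * g⁻¹⁻¹ = g⁻¹ * (g * u * g⁻¹ * (z ^ j)⁻¹) * g := by rw [hgu]; group
          _ = g⁻¹ * g * u * (g⁻¹ * (z ^ j)⁻¹) * g := by group
          _ = u * (z ^ j)⁻¹ := by rw [hc]; group }
  have hle : ∀ V : Sylow 3 G, z ∈ (V : Subgroup G) → (∀ v ∈ (V : Subgroup G), v * z = z * v) →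
      u ∈ (V : Subgroup G) → (V : Subgroup G) ≤ P₀ := fun V hV hVc huV g hg =>
    ⟨hVc g hg, (of_central H hχ hV hz1 hVc).2 u huV g hg⟩
  have hp : IsPGroup 3 P₀ := by
    refine H.isPGroup_three _ (fun t ht ht2 => ?_) (fun g hg hg7 => ?_)
    · obtain ⟨htz, w, hw, htu⟩ := ht
      have htt : t * t = 1 := by rw [← sq, ← ht2, pow_orderOf_eq_one]
      have hwc : t * w = w * t := by
        obtain ⟨j, rfl⟩ := hw
        exact ((show Commute t z from htz).zpow_right j).eq
      have hinv := inv_eq_of_mul_eq_one_right htt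
      rw [hinv] at htu
      have hww : u * (w * w) = u := by
        calc u * (w * w) = t * u * t * w := by rw [htu, mul_assoc]
          _ = t * (u * w) * t := by rw [mul_assoc _ t w, hwc]; group
          _ = t * (t * u * t) * t := by rw [htu]
          _ = (t * t) * u * (t * t) := by group
          _ = u := by rw [htt, one_mul, mul_one]
      have hw2 : w ^ 2 = 1 := by
        rw [sq]; exact mul_eq_left.1 hww
      have hw1 : w = 1 := by
        by_contra hne
        have := orderOf_dvd_of_pow_eq_one hw2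
        rw [H.order_three (Subgroup.zpowers_le.2 hz hw) hne] at this
        norm_num at this
      rw [hw1, mul_one] at htu
      refine no_invol_commute H hχ (H.order_three huU hu1) h0 ht2 ?_
      show u * t = t * u
      nth_rw 1 [← htu]
      rw [mul_assoc, htt, mul_one]
    · exact H.no_seven_commute (H.order_three hz hz1) hg7 hg.1.symm
  exact Sylow.ext ((U.is_maximal' hp (hle U hz hzc huU)).symm.trans
    (U'.is_maximal' hp (hle U' hz' hzc' huU')))

/-- Distinct Sylow three-subgroups meet trivially. -/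
theorem ti {U U' : Sylow 3 G} {x : G} (hx : x ∈ (U : Subgroup G)) (hx' : x ∈ (U' : Subgroup G))
    (hx1 : x ≠ 1) : U = U' := by
  classical
  have hx3 := H.order_three hx hx1
  rcases (xval_spec H hχ hx3).2 with h | h | h
  · exact eq_of_central H hχ hx hx' hx1 (central_of_val H hχ hx h) (central_of_val H hχ hx' h)
  · obtain ⟨z, hz, hz1, hzc⟩ := exists_central H hχ U
    obtain ⟨z', hz', hz1', hzc'⟩ := exists_central H hχ U'
    set C := Subgroup.centralizer ({x} : Set G) with hC
    have hp : IsPGroup 3 C := H.isPGroup_three _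
      (fun t ht ht2 => no_invol_commute H hχ hx3 h ht2
        (Subgroup.mem_centralizer_singleton_iff.1 ht).symm)
      (fun g hg hg7 => H.no_seven_commute hx3 hg7
        (Subgroup.mem_centralizer_singleton_iff.1 hg).symm)
    obtain ⟨V, hV⟩ := hp.exists_le_sylow
    set A := Subgroup.zpowers x ⊔ Subgroup.zpowers z with hA
    have hxC : x ∈ C := Subgroup.mem_centralizer_singleton_iff.2 rfl
    have hzC : z ∈ C := Subgroup.mem_centralizer_singleton_iff.2 (hzc x hx).symm
    have hAC : A ≤ C := sup_le (Subgroup.zpowers_le.2 hxC) (Subgroup.zpowers_le.2 hzC)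
    have hAU : A ≤ (U : Subgroup G) := sup_le (Subgroup.zpowers_le.2 hx) (Subgroup.zpowers_le.2 hz)
    have hCne : C ≠ (V : Subgroup G) := by
      intro e
      have hxV : x ∈ (V : Subgroup G) := e ▸ hxC
      have hcen : ∀ v ∈ (V : Subgroup G), v * x = x * v := fun v hv => by
        rw [← e] at hv
        exact Subgroup.mem_centralizer_singleton_iff.1 hv
      exact absurd (h.symm.trans (val_central H hχ hxV hx1 hcen)) (by norm_num)
    have hzA : z ∈ A := (le_sup_right : Subgroup.zpowers z ≤ A) (Subgroup.mem_zpowers z)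
    have hAcard : 9 ≤ Nat.card A := by
      have hd : Nat.card A ∣ 27 := H.card_sylow_three U ▸ Subgroup.card_dvd_of_le hAU
      have h3 : 3 < Nat.card A := by
        by_contra hle
        have e : Subgroup.zpowers z = A :=
          Subgroup.eq_of_le_of_card_ge le_sup_right (by
            rw [Nat.card_zpowers, H.order_three hz hz1]; omega)
        have hxz : x ∈ Subgroup.zpowers z := by
          rw [e]; exact (le_sup_left : Subgroup.zpowers x ≤ A) (Subgroup.mem_zpowers x)
        have hcen : ∀ v ∈ (U : Subgroup G), v * x = x * v := fun v hv => by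
          obtain ⟨j, rfl⟩ := hxz
          exact (show Commute v z from hzc v hv).zpow_right j
        exact absurd (h.symm.trans (val_central H hχ hx hx1 hcen)) (by norm_num)
      have key : ∀ d ∈ List.range 28, 27 % d = 0 → 3 < d → 9 ≤ d := by decide +kernel
      exact key _ (List.mem_range.2 (by have := Nat.le_of_dvd (by norm_num) hd; omega))
        (Nat.mod_eq_zero_of_dvd hd) h3
    have hCcard : Nat.card C ≤ 9 := by
      have hd : Nat.card C ∣ 27 := H.card_sylow_three V ▸ Subgroup.card_dvd_of_le hV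
      have hne : Nat.card C ≠ 27 := fun e => hCne (Subgroup.eq_of_le_of_card_ge hV (by
        rw [e, H.card_sylow_three V]))
      have key : ∀ d ∈ List.range 28, 27 % d = 0 → d ≠ 27 → d ≤ 9 := by decide +kernel
      exact key _ (List.mem_range.2 (by have := Nat.le_of_dvd (by norm_num) hd; omega))
        (Nat.mod_eq_zero_of_dvd hd) hne
    have hAeq : A = C := Subgroup.eq_of_le_of_card_ge hAC (by omega)
    have hz'U : z' ∈ (U : Subgroup G) := hAU (hAeq ▸
      Subgroup.mem_centralizer_singleton_iff.2 (hzc' x hx').symm)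
    have hv' : xval χ z' = -3 := val_central H hχ hz' hz1' hzc'
    exact eq_of_central H hχ hz'U hz' hz1' (central_of_val H hχ hz'U hv') hzc'
  · exact absurd h (val_ne_three H hχ hx3)

/-- There are twenty-eight Sylow three-subgroups. -/
theorem card_sylow_twenty_eight : Nat.card (Sylow 3 G) = 28 := by
  classical
  letI := Fintype.ofFinite (Sylow 3 G)
  have hU : ∀ U : Sylow 3 G,
      (Finset.univ.filter fun g : G => g ∈ (U : Subgroup G) ∧ g ≠ 1 ∧ xval χ g = -3).card = 2 := by
    intro U
    obtain ⟨z, hz, hz1, hzc⟩ := exists_central H hχ U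
    have hz3 := H.order_three hz hz1
    rw [show (Finset.univ.filter fun g : G => g ∈ (U : Subgroup G) ∧ g ≠ 1 ∧ xval χ g = -3) =
      {z, z⁻¹} by
      ext g
      simp only [Finset.mem_filter, Finset.mem_univ, true_and, Finset.mem_insert,
        Finset.mem_singleton]
      constructor
      · rintro ⟨hg, hg1, hgv⟩
        have hgz : g ∈ Subgroup.zpowers z :=
          (of_central H hχ hz hz1 hzc).1 g hg (central_of_val H hχ hg hgv)
        rw [← mem_powers_iff_mem_zpowers, Submonoid.mem_powers_iff] at hgz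
        obtain ⟨n, rfl⟩ := hgz
        rw [← pow_mod_orderOf, hz3] at hg1 ⊢
        have hlt : n % 3 < 3 := Nat.mod_lt _ (by norm_num)
        interval_cases h : n % 3
        · simp at hg1
        · left; rw [pow_one]
        · right
          exact eq_inv_of_mul_eq_one_left
            (by rw [← pow_succ, show 2 + 1 = orderOf z by rw [hz3], pow_orderOf_eq_one])
      · rintro (rfl | rfl)
        · exact ⟨hz, hz1, val_central H hχ hz hz1 hzc⟩
        · exact ⟨inv_mem hz, inv_ne_one.2 hz1, by
            rw [xval_inv H hχ hz3, val_central H hχ hz hz1 hzc]⟩]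
    refine Finset.card_pair fun e => ?_
    have : z ^ 2 = 1 := by
      rw [sq]
      nth_rw 1 [e]
      exact inv_mul_cancel z
    have := orderOf_dvd_of_pow_eq_one this
    rw [hz3] at this
    norm_num at this
  have h56 : (Finset.univ.biUnion fun U : Sylow 3 G =>
      Finset.univ.filter fun g : G => g ∈ (U : Subgroup G) ∧ g ≠ 1 ∧ xval χ g = -3).card = 56 := by
    rw [← card_central_set H hχ]
    congr 1
    ext g
    simp only [Finset.mem_filter, Finset.mem_univ, true_and, Finset.mem_biUnion]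
    constructor
    · rintro ⟨U, hg, hg1, hgv⟩
      exact ⟨H.order_three hg hg1, hgv⟩
    · rintro ⟨hg, hgv⟩
      obtain ⟨U, hU⟩ := H.exists_sylow_three hg
      exact ⟨U, hU, fun h => by rw [h, orderOf_one] at hg; omega, hgv⟩
  rw [Finset.card_biUnion, Finset.sum_congr rfl fun U _ => hU U, Finset.sum_const,
    Finset.card_univ, smul_eq_mul, ← Nat.card_eq_fintype_card] at h56
  · omega
  · intro U _ V _ hne
    refine Finset.disjoint_left.2 fun g hg hg' => hne ?_
    simp only [Finset.mem_filter, Finset.mem_univ, true_and] at hg hg'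
    exact ti H hχ hg.1 hg'.1 hg.2.1

end Six

namespace Hyp

variable (H : Hyp G) [Fact (Nat.Prime 3)]
include H

/-- The Sylow three-subgroups: twenty-eight, nonabelian, with trivial intersections. -/
theorem sylow_three_structure :
    Nat.card (Sylow 3 G) = 28 ∧
    (∀ U : Sylow 3 G, ∃ a ∈ (U : Subgroup G), ∃ b ∈ (U : Subgroup G), a * b ≠ b * a) ∧
    (∀ U U' : Sylow 3 G, U ≠ U' → ∀ x ∈ (U : Subgroup G), x ∈ (U' : Subgroup G) → x = 1) := by
  obtain ⟨χ, hχ⟩ := H.exists_sixChar
  exact ⟨card_sylow_twenty_eight H hχ, not_abelian H hχ, fun U U' hne x hx hx' =>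
    by_contra fun h => hne (ti H hχ hx hx' h)⟩

end Hyp

end CfsgLib.G2TwoRecog
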