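import Cfsg.Agent.LargePrime.Block
import Cfsg.Agent.BrauerOrderP.Perfect
import Cfsg.Agent.Small.ClassCheck
import Cfsg.Agent.Characters.FixedPoints

/-!
# Character tools for the recognition of `G₂(2)` by order and spectrum
-/

set_option autoImplicit false
set_option linter.unusedSectionVars false

namespace CfsgLib.G2TwoRecog

open Cfsg CfsgLib.PrincipalBlock
open scoped ComplexConjugate

universe u

variable {G : Type u} [Group G] [Fintype G]

/-- The multiplicity of a linear character in a restriction. -/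
theorem lin_mult (χ : IrrCharacter G) (H : Subgroup G) [Fintype H] (ψ : H →* ℂˣ) :
    ∃ m : ℕ, ∑ h : H, (χ : G → ℂ) h * conj (ψ h : ℂ) = (Nat.card H : ℂ) * m := by
  obtain ⟨m, hm⟩ := Characters.classInner_characters
    (Characters.isCharacter_restrict H (Characters.isCharacter_of_isIrr χ.2))
    (Characters.isCharacter_of_isIrr (Characters.isIrr_linChar ψ))
  refine ⟨m, ?_⟩
  rw [← hm, Cfsg.classInner,
    mul_inv_cancel_left₀ (Nat.cast_ne_zero.2 (Nat.card_pos (α := H)).ne')]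

/-- The sum over a subgroup. -/
theorem sum_subgroup (χ : IrrCharacter G) (H : Subgroup G) [Fintype H] :
    ∃ m : ℕ, ∑ h : H, (χ : G → ℂ) h = (Nat.card H : ℂ) * m := by
  obtain ⟨m, hm⟩ := lin_mult χ H 1
  exact ⟨m, by simpa using hm⟩

/-- The multiplicity of an eigenvalue. -/
theorem cyc_mult (χ : IrrCharacter G) (g : G) {n : ℕ} (hn : orderOf g = n) {w : ℂ}
    (hw : w ^ n = 1) :
    ∃ m : ℕ, ∑ i ∈ Finset.range n, (χ : G → ℂ) (g ^ i) * w ^ i = (n : ℂ) * m := by
  classical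
  obtain ⟨k, ρ, -, hχ⟩ := χ.2
  obtain ⟨μ, hμ, hj, -⟩ := Characters.exists_eigenvalues ρ g
  refine ⟨(Finset.univ.filter fun i => μ i * w = 1).card, ?_⟩
  rw [← hχ]
  simp only [hj, Finset.sum_mul, ← mul_pow]
  rw [Finset.sum_comm]
  have h1 : ∀ i, ∑ j ∈ Finset.range n, (μ i * w) ^ j = if μ i * w = 1 then (n : ℂ) else 0 := by
    intro i
    split_ifs with h
    · simp [h]
    · rw [geom_sum_eq h, mul_pow, hw, mul_one, ← hn, hμ i, sub_self, zero_div]
  rw [Finset.sum_congr rfl fun i _ => h1 i, ← Finset.sum_filter, Finset.sum_const, nsmul_eq_mul]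
  ring

theorem apply_conj (χ : IrrCharacter G) (a g : G) :
    (χ : G → ℂ) (a * g * a⁻¹) = (χ : G → ℂ) g :=
  Characters.isClassFunction_of_isIrr χ.2 g a

theorem apply_inv (χ : IrrCharacter G) (g : G) :
    (χ : G → ℂ) g⁻¹ = conj ((χ : G → ℂ) g) :=
  Characters.character_inv (Characters.isCharacter_of_isIrr χ.2) g

theorem apply_one (χ : IrrCharacter G) :
    (χ : G → ℂ) 1 = (Cfsg.charDegree (χ : G → ℂ) : ℂ) := (Blocks.charDegree_cast χ).symm

/-- An element of order three with real value. -/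
theorem val_three (χ : IrrCharacter G) {g : G} (hg : orderOf g = 3)
    (hreal : conj ((χ : G → ℂ) g) = (χ : G → ℂ) g) :
    ∃ v : ℤ, (χ : G → ℂ) g = v ∧ (3 : ℤ) ∣ (Cfsg.charDegree (χ : G → ℂ) : ℤ) - v ∧
      v ≤ Cfsg.charDegree (χ : G → ℂ) ∧ -(Cfsg.charDegree (χ : G → ℂ) : ℤ) ≤ 2 * v := by
  obtain ⟨ω, hω⟩ : ∃ ω : ℂ, IsPrimitiveRoot ω 3 :=
    ⟨_, Complex.isPrimitiveRoot_exp 3 (by norm_num)⟩
  have h2 : g ^ 2 = g⁻¹ := by
    refine eq_inv_of_mul_eq_one_left ?_
    rw [← pow_succ, show (2 + 1 : ℕ) = orderOf g by rw [hg], pow_orderOf_eq_one]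
  obtain ⟨m, hm⟩ := cyc_mult χ g hg (one_pow 3)
  obtain ⟨m', hm'⟩ := cyc_mult χ g hg hω.pow_eq_one
  simp only [Finset.sum_range_succ, Finset.sum_range_zero, zero_add, pow_zero, pow_one, h2,
    apply_inv, hreal, apply_one, mul_one, one_pow] at hm hm'
  have hs : 1 + ω + ω ^ 2 = 0 := by
    have := hω.geom_sum_eq_zero (by norm_num)
    simpa [Finset.sum_range_succ] using this
  set d := Cfsg.charDegree (χ : G → ℂ)
  have hv : (χ : G → ℂ) g = (((d : ℤ) - 3 * m' : ℤ) : ℂ) := by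
    push_cast at hm' ⊢
    linear_combination (χ : G → ℂ) g * hs - hm'
  refine ⟨(d : ℤ) - 3 * m', hv, ⟨m', by ring⟩, by omega, ?_⟩
  rw [hv] at hm
  have hm2 : (d : ℤ) + ((d : ℤ) - 3 * m') + ((d : ℤ) - 3 * m') = 3 * (m : ℤ) := by exact_mod_cast hm
  omega

/-- A non-trivial character of a simple group is faithful. -/
theorem eq_one_of_val_eq_deg [IsSimpleGroup G] (χ : IrrCharacter G) (hne : χ ≠ trivChar G)
    {g : G} (h : (χ : G → ℂ) g = (χ : G → ℂ) 1) : g = 1 := by
  obtain ⟨k, ρ, hirr, hχ⟩ := χ.2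
  have := hirr
  have hker : ∀ g : G, g ∈ MonoidHom.ker ρ ↔ (χ : G → ℂ) g = (χ : G → ℂ) 1 := by
    intro g
    rw [MonoidHom.mem_ker, Module.End.one_eq_id, ← Characters.char_eq_finrank_iff ρ g, ← hχ,
      Representation.char_one]
  rcases (MonoidHom.normal_ker ρ).eq_bot_or_eq_top with hb | ht
  · have := (hker g).2 h
    rwa [hb, Subgroup.mem_bot] at this
  · exfalso
    have hall : ∀ g : G, (χ : G → ℂ) g = (χ : G → ℂ) 1 := fun g => (hker g).1 (ht ▸ Subgroup.mem_top g)
    have h1 : Cfsg.classInner (χ : G → ℂ) (trivChar G : G → ℂ) = 0 := by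
      classical
      rw [Characters.classInner_irr, if_neg hne]
    rw [Cfsg.classInner] at h1
    simp only [hall, trivChar_apply, map_one, mul_one, Finset.sum_const, Finset.card_univ,
      nsmul_eq_mul, mul_eq_zero, inv_eq_zero, Nat.cast_eq_zero] at h1
    rcases h1 with h1 | h1 | h1
    · exact Nat.card_pos.ne' h1
    · exact Fintype.card_ne_zero h1
    · exact Characters.irr_one_ne_zero χ.2 h1

/-- Vanishing where the degree carries the full `r`-part of the order. -/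
theorem eq_zero_of_prime_part {r : ℕ} (hr : r.Prime) (χ : IrrCharacter G) {n d : ℕ}
    (hn : Nat.card G = n) (hd : Cfsg.charDegree (χ : G → ℂ) = d) (h : ¬ r ∣ n / d) {g : G}
    (hg : r ∣ orderOf g) : (χ : G → ℂ) g = 0 :=
  BrauerOrderP.eq_zero_of_full_part hr χ (by rwa [hn, hd]) hg

theorem orderOf_mul_eq {a b : G} (h : Commute a b) {m n : ℕ} (ha : orderOf a = m)
    (hb : orderOf b = n) (hc : Nat.Coprime m n) : orderOf (a * b) = m * n := by
  rw [h.orderOf_mul_eq_mul_orderOf_of_coprime (by rwa [ha, hb]), ha, hb]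

end CfsgLib.G2TwoRecog
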