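import Cfsg.Agent.G2TwoRecog.Local
import Cfsg.Agent.LargePrime.Degrees

/-!
# No simple group of order 12096 without elements of order 14 and 21
-/

set_option autoImplicit false
set_option linter.unusedSectionVars false
set_option linter.style.haveILetI false

namespace CfsgLib.G2TwoRecog

open Cfsg CfsgLib.PrincipalBlock CfsgLib.LargePrime
open scoped ComplexConjugate

universe u

variable {G : Type u} [Group G] [Fintype G]

theorem deg_list {d : ℕ} (h1 : 1 < d) (hd : d ∣ 12096) (h2 : d ^ 2 ≤ 12096)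
    (h7 : d % 7 = 1 ∨ d % 7 = 6) : d ∈ [6, 8, 27, 36, 48, 64] := by
  have hlt : d < 110 := by nlinarith
  have key : ∀ e ∈ List.range 110, 1 < e → 12096 % e = 0 → (e % 7 = 1 ∨ e % 7 = 6) →
      e ∈ [6, 8, 27, 36, 48, 64] := by decide +kernel
  exact key d (List.mem_range.2 hlt) h1 (Nat.mod_eq_zero_of_dvd hd) h7

set_option maxHeartbeats 1000000 in
theorem not_twelve [IsSimpleGroup G] (hna : ¬ IsMulCommutative G) (hG : Nat.card G = 12096)
    (h14 : ∀ g : G, orderOf g ≠ 14) (h21 : ∀ g : G, orderOf g ≠ 21) : False := by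
  classical
  haveI : Fact (Nat.Prime 7) := ⟨by norm_num⟩
  obtain ⟨P⟩ : Nonempty (Sylow 7 G) := inferInstance
  have hG' : Nat.card G = 7 * (2 ^ 6 * 3 ^ 3) := by rw [hG]; norm_num
  have S : Core P := core_of hna hG' h14 h21 P
  have he : eIdx P = 6 := by
    obtain ⟨h1, h2⟩ := sylow_count S
    rw [hG] at h1
    rcases eIdx_cases S with h | h | h
    · rw [h] at h1; omega
    · rw [h] at h1; omega
    · exact h
  obtain ⟨D⟩ := S.exists_blockData
  have hk : kIdx P = 1 := by rw [kIdx, he]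
  obtain ⟨θ, hθY⟩ := Finset.card_eq_one.1 (D.cardY.trans hk)
  have hθ : θ ∈ D.Y := by rw [hθY]; exact Finset.mem_singleton_self θ
  have hθX : θ ∉ D.X := Finset.disjoint_right.1 D.disj hθ
  -- an element of order six in the normalizer
  obtain ⟨g, hgN, hg6⟩ : ∃ g : G, g ∈ Subgroup.normalizer ((P : Subgroup G) : Set G) ∧
      orderOf g = 6 := by
    haveI := S.isCyclic_quot
    obtain ⟨q, hq⟩ := IsCyclic.exists_ofOrder_eq_natCard (α := Quot' P)
    obtain ⟨n, rfl⟩ := QuotientGroup.mk'_surjective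
      ((P : Subgroup G).subgroupOf (Subgroup.normalizer ((P : Subgroup G) : Set G))) q
    have hcard : Nat.card (Quot' P) = 6 := he
    rw [hcard] at hq
    refine ⟨n, n.2, ?_⟩
    have h6 : 6 ∣ orderOf (n : G) := by
      rw [Subgroup.orderOf_coe, ← hq]; exact orderOf_map_dvd _ n
    have h42 : orderOf (n : G) ∣ 42 := by
      rw [Subgroup.orderOf_coe]
      have := orderOf_dvd_natCard n
      rwa [S.card_normalizer, he] at this
    have h7 : ¬ 7 ∣ orderOf (n : G) := S.not_dvd_orderOf n.2 fun h => by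
      have : (QuotientGroup.mk' _ n : Quot' P) = 1 :=
        (QuotientGroup.eq_one_iff n).2 (Subgroup.mem_subgroupOf.2 h)
      rw [this, orderOf_one] at hq
      norm_num at hq
    have key : ∀ e : ℕ, e < 43 → 6 ∣ e → e ∣ 42 → ¬ 7 ∣ e → e = 6 := by decide
    exact key _ (by have := Nat.le_of_dvd (by norm_num) h42; omega) h6 h42 h7
  set t := g ^ 3 with ht
  have htN : t ∈ Subgroup.normalizer ((P : Subgroup G) : Set G) := pow_mem hgN 3
  have ht2 : orderOf t = 2 := by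
    rw [ht, orderOf_pow' g (by norm_num : (3 : ℕ) ≠ 0), hg6]; norm_num
  -- signs
  let σ : IrrCharacter G → ℤ := fun ψ => if ψ ∈ D.X then D.δ ψ else -D.ε
  set T := insert θ (D.X.erase (trivChar G)) with hT
  have hθT : θ ∉ D.X.erase (trivChar G) := fun h => hθX (Finset.mem_erase.1 h).2
  have hcardT : T.card = 6 := by
    rw [hT, Finset.card_insert_of_notMem hθT, Finset.card_erase_of_mem D.triv_mem, D.cardX, he]
  have hmemT : ∀ ψ ∈ T, ψ ≠ trivChar G := by
    intro ψ hψ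
    rcases Finset.mem_insert.1 hψ with rfl | h
    · exact fun h => hθX (h ▸ D.triv_mem)
    · exact (Finset.mem_erase.1 h).1
  have hsumT : ∀ f : IrrCharacter G → ℂ,
      ∑ ψ ∈ T, f ψ = f θ + (∑ χ ∈ D.X, f χ - f (trivChar G)) := by
    intro f
    rw [hT, Finset.sum_insert hθT, ← Finset.sum_erase_add _ _ D.triv_mem]
    ring
  have hfacts : ∀ ψ ∈ T, (σ ψ = 1 ∨ σ ψ = -1) ∧
      (7 : ℤ) ∣ σ ψ * Cfsg.charDegree (ψ : G → ℂ) - 1 ∧
      ∀ y ∈ (P : Subgroup G), y ≠ 1 → (ψ : G → ℂ) y = (σ ψ : ℂ) := by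
    intro ψ hψ
    rcases Finset.mem_insert.1 hψ with rfl | h
    · simp only [σ, if_neg hθX]
      refine ⟨by rcases D.ε_sign with e | e <;> rw [e] <;> norm_num, ?_, fun y hy hy1 => ?_⟩
      · have h := degY_mod D hθ
        rw [he] at h
        rcases D.ε_sign with e | e <;> rw [e] at h ⊢ <;> omega
      · have h := sum_Y_val S D hθ hy hy1
        rw [hθY, Finset.sum_singleton] at h
        rw [h, Int.cast_neg]
    · have hX := (Finset.mem_erase.1 h).2
      simp only [σ, if_pos hX]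
      refine ⟨D.δ_sign ψ hX, ?_, D.valX ψ hX⟩
      have h := degX_mod D hX
      rcases D.δ_sign ψ hX with e | e <;> rw [e] at h ⊢ <;> omega
  let a : IrrCharacter G → ℤ := fun ψ => σ ψ * Cfsg.charDegree (ψ : G → ℂ)
  have hsum_a : ∑ ψ ∈ T, a ψ = -1 := by
    have h := hsumT fun ψ => (a ψ : ℂ)
    have h2 := rel_deg S D hθ
    apply Int.cast_injective (α := ℂ)
    rw [Int.cast_sum, h, Finset.sum_congr rfl (g := fun χ : IrrCharacter G =>
      ((D.δ χ * Cfsg.charDegree (χ : G → ℂ) : ℤ) : ℂ)) fun χ hχ => by simp [a, σ, hχ],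
      ← Int.cast_sum, ← h2]
    simp [a, σ, hθX, D.triv_mem, D.δ_triv, charDegree_trivChar]
    ring
  have hsq : ∑ ψ ∈ T, (a ψ) ^ 2 ≤ 12095 := by
    have h := sum_sq_le D hθ
    rw [hG, hk, one_mul, ← Finset.sum_erase_add _ _ D.triv_mem, charDegree_trivChar] at h
    rw [Finset.sum_congr rfl (g := fun ψ : IrrCharacter G =>
      ((Cfsg.charDegree (ψ : G → ℂ) ^ 2 : ℕ) : ℤ)) fun ψ hψ => by
        simp only [a, mul_pow, Nat.cast_pow]
        rcases (hfacts ψ hψ).1 with e | e <;> rw [e] <;> norm_num,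
      ← Nat.cast_sum, hT, Finset.sum_insert hθT]
    omega
  -- values at the involution
  have hval : ∀ ψ ∈ T, ∃ v : ℤ, (ψ : G → ℂ) t = v ∧
      (a ψ = 8 ∧ v = 0 ∨ a ψ = 36 ∧ v ≤ 4 ∧ -4 ≤ v ∨ a ψ = 64 ∧ v = 0 ∨
        a ψ = -27 ∧ v = 3 ∨ a ψ = -48) := by
    intro ψ hψ
    obtain ⟨hs, h7, hb⟩ := hfacts ψ hψ
    obtain ⟨n, hn0, hn1, hn, hdvd⟩ := ClassPairs.exists_irr_degree ψ
    have hlt : 1 < n := by
      rcases Nat.lt_or_ge 1 n with h | h
      · exact h
      · exact absurd (Subtype.ext (BrauerOrderP.eq_one_of_degree_one S.perfect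
          (show Cfsg.charDegree (ψ : G → ℂ) = 1 by omega))) (hmemT ψ hψ)
    have hle : n ^ 2 ≤ 12096 := by
      have h := Finset.single_le_sum (f := fun ψ => (a ψ) ^ 2) (fun _ _ => sq_nonneg _) hψ
      have h2 : (a ψ) ^ 2 = (n : ℤ) ^ 2 := by
        simp only [a, mul_pow, hn]
        rcases hs with e | e <;> rw [e] <;> norm_num
      have : (n : ℤ) ^ 2 ≤ 12096 := by rw [← h2]; linarith
      exact_mod_cast this
    have hmem := deg_list hlt (hG ▸ hdvd) hle (by
      rw [hn] at h7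
      rcases hs with e | e <;> rw [e] at h7 <;> omega)
    obtain ⟨v, hv, hv4, -, hlo, hhi⟩ := Small.Check.exists_value hna ψ hn1 hlt ht2
    obtain ⟨h1, h2⟩ := dihedral_bound S ψ (f := n) (by rw [hn1]; norm_cast) hb htN ht2 hv
    refine ⟨v, hv, ?_⟩
    simp only [a, hn]
    rw [hn] at h7
    simp only [List.mem_cons, List.not_mem_nil, or_false] at hmem
    rcases hs with e | e <;> rw [e] at h7 h1 h2 ⊢ <;>
      rcases hmem with rfl | rfl | rfl | rfl | rfl | rfl <;> try omega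
    · -- degree 64: the full two-part
      have h0 : (ψ : G → ℂ) t = 0 :=
        eq_zero_of_prime_part Nat.prime_two ψ hG hn (by norm_num) (by rw [ht2])
      rw [h0] at hv
      have : v = 0 := by exact_mod_cast hv.symm
      omega
    -- degree 27: the element of order six
    have hz : ∀ i ∈ [1, 2, 4, 5], (ψ : G → ℂ) (g ^ i) = 0 := by
      intro i hi
      refine eq_zero_of_prime_part Nat.prime_three ψ hG hn (by norm_num) ?_
      simp only [List.mem_cons, List.not_mem_nil, or_false] at hi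
      rcases hi with rfl | rfl | rfl | rfl <;>
        rw [orderOf_pow' g (by norm_num), hg6] <;> norm_num
    obtain ⟨m, hm⟩ := cyc_mult ψ g hg6 (one_pow 6)
    simp only [Finset.sum_range_succ, Finset.sum_range_zero, zero_add, pow_zero, mul_one,
      hn1, one_pow, hz 1 (by simp), hz 2 (by simp), hz 4 (by simp), hz 5 (by simp), add_zero,
      ← ht, hv] at hm
    have : (27 : ℤ) + v = 6 * (m : ℤ) := by exact_mod_cast hm
    omega
  choose! v hv hcase using hval
  -- fibres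
  have hmap : ∀ ψ ∈ T, a ψ ∈ ({8, 36, 64, -27, -48} : Finset ℤ) := by
    intro ψ hψ
    simp only [Finset.mem_insert, Finset.mem_singleton]
    rcases hcase ψ hψ with h | h | h | h | h <;> simp [h]
  set n : ℤ → ℕ := fun c => (T.filter fun ψ => a ψ = c).card with hn
  have hfib : ∀ (f : IrrCharacter G → ℚ) (q : ℤ → ℚ),
      (∀ ψ ∈ T, f ψ = q (a ψ)) →
      ∑ ψ ∈ T, f ψ = q 8 * n 8 + q 36 * n 36 + q 64 * n 64 + q (-27) * n (-27) + q (-48) * n (-48) := by
    intro f q hfq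
    rw [← Finset.sum_fiberwise_of_maps_to hmap,
      Finset.sum_congr rfl (g := fun c => q c * n c) fun c _ => by
        rw [Finset.sum_congr rfl (g := fun _ => q c) fun ψ hψ => by
          obtain ⟨h1, h2⟩ := Finset.mem_filter.1 hψ
          rw [hfq ψ h1, h2], Finset.sum_const, nsmul_eq_mul, mul_comm]]
    simp
    ring
  have e1 : n 8 + n 36 + n 64 + n (-27) + n (-48) = 6 := by
    have h := hfib (fun _ => 1) (fun _ => 1) fun _ _ => rfl
    simp only [Finset.sum_const, nsmul_eq_mul, mul_one, one_mul, hcardT] at h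
    exact_mod_cast h.symm
  have e2 : (8 : ℤ) * n 8 + 36 * n 36 + 64 * n 64 + -27 * n (-27) + -48 * n (-48) = -1 := by
    have h := hfib (fun ψ => (a ψ : ℚ)) (fun c => (c : ℚ)) fun _ _ => rfl
    rw [← Int.cast_sum, hsum_a] at h
    push_cast at h
    exact_mod_cast h.symm
  have e3 : (64 : ℤ) * n 8 + 1296 * n 36 + 4096 * n 64 + 729 * n (-27) + 2304 * n (-48) ≤ 12095 := by
    have h := hfib (fun ψ => ((a ψ) ^ 2 : ℤ)) (fun c => (c : ℚ) ^ 2) fun _ _ => by push_cast; rfl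
    have h' : ((∑ ψ ∈ T, (a ψ) ^ 2 : ℤ) : ℚ) ≤ 12095 := by exact_mod_cast hsq
    rw [Int.cast_sum, h] at h'
    norm_num at h'
    exact_mod_cast h'
  have e48 : n (-48) = 0 ∧ n (-27) = 3 ∧ (n 36 = 0 ∨ n 36 = 2) := by omega
  have hno : ∀ ψ ∈ T, a ψ ≠ -48 := fun ψ hψ h =>
    absurd e48.1 (Finset.card_pos.2 ⟨ψ, Finset.mem_filter.2 ⟨hψ, h⟩⟩).ne'
  -- the relation at the involution
  have hrel : ∑ ψ ∈ T, σ ψ * v ψ = -1 := by
    have h := hsumT fun ψ => (σ ψ : ℂ) * (ψ : G → ℂ) t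
    apply Int.cast_injective (α := ℂ)
    rw [Int.cast_sum, Finset.sum_congr rfl (g := fun ψ => (σ ψ : ℂ) * (ψ : G → ℂ) t) fun ψ hψ => by
      rw [Int.cast_mul, hv ψ hψ], h, Finset.sum_congr rfl (g := fun χ : IrrCharacter G =>
      (D.δ χ : ℂ) * (χ : G → ℂ) t) fun χ hχ => by simp [σ, hχ],
      ← D.rel θ hθ t (by rw [ht2]; norm_num)]
    simp [σ, hθX, D.triv_mem, D.δ_triv]
    ring
  set F := T.filter fun ψ => a ψ = 36 with hF
  have hσ : ∀ ψ ∈ T, a ψ = 36 → σ ψ = 1 := by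
    intro ψ hψ h
    rcases (hfacts ψ hψ).1 with e | e
    · exact e
    · simp only [a, e] at h; omega
  have hsplit : ∑ ψ ∈ T, σ ψ * v ψ = ∑ ψ ∈ F, v ψ + -3 * (n (-27) : ℤ) := by
    rw [Finset.sum_congr rfl (g := fun ψ => (if a ψ = 36 then v ψ else 0) +
        (if a ψ = -27 then (-3 : ℤ) else 0)) fun ψ hψ => ?_,
      Finset.sum_add_distrib, ← Finset.sum_filter, ← Finset.sum_filter, Finset.sum_const,
      nsmul_eq_mul, mul_comm (((T.filter fun ψ => a ψ = -27).card : ℕ) : ℤ)]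
    rcases hcase ψ hψ with ⟨h, h'⟩ | ⟨h, h'⟩ | ⟨h, h'⟩ | ⟨h, h'⟩ | h
    · simp [h, h']
    · simp [h, hσ ψ hψ h]
    · simp [h, h']
    · have : σ ψ = -1 := by
        rcases (hfacts ψ hψ).1 with e | e
        · simp only [a, e] at h; omega
        · exact e
      simp [h, h', this]
    · exact absurd h (hno ψ hψ)
  have hFle : ∀ ψ ∈ F, v ψ ≤ 4 := by
    intro ψ hψ
    obtain ⟨h1, h2⟩ := Finset.mem_filter.1 hψ
    rcases hcase ψ h1 with h | h | h | h | h <;> omega
  have hF8 : ∑ ψ ∈ F, v ψ = 8 := by omega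
  have hF2 : n 36 = 2 := by
    rcases e48.2.2 with h | h
    · have : F = ∅ := Finset.card_eq_zero.1 h
      simp [this] at hF8
    · exact h
  have hF4 : ∀ ψ ∈ F, v ψ = 4 := by
    refine (Finset.sum_eq_sum_iff_of_le hFle).1 ?_
    rw [hF8, Finset.sum_const, nsmul_eq_mul, show F.card = 2 from hF2]
    norm_num
  -- the class equation
  have hcount := invol_count S D hθ ht2
  rw [if_pos ⟨t, htN, IsConj.refl t⟩, hG] at hcount
  have htot : ∑ χ ∈ D.X, (D.δ χ : ℂ) * (χ : G → ℂ) t ^ 2 / (χ : G → ℂ) 1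
      - (D.ε : ℂ) * (θ : G → ℂ) t ^ 2 / (θ : G → ℂ) 1 = ((8 / 9 : ℚ) : ℂ) := by
    have h := hsumT fun ψ => (σ ψ : ℂ) * (ψ : G → ℂ) t ^ 2 / (ψ : G → ℂ) 1
    have eT : ∑ ψ ∈ T, (σ ψ : ℂ) * (ψ : G → ℂ) t ^ 2 / (ψ : G → ℂ) 1 =
        ((∑ ψ ∈ T, (((v ψ) ^ 2 : ℤ) : ℚ) / (a ψ : ℚ) : ℚ) : ℂ) := by
      rw [Rat.cast_sum]
      refine Finset.sum_congr rfl fun ψ hψ => ?_
      rw [hv ψ hψ, apply_one]
      simp only [a]
      rcases (hfacts ψ hψ).1 with e | e <;> rw [e] <;> push_cast <;> ring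
    rw [Finset.sum_congr (s₂ := D.X) rfl (g := fun χ : IrrCharacter G =>
      (D.δ χ : ℂ) * (χ : G → ℂ) t ^ 2 / (χ : G → ℂ) 1) fun χ hχ => by simp [σ, hχ], eT] at h
    rw [hfib _ (fun c => if c = 36 then 16 / 36 else if c = -27 then 9 / -27 else 0)
      fun ψ hψ => ?_] at h
    · simp [σ, hθX, D.triv_mem, D.δ_triv, e48.2.1, hF2] at h
      push_cast
      linear_combination -h
    · rcases hcase ψ hψ with ⟨hc, hc'⟩ | ⟨hc, hc'⟩ | ⟨hc, hc'⟩ | ⟨hc, hc'⟩ | hc
      · simp [hc, hc']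
      · rw [hF4 ψ (Finset.mem_filter.2 ⟨hψ, hc⟩)]; norm_num [hc]
      · simp [hc, hc']
      · norm_num [hc, hc']
      · exact absurd hc (hno ψ hψ)
  rw [htot] at hcount
  set c := Nat.card (Subgroup.centralizer ({t} : Set G))
  have hc : c ^ 2 = 1536 := by
    have : (7 : ℂ) * (c : ℂ) ^ 2 = 7 * 1536 := by rw [hcount]; norm_num
    exact_mod_cast mul_left_cancel₀ (by norm_num : (7 : ℂ) ≠ 0) this
  have hlt : c < 40 := by nlinarith
  interval_cases c <;> omega

end CfsgLib.G2TwoRecog
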